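import Cfsg.Agent.H167.EX.Root
import Cfsg.Agent.KFacts.Mult.Chev

/-!
# Centralisers of `z = ph (hS (-1))` (helper167, S4312, exceptional groups)

* `pow_memL` : `g` commutes with the toral element `t` of prime order `q`: `g ^ q ^ m ∈ MM t ⊔ T`;
* `LC` : the product of `ph (SL₂)` and its centraliser;
* `mem_LC` : an element of odd order commuting with `z` lies in `LC`.
-/

set_option autoImplicit false
set_option linter.unusedSectionVars false

namespace Cfsg.Agent.H167.EX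

open CoxeterSystem Cfsg Cfsg.Lie Cfsg.Lie.ChevalleyDatum
open Cfsg.Agent.ChevalleyStructure Cfsg.Agent.ChevalleyStructure.Elts Cfsg.Agent.ChevalleyStructure.CoxeterGeom
  Cfsg.Agent.ChevalleyStructure.CoxeterGeomTypes Cfsg.Agent.ChevalleyStructure.NPerm
open Cfsg.Agent.Tits.Roots Cfsg.Agent.Tits.Core Cfsg.Agent.Nodes Cfsg.Agent.Nodes.Reps Cfsg.Agent.Nodes.BNOf
  Cfsg.Agent.Nodes.RGDChev Cfsg.Agent.Nodes.Bruhat Cfsg.Agent.Nodes.NormalForm
open Cfsg.Agent.KFacts.RgdField Cfsg.Agent.KFacts.RgdChevCoord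
open Cfsg.Agent.BpExc Cfsg.Agent.BpExc.TorCent Cfsg.Agent.BpExc.TorChev Cfsg.Agent.BpExc.Tow
  Cfsg.Agent.BpExc.TowChev Cfsg.Agent.BpExc.Fr Cfsg.Agent.BpExc.Pair Cfsg.Agent.BpExc.LangFr Cfsg.Agent.GpExc.Field
  Cfsg.Agent.BpExc.TorAll
open Cfsg.Agent.H469.Exc Cfsg.Agent.H469.Exc.SigFr
open Cfsg.Agent.Nodes.RGDFoldSL
open Cfsg.Agent.ChevalleyStructure.SL2Hom (up lo mem_closure_SL2)
open Module

universe u v

variable {D : ChevalleyDatum} {l : ℕ} {M : CoxeterMatrix (Fin l)} (hp : IsType D l M) {k : Type u} [Field k]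

/-! ### centralisers of toral elements of prime order -/

theorem pow_mem_fin {K : Type u} [Field K] [Finite K] (p : ℕ) [Fact p.Prime] [CharP K p] {x : ↥(D.group K)}
    (hx : x ∈ TT D K) {q : ℕ} (hq : q.Prime) (hxq : x ^ q = 1) {g : ↥(D.group K)} (hg : g * x = x * g) :
    ∃ m : ℕ, g ^ q ^ m ∈ MM M.toCoxeterSystem hp.isCartan (XX D l K) (ch hp) x ⊔ TT D K := by
  have := finite_W hp M.toCoxeterSystem
  have R := rgd (K := K) hp M.toCoxeterSystem p
  have C := coords (K := K) hp M.toCoxeterSystem p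
  refine TorCent.exists_pow_mem R C hx (TT_comm hp) (chAdd hp M.toCoxeterSystem p) hq (fun a ha => ?_) ?_ ?_
  · have h1 : ∀ m : ℕ, ch hp a (x ^ m) = ch hp a x ^ m := by
      intro m
      induction m with
      | zero =>
        have h1 := (C.coord a ha).chi_mul (one_mem (TT D K)) (one_mem _)
        rw [mul_one] at h1
        rw [pow_zero, pow_zero]
        exact (mul_eq_left₀ ((C.coord a ha).chi_ne_zero (one_mem _))).1 h1.symm
      | succ m ih => rw [pow_succ, pow_succ, (C.coord a ha).chi_mul (pow_mem hx m) hx, ih]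
    have h2 := h1 q
    rw [hxq] at h2
    rw [← h2]
    have h3 := (C.coord a ha).chi_mul (one_mem (TT D K)) (one_mem _)
    rw [mul_one] at h3
    exact (mul_eq_left₀ ((C.coord a ha).chi_ne_zero (one_mem _))).1 h3.symm
  · rw [GG_top hp M.toCoxeterSystem]
    exact Subgroup.mem_top g
  · exact Subgroup.mem_centralizer_singleton_iff.2 hg

theorem pow_memL (hk : LocFin k) (p : ℕ) [Fact p.Prime] [CharP k p] {t : ↥(D.group k)} (ht : t ∈ TT D k) {q : ℕ}
    (hq : q.Prime) (htq : t ^ q = 1) {g : ↥(D.group k)} (hg : g * t = t * g) :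
    ∃ m : ℕ, g ^ q ^ m ∈ MM M.toCoxeterSystem hp.isCartan (XX D l k) (ch hp) t ⊔ TT D k := by
  obtain ⟨E1, h1⟩ := exists_TT hp hk ht
  obtain ⟨E2, h2⟩ := exists_level hp hk g
  obtain ⟨E, h3, h4⟩ := dir_lev hk E1 E2
  obtain ⟨t', ht', rfl⟩ := h1 E h3
  obtain ⟨g', rfl⟩ := h2 E h4
  have := charP_lev p E.1
  set f := emb hp.inList E.1.subtype with hf
  have hinj : Function.Injective f := emb_injective hp.inList _
  obtain ⟨m, hm⟩ := pow_mem_fin (K := ↥E.1) hp p ht' hq (by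
    apply hinj
    rw [map_pow, map_one]
    exact htq) (g := g') (by
    apply hinj
    rw [map_mul, map_mul]
    exact hg)
  refine ⟨m, ?_⟩
  have h5 : (MM M.toCoxeterSystem hp.isCartan (XX D l ↥E.1) (ch hp) t' ⊔ TT D ↥E.1) ≤
      (MM M.toCoxeterSystem hp.isCartan (XX D l k) (ch hp) (f t') ⊔ TT D k).comap f := by
    refine sup_le (RGD.Sup_le fun a ha => ?_) ?_
    · obtain ⟨s, hs, rfl⟩ := (isRoot_iff hp M.toCoxeterSystem a).1 ha.1
      intro y hy
      refine Subgroup.mem_sup_left (RGD.le_Sup (S := Sx M.toCoxeterSystem hp.isCartan (ch hp) (f t')) ?_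
        (emb_X hp _ M.toCoxeterSystem ha.1 ⟨y, hy, rfl⟩))
      refine ⟨ha.1, ?_⟩
      rw [hf, emb_ch hp _ hs ht', ha.2, map_one]
    · intro y hy
      exact Subgroup.mem_sup_right (emb_T hp _ ⟨y, hy, rfl⟩)
  have h6 := h5 hm
  rw [Subgroup.mem_comap, map_pow] at h6
  exact h6

/-! ### the subgroup `LC` -/

variable {s : ℕ} (hs : s < D.nroots)

include hs in
theorem xs_eq_xc (a : k) : xs hp.inList s a = xc hp (vec D l s) a := Subtype.ext (coe_xc hp hs a).symm

theorem mem_cent {c : ↥(D.group k)} (h1 : ∀ t, c * xs hp.inList s t = xs hp.inList s t * c)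
    (h2 : ∀ t, c * xs hp.inList (D.neg s) t = xs hp.inList (D.neg s) t * c) :
    c ∈ Subgroup.centralizer ((ph hp k hs).range : Set ↥(D.group k)) := by
  rw [Subgroup.mem_centralizer_iff]
  rintro _ ⟨g, rfl⟩
  have h3 : g ∈ (Subgroup.centralizer {c}).comap (ph hp k hs) := by
    refine (Subgroup.closure_le _).2 ?_ (mem_closure_SL2 g)
    rintro _ (⟨t, rfl⟩ | ⟨t, rfl⟩)
    · show ph hp k hs (up t) ∈ Subgroup.centralizer {c}
      rw [ph_up, Subgroup.mem_centralizer_singleton_iff]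
      exact (h1 t).symm
    · show ph hp k hs (lo t) ∈ Subgroup.centralizer {c}
      rw [ph_lo, Subgroup.mem_centralizer_singleton_iff]
      exact (h2 t).symm
  exact Subgroup.mem_centralizer_singleton_iff.1 (Subgroup.mem_comap.1 h3)

/-- `L · C(L)` -/
noncomputable def LC : Subgroup ↥(D.group k) where
  carrier := {g | ∃ A : SL k, ∃ c ∈ Subgroup.centralizer ((ph hp k hs).range : Set ↥(D.group k)), g = ph hp k hs A * c}
  one_mem' := ⟨1, 1, one_mem _, by rw [map_one, one_mul]⟩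
  mul_mem' := by
    rintro _ _ ⟨A, c, hc, rfl⟩ ⟨B, d, hd, rfl⟩
    refine ⟨A * B, c * d, mul_mem hc hd, ?_⟩
    have h1 := Subgroup.mem_centralizer_iff.1 hc _ ⟨B, rfl⟩
    rw [map_mul, mul_assoc, mul_assoc, ← mul_assoc c, ← h1, mul_assoc]
  inv_mem' := by
    rintro _ ⟨A, c, hc, rfl⟩
    refine ⟨A⁻¹, c⁻¹, inv_mem hc, ?_⟩
    have h1 := Subgroup.mem_centralizer_iff.1 (inv_mem hc) _ ⟨A⁻¹, rfl⟩
    rw [mul_inv_rev, ← map_inv, h1]

theorem mem_LC {g : ↥(D.group k)} : g ∈ LC hp (k := k) hs ↔ ∃ A : SL k,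
    ∃ c ∈ Subgroup.centralizer ((ph hp k hs).range : Set ↥(D.group k)), g = ph hp k hs A * c := Iff.rfl

include hs in
theorem ch_neg (p : ℕ) [Fact p.Prime] [CharP k p] (hk : LocFin k) {t : ↥(D.group k)} (ht : t ∈ TT D k) :
    ch hp (vec D l (D.neg s)) t = (ch hp (vec D l s) t)⁻¹ := by
  obtain ⟨φ, h0, hadd, hφ⟩ := chAddL (k := k) hp M.toCoxeterSystem hk p t ht
  have hn := neg_lt hp.inList hs
  rw [hφ _ (isRoot_vec hp M.toCoxeterSystem hs), hφ _ (isRoot_vec hp M.toCoxeterSystem hn), vec_neg hp hs]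
  have h1 := hadd (vec D l s) (-vec D l s)
  rw [add_neg_cancel, h0] at h1
  exact eq_inv_of_mul_eq_one_right h1.symm

include hs in
theorem act_xs {t : ↥(D.group k)} (ht : t ∈ TT D k) (a : k) :
    t * xs hp.inList s a * t⁻¹ = xs hp.inList s (ch hp (vec D l s) t * a) := by
  rw [xs_eq_xc hp hs, xs_eq_xc hp hs]
  exact (act hp hs ht).2 a

include hs in
theorem comm_xs_of_ch {t : ↥(D.group k)} (ht : t ∈ TT D k) (h : ch hp (vec D l s) t = 1) (a : k) :
    t * xs hp.inList s a = xs hp.inList s a * t := by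
  have h1 := act_xs hp hs ht a
  rw [h, one_mul] at h1
  exact mul_inv_eq_iff_eq_mul.1 h1

theorem TT_le_LC [IsAlgClosed k] (p : ℕ) [Fact p.Prime] [CharP k p] (hk : LocFin k) : TT D k ≤ LC hp (k := k) hs := by
  intro t ht
  obtain ⟨μ, hμ⟩ := IsAlgClosed.exists_pow_nat_eq (ch hp (vec D l s) t) (show 0 < 2 by norm_num)
  have h0 := (act hp hs ht).1
  have hμ0 : μ ≠ 0 := by
    rintro rfl
    apply h0
    rw [← hμ, zero_pow (by norm_num)]
  have hh := ph_hS_mem hp (k := k) hs hμ0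
  have hc : (ph hp k hs (hS μ))⁻¹ * t ∈ TT D k := mul_mem (inv_mem hh) ht
  have e1 : ch hp (vec D l s) ((ph hp k hs (hS μ))⁻¹ * t) = 1 := by
    have h2 := ch_mul hp p hk hs hh hc
    rw [mul_inv_cancel_left, ch_ph_hS hp hs p hk hμ0 hs] at h2
    have h3 : HMatDiagAll.expo D s s = 2 := by unfold HMatDiagAll.expo; rw [if_pos rfl]
    rw [h3, ← hμ] at h2
    have h4 : μ ^ (2 : ℤ) = μ ^ 2 := by norm_cast
    rw [h4] at h2
    exact (mul_eq_left₀ (pow_ne_zero 2 hμ0)).1 h2.symm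
  refine (mem_LC hp hs).2 ⟨hS μ, (ph hp k hs (hS μ))⁻¹ * t, mem_cent hp hs (comm_xs_of_ch hp hs hc e1)
    (comm_xs_of_ch hp (neg_lt hp.inList hs) hc ?_), by rw [mul_inv_cancel_left]⟩
  rw [ch_neg hp hs p hk hc, e1, inv_one]

/-! ### good roots -/

/-- the properties of the root used below -/
def good (D : ChevalleyDatum) (s : ℕ) : Bool :=
  decide (s < D.nroots) && two D s && ((List.range D.nroots).all fun r =>
    decide (HMatDiagAll.expo D s r % 2 ≠ 0) || decide (r = s) || decide (r = D.neg s) ||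
      ((D.commTerms s r).isEmpty && (D.commTerms (D.neg s) r).isEmpty)) &&
    ((List.range D.nroots).any fun r => decide (HMatDiagAll.expo D s r = 1))

theorem good_spec (h : good D s = true) : s < D.nroots ∧ two D s = true ∧ (∀ r < D.nroots,
    HMatDiagAll.expo D s r % 2 = 0 → r = s ∨ r = D.neg s ∨
      ((D.commTerms s r).isEmpty = true ∧ (D.commTerms (D.neg s) r).isEmpty = true)) ∧
    ∃ r < D.nroots, HMatDiagAll.expo D s r = 1 := by
  unfold good at h
  rw [Bool.and_eq_true, Bool.and_eq_true, Bool.and_eq_true, decide_eq_true_iff] at h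
  obtain ⟨⟨⟨h1, h2⟩, h3⟩, h4⟩ := h
  refine ⟨h1, h2, fun r hr he => ?_, ?_⟩
  · have h5 := (List.all_eq_true.1 h3) r (List.mem_range.2 hr)
    rw [Bool.or_eq_true, Bool.or_eq_true, Bool.or_eq_true, decide_eq_true_iff, decide_eq_true_iff,
      decide_eq_true_iff, Bool.and_eq_true] at h5
    rcases h5 with ((h5 | h5) | h5) | h5
    · exact absurd he h5
    · exact Or.inl h5
    · exact Or.inr (Or.inl h5)
    · exact Or.inr (Or.inr h5)
  · obtain ⟨r, hr, h5⟩ := List.any_eq_true.1 h4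
    exact ⟨r, List.mem_range.1 hr, of_decide_eq_true h5⟩

include hp hs in
theorem neg_neg_eq : D.neg (D.neg s) = s := by
  have h1 := neg_lt hp.inList hs
  refine vec_inj hp (neg_lt hp.inList h1) hs ?_
  rw [vec_neg hp h1, vec_neg hp hs, _root_.neg_neg]

/-- the element `z` -/
noncomputable def zz : ↥(D.group k) := ph hp k hs (hS (-1))

theorem zz_mem : zz hp (k := k) hs ∈ TT D k := ph_hS_mem hp hs (neg_ne_zero.2 one_ne_zero)

theorem zz_sq : zz hp (k := k) hs ^ 2 = 1 := by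
  unfold zz
  rw [← map_pow, hS_neg_sq, map_one]

theorem expo_even (h2 : (2 : k) ≠ 0) (p : ℕ) [Fact p.Prime] [CharP k p] (hk : LocFin k) {r : ℕ} (hr : r < D.nroots)
    (h : ch hp (vec D l r) (zz hp (k := k) hs) = 1) : HMatDiagAll.expo D s r % 2 = 0 := by
  unfold zz at h
  rw [ch_ph_hS hp hs p hk (neg_ne_zero.2 one_ne_zero) hr] at h
  by_contra hne
  have h1 : HMatDiagAll.expo D s r % 2 = 1 := by omega
  rw [Odd.neg_one_zpow (Int.odd_iff.2 h1)] at h
  apply h2
  linear_combination -h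

theorem X_le_LC (hg : good D s = true) {r : ℕ} (hr : r < D.nroots)
    (h : HMatDiagAll.expo D s r % 2 = 0) : XX D l k (vec D l r) ≤ LC hp (k := k) hs := by
  intro y hy
  obtain ⟨t, ht⟩ := (LangThm.mem_XX_vec hp hr).1 hy
  have hy' : y = xs hp.inList r t := Subtype.ext ht
  subst hy'
  rcases (good_spec hg).2.2.1 r hr h with h3 | h3 | ⟨h3, h4⟩
  · subst h3
    exact (mem_LC hp hs).2 ⟨up t, 1, one_mem _, by rw [ph_up, mul_one]⟩
  · subst h3
    exact (mem_LC hp hs).2 ⟨lo t, 1, one_mem _, by rw [ph_lo, mul_one]⟩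
  · by_cases e1 : r = s
    · subst e1
      exact (mem_LC hp hs).2 ⟨up t, 1, one_mem _, by rw [ph_up, mul_one]⟩
    by_cases e2 : r = D.neg s
    · subst e2
      exact (mem_LC hp hs).2 ⟨lo t, 1, one_mem _, by rw [ph_lo, mul_one]⟩
    refine (mem_LC hp hs).2 ⟨1, _, mem_cent hp hs (fun u => ?_) (fun u => ?_), by rw [map_one, one_mul]⟩
    · exact Subtype.ext (KFacts.Mult.Chev.commute_of_empty hp hs hr e1 e2 h3 u t)
    · exact Subtype.ext (KFacts.Mult.Chev.commute_of_empty hp (neg_lt hp.inList hs) hr e2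
        (by rw [neg_neg_eq hp hs]; exact e1) h4 u t)

/-- **Elements of odd order commuting with `z`.** -/
theorem mem_LC_of_comm [IsAlgClosed k] (h2 : (2 : k) ≠ 0) (p : ℕ) [Fact p.Prime] [CharP k p] (hk : LocFin k)
    (hg : good D s = true) {n : ↥(D.group k)} (hn : n * zz hp (k := k) hs = zz hp (k := k) hs * n) {m : ℕ} (hm : Odd m)
    (hnm : n ^ m = 1) : n ∈ LC hp (k := k) hs := by
  obtain ⟨j, hj⟩ := pow_memL hp hk p (zz_mem hp hs) Nat.prime_two (zz_sq hp hs) hn
  have h3 : MM M.toCoxeterSystem hp.isCartan (XX D l k) (ch hp) (zz hp (k := k) hs) ⊔ TT D k ≤ LC hp (k := k) hs := by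
    refine sup_le (RGD.Sup_le fun a ha => ?_) (TT_le_LC hp hs p hk)
    obtain ⟨r, hr, rfl⟩ := (isRoot_iff hp M.toCoxeterSystem a).1 ha.1
    exact X_le_LC hp hs hg hr (expo_even hp hs h2 p hk hr ha.2)
  have h4 := h3 hj
  have hcop : Nat.Coprime (orderOf n) (2 ^ j) := by
    refine Nat.Coprime.pow_right j ?_
    refine Nat.Coprime.coprime_dvd_left (orderOf_dvd_of_pow_eq_one hnm) ?_
    exact Nat.coprime_two_right.2 hm
  have h5 : n ∈ Subgroup.zpowers (n ^ 2 ^ j) := mem_zpowers_pow_iff.2 hcop.symm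
  exact (Subgroup.zpowers_le.2 h4) h5

end Cfsg.Agent.H167.EX
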