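import Cfsg.Agent.H167.EX.ChkAll

/-!
# The combinatorial conditions for `E7` (helper167, S4312, exceptional groups)
-/

set_option autoImplicit false

namespace Cfsg.Agent.H167.EX

open Cfsg Cfsg.Lie Cfsg.Lie.ChevalleyDatum Cfsg.Agent.ChevalleyStructure

def LE7 : List ℕ := [0, 1, 2, 3, 4, 5]

def wE7 : List ℕ :=
    [1, 0, 0, 0, 0, 0, 0, 0, 0, 0, 0, 0, 0, 0, 0, 0, 0, 0, 0, 0, 0, 0, 0, 0, 0, 0, 0, 0, 0, 0, 0, 0, 0, 1, 1,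
    1, 1, 1, 1, 1, 1, 1, 1, 2, 2, 2, 2, 3, 1, 1, 1, 1, 1, 2, 2, 2, 2, 3, 3, 3, 4, 4, 5, 5, 4, 4, 3, 3, 3, 2,
    2, 2, 2, 1, 1, 1, 1, 1, 3, 2, 2, 2, 2, 1, 1, 1, 1, 1, 1, 1, 1, 1, 1, 0, 0, 0, 0, 0, 0, 0, 0, 0, 0, 0, 0,
    0, 0, 0, 0, 0, 0, 0, 0, 0, 0, 0, 0, 0, 0, 0, 0, 0, 0, 0, 0, 1]

def vE7 : List ℕ :=
    [1, 0, 0, 0, 0, 0, 0, 0, 0, 0, 0, 0, 0, 0, 0, 0, 0, 0, 0, 0, 0, 0, 0, 0, 0, 0, 0, 0, 0, 0, 0, 0, 0, 1, 1,
    1, 1, 1, 1, 1, 1, 1, 1, 2, 2, 2, 2, 3, 1, 1, 1, 1, 1, 2, 2, 2, 2, 3, 3, 3, 4, 4, 5, 6, 5, 6, 4, 5, 6, 3,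
    4, 5, 6, 2, 3, 4, 5, 6, 7, 7, 8, 9, 10, 7, 8, 9, 10, 11, 12, 13, 14, 15, 16, 1, 2, 3, 4, 5, 6, 7, 8, 9,
    10, 11, 12, 13, 14, 15, 16, 17, 18, 19, 20, 21, 22, 23, 24, 25, 26, 27, 28, 29, 30, 31, 32, 93]

theorem oddE7 : oddB chevE7 LE7 wE7 = true := by decide +kernel

theorem oneE7 : oneB chevE7 vE7 = true := by decide +kernel

theorem nodupE7 : ((List.range chevE7.nroots).map (code chevE7 LE7)).Nodup := by decide +kernel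

theorem chkE7 : Chk chevE7 LE7 id := chk_of_nodup oddE7 oneE7 nodupE7

theorem twoE7_0 : two chevE7 0 = true := by decide +kernel

theorem twoE7_1 : two chevE7 1 = true := by decide +kernel

theorem twoE7_2 : two chevE7 2 = true := by decide +kernel

theorem twoE7_3 : two chevE7 3 = true := by decide +kernel

theorem twoE7_4 : two chevE7 4 = true := by decide +kernel

theorem twoE7_5 : two chevE7 5 = true := by decide +kernel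

theorem twoE7 : ∀ d ∈ LE7, two chevE7 d = true := by
  intro d hd
  have h : d = 0 ∨ d = 1 ∨ d = 2 ∨ d = 3 ∨ d = 4 ∨ d = 5 := by simpa [LE7] using hd
  rcases h with rfl | rfl | rfl | rfl | rfl | rfl
  · exact twoE7_0
  · exact twoE7_1
  · exact twoE7_2
  · exact twoE7_3
  · exact twoE7_4
  · exact twoE7_5

theorem ltE7 : ∀ d ∈ LE7, d < chevE7.nroots := by decide +kernel

end Cfsg.Agent.H167.EX
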