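import Cfsg.Agent.H167.EX.ChkAll

/-!
# The combinatorial conditions for `E8` (helper167, S4312, exceptional groups)
-/

set_option autoImplicit false

namespace Cfsg.Agent.H167.EX

open Cfsg Cfsg.Lie Cfsg.Lie.ChevalleyDatum Cfsg.Agent.ChevalleyStructure

def LE8 : List ℕ := [0, 1, 2, 3, 4, 5, 6]

def wE8 : List ℕ :=
    [1, 0, 0, 0, 0, 0, 0, 0, 0, 0, 0, 0, 0, 1, 0, 0, 0, 0, 0, 0, 1, 0, 0, 0, 0, 1, 0, 0, 0, 1, 0, 0, 1, 0, 1,
    2, 0, 0, 0, 1, 0, 0, 1, 0, 1, 2, 0, 0, 1, 0, 1, 2, 0, 1, 2, 3, 0, 0, 1, 0, 1, 2, 0, 1, 2, 3, 0, 1, 2, 3,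
    4, 0, 1, 2, 3, 4, 5, 6, 0, 0, 1, 0, 1, 2, 0, 1, 2, 3, 0, 1, 2, 3, 4, 0, 1, 2, 3, 4, 5, 0, 1, 2, 3, 4, 5,
    0, 1, 2, 3, 4, 0, 1, 2, 3, 0, 1, 2, 0, 1, 0, 0, 1, 0, 2, 1, 0, 3, 2, 1, 0, 4, 3, 2, 1, 0, 5, 4, 3, 2, 1,
    0, 5, 4, 3, 2, 1, 0, 4, 3, 2, 1, 0, 3, 2, 1, 0, 2, 1, 0, 1, 0, 0, 6, 5, 4, 3, 2, 1, 0, 4, 3, 2, 1, 0, 3,
    2, 1, 0, 2, 1, 0, 1, 0, 0, 3, 2, 1, 0, 2, 1, 0, 1, 0, 0, 2, 1, 0, 1, 0, 0, 1, 0, 0, 0, 2, 1, 0, 1, 0, 0,
    1, 0, 0, 0, 1, 0, 0, 0, 0, 1, 0, 0, 0, 0, 0, 0, 1, 0, 0, 0, 0, 0, 0, 0, 0, 0, 0, 0, 0, 1]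

def vE8 : List ℕ :=
    [1, 0, 0, 0, 0, 0, 0, 0, 0, 0, 0, 0, 0, 1, 0, 0, 0, 0, 0, 0, 1, 0, 0, 0, 0, 1, 0, 0, 0, 1, 0, 0, 1, 0, 1,
    2, 0, 0, 0, 1, 0, 0, 1, 0, 1, 2, 0, 0, 1, 0, 1, 2, 0, 1, 2, 3, 0, 0, 1, 0, 1, 2, 0, 1, 2, 3, 0, 1, 2, 3,
    4, 0, 1, 2, 3, 4, 5, 6, 0, 0, 1, 0, 1, 2, 0, 1, 2, 3, 0, 1, 2, 3, 4, 0, 1, 2, 3, 4, 5, 0, 1, 2, 3, 4, 5,
    0, 1, 2, 3, 4, 0, 1, 2, 3, 0, 1, 2, 0, 1, 0, 1, 2, 2, 3, 3, 3, 4, 4, 4, 4, 5, 5, 5, 5, 5, 6, 6, 6, 6, 6,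
    6, 7, 7, 7, 7, 7, 7, 8, 8, 8, 8, 8, 9, 9, 9, 9, 10, 10, 10, 11, 11, 12, 14, 14, 14, 14, 14, 14, 14, 15,
    15, 15, 15, 15, 16, 16, 16, 16, 17, 17, 17, 18, 18, 19, 21, 21, 21, 21, 22, 22, 22, 23, 23, 24, 26, 26,
    26, 27, 27, 28, 30, 30, 31, 33, 36, 36, 36, 37, 37, 38, 40, 40, 41, 43, 46, 46, 47, 49, 52, 56, 56, 57,
    59, 62, 66, 71, 78, 78, 79, 81, 84, 88, 93, 99, 105, 110, 114, 117, 119, 120]

theorem oddE8 : oddB chevE8 LE8 wE8 = true := by decide +kernel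

/-- the condition of `oneB` at one root -/
def oneAt (D : ChevalleyDatum) (w : List ℕ) (b : ℕ) : Bool :=
  decide (w.getD b 0 < D.nroots) && decide (HMatDiagAll.expo D b (w.getD b 0) = 1)

theorem oneE8_0 : ((List.range' 0 40).all (oneAt chevE8 vE8)) = true := by decide +kernel

theorem oneE8_1 : ((List.range' 40 40).all (oneAt chevE8 vE8)) = true := by decide +kernel

theorem oneE8_2 : ((List.range' 80 40).all (oneAt chevE8 vE8)) = true := by decide +kernel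

theorem oneE8_3 : ((List.range' 120 40).all (oneAt chevE8 vE8)) = true := by decide +kernel

theorem oneE8_4 : ((List.range' 160 40).all (oneAt chevE8 vE8)) = true := by decide +kernel

theorem oneE8_5 : ((List.range' 200 40).all (oneAt chevE8 vE8)) = true := by decide +kernel

theorem nE8 : chevE8.nroots = 240 := by decide +kernel

theorem rangeE8 : List.range 240 = List.range' 0 40 ++ (List.range' 40 40 ++ (List.range' 80 40 ++
    (List.range' 120 40 ++ (List.range' 160 40 ++ List.range' 200 40)))) := by decide +kernel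

theorem oneE8 : oneB chevE8 vE8 = true := by
  have h : ((List.range chevE8.nroots).all (oneAt chevE8 vE8)) = true := by
    rw [nE8, rangeE8, List.all_append, List.all_append, List.all_append, List.all_append, List.all_append, oneE8_0,
      oneE8_1, oneE8_2, oneE8_3, oneE8_4, oneE8_5]
    rfl
  exact h

/-- the codes of the roots -/
def codesE8 : List ℕ :=
  [5462, 5465, 5477, 5525, 5717, 6485, 9557, 1365, 4437, 5205, 5397, 5445, 5457, 5460, 5461, 341, 1109, 1301,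
    1349, 1361, 1364, 4181, 4373, 4421, 4433, 4436, 5141, 5189, 5201, 5204, 5381, 5393, 5396, 5441, 5444, 5456,
    21, 69, 81, 84, 261, 273, 276, 321, 324, 336, 1029, 1041, 1044, 1089, 1092, 1104, 1281, 1284, 1296, 1344,
    4101, 4113, 4116, 4161, 4164, 4176, 4353, 4356, 4368, 4416, 5121, 5124, 5136, 5184, 5376, 1, 4, 16, 64, 256,
    1024, 4096, 5, 17, 20, 65, 68, 80, 257, 260, 272, 320, 1025, 1028, 1040, 1088, 1280, 4097, 4100, 4112, 4160,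
    4352, 5120, 12289, 12292, 12304, 12352, 12544, 13312, 3073, 3076, 3088, 3136, 3328, 769, 772, 784, 832, 193,
    196, 208, 49, 52, 13, 7, 28, 19, 112, 76, 67, 448, 304, 268, 259, 1792, 1216, 1072, 1036, 1027, 7168, 4864,
    4288, 4144, 4108, 4099, 15360, 13056, 12480, 12336, 12300, 12291, 3840, 3264, 3120, 3084, 3075, 960, 816,
    780, 771, 240, 204, 195, 60, 51, 15, 12288, 3072, 768, 192, 48, 12, 3, 16128, 15552, 15408, 15372, 15363,
    13248, 13104, 13068, 13059, 12528, 12492, 12483, 12348, 12339, 12303, 4032, 3888, 3852, 3843, 3312, 3276,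
    3267, 3132, 3123, 3087, 1008, 972, 963, 828, 819, 783, 252, 243, 207, 63, 16368, 16332, 16323, 16188, 16179,
    16143, 15612, 15603, 15567, 15423, 13308, 13299, 13263, 13119, 12543, 4092, 4083, 4047, 3903, 3327, 1023,
    16383, 16380, 16371, 16335, 16191, 15615, 13311, 4095, 12287, 15359, 16127, 16319, 16367, 16379, 16382]

theorem codesE8_eq : (List.range chevE8.nroots).map (code chevE8 LE8) = codesE8 := by decide +kernel

theorem codesE8_nodup : codesE8.Nodup := by decide +kernel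

theorem nodupE8 : ((List.range chevE8.nroots).map (code chevE8 LE8)).Nodup := by
  rw [codesE8_eq]
  exact codesE8_nodup

theorem chkE8 : Chk chevE8 LE8 id := chk_of_nodup oddE8 oneE8 nodupE8

theorem twoE8_0 : two chevE8 0 = true := by decide +kernel

theorem twoE8_1 : two chevE8 1 = true := by decide +kernel

theorem twoE8_2 : two chevE8 2 = true := by decide +kernel

theorem twoE8_3 : two chevE8 3 = true := by decide +kernel

theorem twoE8_4 : two chevE8 4 = true := by decide +kernel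

theorem twoE8_5 : two chevE8 5 = true := by decide +kernel

theorem twoE8_6 : two chevE8 6 = true := by decide +kernel

theorem twoE8 : ∀ d ∈ LE8, two chevE8 d = true := by
  intro d hd
  have h : d = 0 ∨ d = 1 ∨ d = 2 ∨ d = 3 ∨ d = 4 ∨ d = 5 ∨ d = 6 := by simpa [LE8] using hd
  rcases h with rfl | rfl | rfl | rfl | rfl | rfl | rfl
  · exact twoE8_0
  · exact twoE8_1
  · exact twoE8_2
  · exact twoE8_3
  · exact twoE8_4
  · exact twoE8_5
  · exact twoE8_6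

theorem ltE8 : ∀ d ∈ LE8, d < chevE8.nroots := by decide +kernel

end Cfsg.Agent.H167.EX
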