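import Cfsg.Agent.H167.EX.SzFour
import Cfsg.Agent.ThreePrime.Main
import Cfsg.Agent.SignalizersComponents.Components
import Cfsg.Agent.SignalizersComponents.ComponentExists
import Cfsg.Agent.SignalizersComponents.CompBasic
import Cfsg.Agent.TwoFusion.FStarControl

/-!
# Components of a 3'-group centralised by the squares (helper167, S4312, exceptional groups)

`SqC x` : every abelian subgroup of odd order normalised by `x` is centralised by `x ^ 2`.

* `sq_comp` : `x ^ 4 = 1`, `SqC x`: `x ^ 2` centralises the components of a group of order prime to 3.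
-/

set_option autoImplicit false
set_option linter.unusedSectionVars false

namespace Cfsg.Agent.H167.EX.CompZ

open Subgroup Cfsg Cfsg.Agent.SignalizersComponents.Components

section SqC

variable {H : Type*} [Group H]

/-- every abelian subgroup of odd exponent normalised by `x` is centralised by `x ^ 2` -/
def SqC (x : H) : Prop := ∀ N : Subgroup H, (∀ a ∈ N, ∀ b ∈ N, a * b = b * a) → (∀ a ∈ N, x * a * x⁻¹ ∈ N) →
  ∀ m : ℕ, Odd m → (∀ a ∈ N, a ^ m = 1) → ∀ n ∈ N, x ^ 2 * n = n * x ^ 2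

theorem SqC.elt {x : H} (hS : SqC x) (hx4 : x ^ 4 = 1) {v : H} {m : ℕ} (hm : Odd m) (hv : v ^ m = 1)
    (h1 : v * (x * v * x⁻¹) = x * v * x⁻¹ * v) (h2 : v * (x ^ 2 * v * (x ^ 2)⁻¹) = x ^ 2 * v * (x ^ 2)⁻¹ * v) :
    x ^ 2 * v = v * x ^ 2 := by
  let c : ℕ → H := fun i => x ^ i * v * (x ^ i)⁻¹
  have hc4 : ∀ i, c (i + 4) = c i := by
    intro i
    show x ^ (i + 4) * v * (x ^ (i + 4))⁻¹ = x ^ i * v * (x ^ i)⁻¹
    rw [pow_add, hx4, mul_one]
  have hadd : ∀ i j, x ^ i * c j * (x ^ i)⁻¹ = c (i + j) := by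
    intro i j
    show x ^ i * (x ^ j * v * (x ^ j)⁻¹) * (x ^ i)⁻¹ = x ^ (i + j) * v * (x ^ (i + j))⁻¹
    rw [pow_add]; group
  have hconj : ∀ (i : ℕ) (a b : H), a * b = b * a →
      (x ^ i * a * (x ^ i)⁻¹) * (x ^ i * b * (x ^ i)⁻¹) = (x ^ i * b * (x ^ i)⁻¹) * (x ^ i * a * (x ^ i)⁻¹) := by
    intro i a b hab
    calc (x ^ i * a * (x ^ i)⁻¹) * (x ^ i * b * (x ^ i)⁻¹) = x ^ i * (a * b) * (x ^ i)⁻¹ := by group
      _ = _ := by rw [hab]; group
  have hc0 : c 0 = v := by
    show x ^ 0 * v * (x ^ 0)⁻¹ = v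
    rw [pow_zero, inv_one, mul_one, one_mul]
  have hc1 : v * c 1 = c 1 * v := by
    show v * (x ^ 1 * v * (x ^ 1)⁻¹) = x ^ 1 * v * (x ^ 1)⁻¹ * v
    rw [pow_one]
    exact h1
  have hc3 : v * c 3 = c 3 * v := by
    have h3 := hconj 3 v (c 1) hc1
    rw [hadd, show 3 + 1 = 0 + 4 by norm_num, hc4, hc0] at h3
    exact h3.symm
  have hn : ∀ n : ℕ, v * c n = c n * v := by
    intro n
    induction n using Nat.strong_induction_on with
    | _ n ih =>
      by_cases h : n < 4
      · interval_cases n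
        · rw [hc0]
        · exact hc1
        · exact h2
        · exact hc3
      · obtain ⟨j, rfl⟩ : ∃ j, n = j + 4 := ⟨n - 4, by omega⟩
        rw [hc4]
        exact ih j (by omega)
  have hij : ∀ i j : ℕ, c i * c j = c j * c i := by
    intro i j
    rcases Nat.le_total i j with h | h
    · obtain ⟨d, rfl⟩ := Nat.exists_eq_add_of_le h
      have h3 := hconj i v (c d) (hn d)
      rw [hadd] at h3
      exact h3
    · obtain ⟨d, rfl⟩ := Nat.exists_eq_add_of_le h
      have h3 := hconj j v (c d) (hn d)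
      rw [hadd] at h3
      exact h3.symm
  set N : Subgroup H := closure {u | ∃ i : ℕ, u = c i} with hN
  have hab : ∀ a ∈ N, ∀ b ∈ N, a * b = b * a := by
    have h3 : N ≤ centralizer {u | ∃ i : ℕ, u = c i} := by
      refine (closure_le _).2 ?_
      rintro _ ⟨i, rfl⟩
      rw [SetLike.mem_coe, mem_centralizer_iff]
      rintro _ ⟨j, rfl⟩
      exact hij j i
    have h4 : N ≤ centralizer (N : Set H) := by
      refine (closure_le _).2 ?_
      rintro _ ⟨i, rfl⟩
      rw [SetLike.mem_coe, mem_centralizer_iff]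
      intro b hb
      exact (mem_centralizer_iff.1 (h3 hb) _ ⟨i, rfl⟩).symm
    intro a ha b hb
    exact mem_centralizer_iff.1 (h4 hb) a ha
  refine hS N hab ?_ m hm ?_ v (subset_closure ⟨0, hc0.symm⟩)
  · have h3 : N ≤ N.comap (MulAut.conj x).toMonoidHom := by
      refine (closure_le _).2 ?_
      rintro _ ⟨i, rfl⟩
      refine subset_closure ⟨1 + i, ?_⟩
      rw [← hadd, pow_one]
      rfl
    intro a ha
    exact h3 ha
  · intro a ha
    refine closure_induction (p := fun a _ => a ^ m = 1) ?_ (one_pow m) ?_ ?_ ha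
    · rintro _ ⟨i, rfl⟩
      show (x ^ i * v * (x ^ i)⁻¹) ^ m = 1
      rw [conj_pow, hv, mul_one, mul_inv_cancel]
    · intro a b ha hb h3 h4
      have h5 : Commute a b := hab a ha b hb
      rw [h5.mul_pow, h3, h4, mul_one]
    · intro a _ h3
      rw [inv_pow, h3, inv_one]

end SqC

section Act

variable {H : Type*} [Group H] {K : Subgroup H}

/-- the automorphism of `K / Z(K)` induced by an element of the normaliser -/
noncomputable def act (K : Subgroup H) {g : H} (hg : g ∈ normalizer (K : Set H)) : MulAut (K ⧸ center K) :=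
  QuotientGroup.congr (center K) (center K) (K.normalizerMonoidHom ⟨g, hg⟩)
    (characteristic_iff_map_eq.1 inferInstance _)

theorem conj_mem {g : H} (hg : g ∈ normalizer (K : Set H)) (k : K) : g * k * g⁻¹ ∈ K :=
  (mem_normalizer_iff.1 hg _).1 k.2

theorem act_mk {g : H} (hg : g ∈ normalizer (K : Set H)) (k : K) :
    act K hg (QuotientGroup.mk k) = QuotientGroup.mk ⟨g * k * g⁻¹, conj_mem hg k⟩ := rfl

theorem act_pow {g : H} (hg : g ∈ normalizer (K : Set H)) (n : ℕ) :
    act K hg ^ n = act K (pow_mem hg n) := by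
  induction n with
  | zero =>
    ext1 x
    obtain ⟨k, rfl⟩ := QuotientGroup.mk_surjective x
    rw [act_mk, pow_zero, MulAut.one_apply]
    congr 1
    apply Subtype.ext
    show (k : H) = g ^ 0 * k * (g ^ 0)⁻¹
    rw [pow_zero, inv_one, mul_one, one_mul]
  | succ n ih =>
    ext1 x
    obtain ⟨k, rfl⟩ := QuotientGroup.mk_surjective x
    rw [pow_succ, MulAut.mul_apply, act_mk, ih, act_mk, act_mk]
    congr 1
    apply Subtype.ext
    show g ^ n * (g * k * g⁻¹) * (g ^ n)⁻¹ = g ^ (n + 1) * k * (g ^ (n + 1))⁻¹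
    rw [pow_succ]; group

theorem act_eq_one {g : H} (hg : g ∈ normalizer (K : Set H)) (h : g = 1) : act K hg = 1 := by
  subst h
  ext1 x
  obtain ⟨k, rfl⟩ := QuotientGroup.mk_surjective x
  rw [act_mk, MulAut.one_apply]
  congr 1
  apply Subtype.ext
  show (1 : H) * k * 1⁻¹ = k
  rw [inv_one, mul_one, one_mul]

/-- an element acting trivially on `K / Z(K)` centralises the perfect group `K` -/
theorem cent_of_act (hK : Group.IsPerfect K) {g : H} (hg : g ∈ normalizer (K : Set H)) (h : act K hg = 1) :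
    ∀ k ∈ K, g * k = k * g := by
  have h1 : ∀ k : K, (⟨g * k * g⁻¹, conj_mem hg k⟩ : K) * k⁻¹ ∈ center K := by
    intro k
    have h2 := congrArg (fun α : MulAut (K ⧸ center K) => α (QuotientGroup.mk k)) h
    simp only [MulAut.one_apply] at h2
    rw [act_mk] at h2
    have h3 := QuotientGroup.eq.1 h2.symm
    have h4 : (⟨g * k * g⁻¹, conj_mem hg k⟩ : K) * k⁻¹ = k * (k⁻¹ * ⟨g * k * g⁻¹, conj_mem hg k⟩) * k⁻¹ := by group
    rw [h4, mem_center_iff.1 h3 k]
    have h5 : k⁻¹ * ⟨g * k * g⁻¹, conj_mem hg k⟩ * k * k⁻¹ = k⁻¹ * ⟨g * k * g⁻¹, conj_mem hg k⟩ := by group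
    rw [h5]
    exact h3
  let _ : CommGroup (center K) :=
    { (inferInstance : Group (center K)) with
      mul_comm := fun a b => Subtype.ext (mem_center_iff.1 b.2 a) }
  let f : K →* center K :=
    { toFun := fun k => ⟨_, h1 k⟩
      map_one' := by
        apply Subtype.ext
        apply Subtype.ext
        show g * (1 : H) * g⁻¹ * 1⁻¹ = 1
        group
      map_mul' := fun a b => by
        apply Subtype.ext
        have h2 := mem_center_iff.1 (h1 b) a
        have h3 : (⟨g * (a * b : K) * g⁻¹, conj_mem hg (a * b)⟩ : K) =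
            ⟨g * a * g⁻¹, conj_mem hg a⟩ * ⟨g * b * g⁻¹, conj_mem hg b⟩ := by
          apply Subtype.ext
          show g * ((a : H) * b) * g⁻¹ = (g * a * g⁻¹) * (g * b * g⁻¹)
          group
        show (⟨g * (a * b : K) * g⁻¹, conj_mem hg (a * b)⟩ : K) * (a * b)⁻¹ =
          ((⟨g * a * g⁻¹, conj_mem hg a⟩ : K) * a⁻¹) * ((⟨g * b * g⁻¹, conj_mem hg b⟩ : K) * b⁻¹)
        rw [h3]
        set A : K := ⟨g * a * g⁻¹, conj_mem hg a⟩
        set B : K := ⟨g * b * g⁻¹, conj_mem hg b⟩
        calc A * B * (a * b)⁻¹ = A * (B * b⁻¹) * a⁻¹ := by group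
          _ = A * a⁻¹ * (a * (B * b⁻¹)) * a⁻¹ := by group
          _ = A * a⁻¹ * (B * b⁻¹) := by rw [h2]; group }
  intro k hk
  have h2 := Cfsg.Agent.SignalizersComponents.CompBasic.hom_eq_one_of_perfect hK f ⟨k, hk⟩
  have h3 := congrArg (fun c : center K => ((c : K) : H)) h2
  have h4 : g * k * g⁻¹ * k⁻¹ = 1 := h3
  have h5 : g * k * g⁻¹ = k := mul_inv_eq_one.1 h4
  exact mul_inv_eq_iff_eq_mul.1 h5

end Act

/-! ### the theorem -/

section Main

variable {H : Type*} [Group H] [Finite H] {K : Subgroup H}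

/-- lifting to an element of odd order -/
theorem lift_odd {v0 : K} (h5 : (QuotientGroup.mk v0 : K ⧸ center K) ^ 5 = 1) (h1 : (QuotientGroup.mk v0 : K ⧸ center K) ≠ 1) :
    ∃ (a m : ℕ), Odd m ∧ (v0 ^ 2 ^ a) ^ m = 1 ∧ (QuotientGroup.mk (v0 ^ 2 ^ a) : K ⧸ center K) ≠ 1 ∧
      (QuotientGroup.mk (v0 ^ 2 ^ a) : K ⧸ center K) ^ 5 = 1 := by
  obtain ⟨a, m, hm, hom⟩ := Nat.exists_eq_two_pow_mul_odd (orderOf_pos v0).ne'
  refine ⟨a, m, hm, ?_, ?_, ?_⟩
  · rw [← pow_mul, ← hom, pow_orderOf_eq_one]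
  · intro h
    apply h1
    rw [QuotientGroup.mk_pow] at h
    have h2 := Nat.dvd_gcd (orderOf_dvd_of_pow_eq_one h5) (orderOf_dvd_of_pow_eq_one h)
    have h3 : Nat.gcd 5 (2 ^ a) = 1 := Nat.Coprime.pow_right a (by norm_num)
    rw [h3] at h2
    exact orderOf_eq_one_iff.1 (Nat.dvd_one.1 h2)
  · rw [QuotientGroup.mk_pow, ← pow_mul, mul_comm, pow_mul, h5, one_pow]

theorem comm_of_mk {u v : K} {n : ℤ} (h : (QuotientGroup.mk u : K ⧸ center K) = (QuotientGroup.mk v) ^ n) :
    (v : H) * u = u * v := by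
  rw [← QuotientGroup.mk_zpow] at h
  have h1 := QuotientGroup.eq.1 h.symm
  have h2 : u = v ^ n * ((v ^ n)⁻¹ * u) := by group
  have h3 := mem_center_iff.1 h1 v
  have h4 : v * u = u * v := by
    conv_lhs => rw [h2]
    calc v * (v ^ n * ((v ^ n)⁻¹ * u)) = v ^ n * (v * ((v ^ n)⁻¹ * u)) := by group
      _ = v ^ n * (((v ^ n)⁻¹ * u) * v) := by rw [h3]
      _ = u * v := by group
  exact congrArg Subtype.val h4

/-- the quotient of a component is a Suzuki group -/
theorem isoSuz (h3 : ¬ 3 ∣ Nat.card H) (hq : IsQuasisimple K) : Cfsg.Lie.IsoSuzuki (K ⧸ center K) := by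
  have hs : IsSimpleGroup (K ⧸ center K) := hq.2
  refine Cfsg.Agent.ThreePrime.Main.isoSuzuki ?_ ?_
  · by_contra hcon
    push Not at hcon
    have hperf : Group.IsPerfect K := hq.1
    let _ : CommGroup (K ⧸ center K) :=
      { (inferInstance : Group (K ⧸ center K)) with
        mul_comm := hcon }
    obtain ⟨x, hx⟩ := exists_ne (1 : K ⧸ center K)
    obtain ⟨k, rfl⟩ := QuotientGroup.mk_surjective x
    exact hx (Cfsg.Agent.SignalizersComponents.CompBasic.hom_eq_one_of_perfect hperf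
      (QuotientGroup.mk' (center K)) k)
  · intro h
    exact h3 (h.trans ((card_quotient_dvd_card (center K)).trans (card_subgroup_dvd_card K)))

theorem center_bot {J : Type*} [Group J] [IsSimpleGroup J] (hna : ∃ a b : J, a * b ≠ b * a) : center J = ⊥ := by
  rcases IsSimpleGroup.eq_bot_or_eq_top_of_normal (center J) inferInstance with h | h
  · exact h
  · exfalso
    obtain ⟨a, b, hab⟩ := hna
    have h1 : b ∈ center J := by rw [h]; exact mem_top b
    exact hab (mem_center_iff.1 h1 a)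

theorem conj_eq_one {J : Type*} [Group J] (hc : center J = ⊥) {y : J} (h : MulAut.conj y = 1) : y = 1 := by
  have h1 : y ∈ center J := by
    rw [mem_center_iff]
    intro g
    have h2 := congrArg (fun α : MulAut J => α g) h
    simp only [MulAut.one_apply, MulAut.conj_apply] at h2
    exact (mul_inv_eq_iff_eq_mul.1 h2).symm
  rw [hc] at h1
  exact mem_bot.1 h1

theorem eq_one_of_odd' {J : Type*} [Group J] {v : J} (h2 : v ^ 2 = 1) (h5 : v ^ 5 = 1) : v = 1 := by
  have h : v ^ 5 = (v ^ 2) ^ 2 * v := by rw [← pow_mul, ← pow_succ]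
  rw [h, h2, one_pow, one_mul] at h5
  exact h5

/-- **`x ^ 2` centralises the components.** -/
theorem sq_comp (h3 : ¬ 3 ∣ Nat.card H) (hK : IsComponent K) {x : H} (hx4 : x ^ 4 = 1) (hS : SqC x) :
    ∀ k ∈ K, x ^ 2 * k = k * x ^ 2 := by
  have hq := hK.2
  have hperf : Group.IsPerfect K := hq.1
  have hs : IsSimpleGroup (K ⧸ center K) := hq.2
  have hSz := isoSuz h3 hq
  have hna : ∃ a b : K ⧸ center K, a * b ≠ b * a := by
    by_contra hcon
    push Not at hcon
    obtain ⟨x, hx⟩ := exists_ne (1 : K ⧸ center K)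
    obtain ⟨k, rfl⟩ := QuotientGroup.mk_surjective x
    let _ : CommGroup (K ⧸ center K) :=
      { (inferInstance : Group (K ⧸ center K)) with
        mul_comm := hcon }
    exact hx (Cfsg.Agent.SignalizersComponents.CompBasic.hom_eq_one_of_perfect hperf
      (QuotientGroup.mk' (center K)) k)
  have hcb := center_bot hna
  -- distinct components commute
  have hdist : ∀ g : H, g ∉ normalizer (K : Set H) → ∀ v ∈ K, ∀ w ∈ K, w * (g * v * g⁻¹) = g * v * g⁻¹ * w := by
    intro g hg v hv w hw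
    have h1 : K ≠ K.map (MulAut.conj g).toMonoidHom := by
      intro h
      apply hg
      rw [mem_normalizer_iff]
      intro u
      constructor
      · intro hu
        rw [h]
        exact ⟨u, hu, rfl⟩
      · intro hu
        rw [h] at hu
        obtain ⟨u', hu', e⟩ := hu
        have e' : g * u' * g⁻¹ = g * u * g⁻¹ := e
        have : u' = u := by
          calc u' = g⁻¹ * (g * u' * g⁻¹) * g := by group
            _ = u := by rw [e']; group
        rwa [← this]
    have h2 := component_le_centralizer_of_ne hK (isComponent_conj g hK) h1 hw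
    exact (mem_centralizer_iff.1 h2 _ ⟨v, hv, rfl⟩).symm
  by_contra hcon
  by_cases hx : x ∈ normalizer (K : Set H)
  · -- `x` normalises `K`
    have hx2 := pow_mem hx 2
    have hα4 : act K hx ^ 4 = 1 := by
      rw [act_pow]
      exact act_eq_one _ hx4
    obtain ⟨y, hy⟩ := SzFour.inner_of_four hSz hα4
    have hy4 : y ^ 4 = 1 := conj_eq_one hcb (by rw [map_pow, ← hy, hα4])
    have hy2 : y ^ 2 ≠ 1 := by
      intro h
      apply hcon
      refine cent_of_act hperf hx2 ?_
      rw [← act_pow hx, hy, ← map_pow, h, map_one]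
    have : Finite (K ⧸ center K) := inferInstance
    obtain ⟨vb, hv1, hv5, j, hj, hj5⟩ := SzFour.exists_five hSz hy4 hy2
    obtain ⟨v0, rfl⟩ := QuotientGroup.mk_surjective vb
    obtain ⟨a, m, hm, hvm, hne, hv5'⟩ := lift_odd hv5 hv1
    set v := v0 ^ 2 ^ a with hv
    have hvb : (QuotientGroup.mk v : K ⧸ center K) = (QuotientGroup.mk v0) ^ 2 ^ a := by
      rw [hv, QuotientGroup.mk_pow]
    have hj' : y * QuotientGroup.mk v * y⁻¹ = (QuotientGroup.mk v) ^ j := by
      rw [hvb, ← conj_pow, hj, ← pow_mul, ← pow_mul, mul_comm]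
    have hact : ∀ k : K, act K hx (QuotientGroup.mk k) = y * QuotientGroup.mk k * y⁻¹ := fun k => by
      rw [hy, MulAut.conj_apply]
    have e1 : (QuotientGroup.mk ⟨x * v * x⁻¹, conj_mem hx v⟩ : K ⧸ center K) = (QuotientGroup.mk v) ^ (j : ℤ) := by
      rw [← act_mk hx, hact, hj', zpow_natCast]
    have e2 : (QuotientGroup.mk ⟨x ^ 2 * v * (x ^ 2)⁻¹, conj_mem hx2 v⟩ : K ⧸ center K) =
        (QuotientGroup.mk v) ^ ((j ^ 2 : ℕ) : ℤ) := by
      rw [← act_mk hx2, ← act_pow hx, hy, ← map_pow, MulAut.conj_apply, zpow_natCast]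
      calc y ^ 2 * QuotientGroup.mk v * (y ^ 2)⁻¹ = y * (y * QuotientGroup.mk v * y⁻¹) * y⁻¹ := by
            rw [pow_two]; group
        _ = (QuotientGroup.mk v) ^ j ^ 2 := by rw [hj', ← conj_pow, hj', ← pow_mul, pow_two]
    have h5 := hS.elt hx4 hm (v := (v : H)) (by
      have := congrArg Subtype.val hvm
      rwa [coe_pow] at this) (comm_of_mk e1) (comm_of_mk e2)
    have e3 : (⟨x ^ 2 * v * (x ^ 2)⁻¹, conj_mem hx2 v⟩ : K) = v := by
      apply Subtype.ext
      show x ^ 2 * v * (x ^ 2)⁻¹ = v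
      rw [h5]; group
    rw [e3, zpow_natCast] at e2
    obtain ⟨c, hc⟩ := hj5
    have e4 : (QuotientGroup.mk v : K ⧸ center K) ^ 2 = 1 := by
      have e5 : (QuotientGroup.mk v : K ⧸ center K) ^ (j ^ 2 + 1) = 1 := by
        rw [hc, pow_mul, hv5', one_pow]
      rw [pow_succ, ← e2, ← pow_two] at e5
      exact e5
    exact hne (eq_one_of_odd' e4 hv5')
  by_cases hz : x ^ 2 ∈ normalizer (K : Set H)
  · -- `x ^ 2` normalises `K`
    have hβ2 : act K hz ^ 2 = 1 := by
      rw [act_pow]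
      exact act_eq_one _ (by rw [← pow_mul]; exact hx4)
    have hβ4 : act K hz ^ 4 = 1 := by
      rw [show 4 = 2 * 2 by norm_num, pow_mul, hβ2, one_pow]
    obtain ⟨y, hy⟩ := SzFour.inner_of_four hSz hβ4
    have hy2 : y * y = 1 := by
      rw [← pow_two]
      exact conj_eq_one hcb (by rw [map_pow, ← hy, hβ2])
    have hy1 : y ≠ 1 := by
      intro h
      apply hcon
      refine cent_of_act hperf hz ?_
      rw [hy, h, map_one]
    obtain ⟨vb, hv1, hv5, hj⟩ := SzFour.exists_inv hSz hy1 hy2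
    obtain ⟨v0, rfl⟩ := QuotientGroup.mk_surjective vb
    obtain ⟨a, m, hm, hvm, hne, hv5'⟩ := lift_odd hv5 hv1
    set v := v0 ^ 2 ^ a with hv
    have hvb : (QuotientGroup.mk v : K ⧸ center K) = (QuotientGroup.mk v0) ^ 2 ^ a := by
      rw [hv, QuotientGroup.mk_pow]
    have hj' : y * QuotientGroup.mk v * y⁻¹ = (QuotientGroup.mk v)⁻¹ := by
      rw [hvb, ← conj_pow, hj, inv_pow]
    have e2 : (QuotientGroup.mk ⟨x ^ 2 * v * (x ^ 2)⁻¹, conj_mem hz v⟩ : K ⧸ center K) =
        (QuotientGroup.mk v) ^ (-1 : ℤ) := by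
      rw [← act_mk hz, hy, MulAut.conj_apply, zpow_neg_one, hj']
    have h5 := hS.elt hx4 hm (v := (v : H)) (by
      have := congrArg Subtype.val hvm
      rwa [coe_pow] at this) (hdist x hx v v.2 v v.2) (comm_of_mk e2)
    have e3 : (⟨x ^ 2 * v * (x ^ 2)⁻¹, conj_mem hz v⟩ : K) = v := by
      apply Subtype.ext
      show x ^ 2 * v * (x ^ 2)⁻¹ = v
      rw [h5]; group
    rw [e3, zpow_neg_one] at e2
    have e4 : (QuotientGroup.mk v : K ⧸ center K) ^ 2 = 1 := by
      have e5 := mul_inv_cancel (QuotientGroup.mk v : K ⧸ center K)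
      rw [← e2] at e5
      rw [pow_two]
      exact e5
    exact hne (eq_one_of_odd' e4 hv5')
  · -- `x ^ 2` moves `K`
    obtain ⟨vb, hv1, hv5⟩ := SzFour.exists_ord hSz
    obtain ⟨v0, rfl⟩ := QuotientGroup.mk_surjective vb
    obtain ⟨a, m, hm, hvm, hne, hv5'⟩ := lift_odd hv5 hv1
    set v := v0 ^ 2 ^ a with hv
    have h5 := hS.elt hx4 hm (v := (v : H)) (by
      have := congrArg Subtype.val hvm
      rwa [coe_pow] at this) (hdist x hx v v.2 v v.2) (hdist _ hz v v.2 v v.2)
    apply hne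
    rw [QuotientGroup.eq_one_iff, mem_center_iff]
    intro w
    have h6 := hdist _ hz v v.2 w w.2
    have e : x ^ 2 * v * (x ^ 2)⁻¹ = v := by rw [h5]; group
    rw [e] at h6
    exact Subtype.ext h6

end Main

end Cfsg.Agent.H167.EX.CompZ
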