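import Cfsg.Agent.H167.EX.Cen

/-!
# Fixed points of Frobenius in `L C(L)` (helper167, S4312, exceptional groups)

* `SL.eq_one` : `A ∈ SL₂(k)`, `A ^ N = 1`, `F A = A`, `N` prime to `p (q ^ 2 - 1)`: `A = 1`;
* `ph_injective`;
* `mem_centralizer_ph` : `n` fixed by `σ`, of order prime to `2 p (q ^ 2 - 1)`, commuting with `z`, centralises `L`.
-/

set_option autoImplicit false
set_option linter.unusedSectionVars false

namespace Cfsg.Agent.H167.EX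

open CoxeterSystem Cfsg Cfsg.Lie Cfsg.Lie.ChevalleyDatum
open Cfsg.Agent.ChevalleyStructure Cfsg.Agent.ChevalleyStructure.Elts Cfsg.Agent.ChevalleyStructure.CoxeterGeom
  Cfsg.Agent.ChevalleyStructure.CoxeterGeomTypes Cfsg.Agent.ChevalleyStructure.NPerm
open Cfsg.Agent.Tits.Roots Cfsg.Agent.Tits.Core Cfsg.Agent.Nodes Cfsg.Agent.Nodes.Reps Cfsg.Agent.Nodes.BNOf
  Cfsg.Agent.Nodes.RGDChev Cfsg.Agent.Nodes.Bruhat Cfsg.Agent.Nodes.NormalForm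
open Cfsg.Agent.KFacts.RgdField Cfsg.Agent.KFacts.RgdChevCoord
open Cfsg.Agent.BpExc Cfsg.Agent.BpExc.TorCent Cfsg.Agent.BpExc.TorChev Cfsg.Agent.BpExc.Tow
  Cfsg.Agent.BpExc.TowChev Cfsg.Agent.BpExc.Fr Cfsg.Agent.BpExc.Pair Cfsg.Agent.BpExc.LangFr Cfsg.Agent.GpExc.Field
  Cfsg.Agent.BpExc.TorAll
open Cfsg.Agent.H469.Exc Cfsg.Agent.H469.Exc.SigFr
open Cfsg.Agent.Nodes.RGDFoldSL
open Cfsg.Agent.ChevalleyStructure.SL2Hom (up lo mem_closure_SL2)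
open Module

universe u v

section SLfacts

variable {k : Type u} [Field k]

theorem sl_ext {A B : SL k} (h1 : A.1 0 0 = B.1 0 0) (h2 : A.1 0 1 = B.1 0 1) (h3 : A.1 1 0 = B.1 1 0)
    (h4 : A.1 1 1 = B.1 1 1) : A = B := by
  apply Subtype.ext
  ext a b
  fin_cases a <;> fin_cases b <;> assumption

theorem det_eq (A : SL k) : A.1 0 0 * A.1 1 1 - A.1 0 1 * A.1 1 0 = 1 := by
  have h1 := A.2
  rwa [Matrix.det_fin_two] at h1

theorem mul00 (A B : SL k) : (A * B).1 0 0 = A.1 0 0 * B.1 0 0 + A.1 0 1 * B.1 1 0 := by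
  show (A.1 * B.1) 0 0 = _
  rw [Matrix.mul_apply, Fin.sum_univ_two]

theorem mul01 (A B : SL k) : (A * B).1 0 1 = A.1 0 0 * B.1 0 1 + A.1 0 1 * B.1 1 1 := by
  show (A.1 * B.1) 0 1 = _
  rw [Matrix.mul_apply, Fin.sum_univ_two]

theorem mul10 (A B : SL k) : (A * B).1 1 0 = A.1 1 0 * B.1 0 0 + A.1 1 1 * B.1 1 0 := by
  show (A.1 * B.1) 1 0 = _
  rw [Matrix.mul_apply, Fin.sum_univ_two]

theorem mul11 (A B : SL k) : (A * B).1 1 1 = A.1 1 0 * B.1 0 1 + A.1 1 1 * B.1 1 1 := by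
  show (A.1 * B.1) 1 1 = _
  rw [Matrix.mul_apply, Fin.sum_univ_two]

theorem inv00 (A : SL k) : (A⁻¹).1 0 0 = A.1 1 1 := by
  rw [Matrix.SpecialLinearGroup.coe_inv, Matrix.adjugate_fin_two]; rfl

theorem inv01 (A : SL k) : (A⁻¹).1 0 1 = -A.1 0 1 := by
  rw [Matrix.SpecialLinearGroup.coe_inv, Matrix.adjugate_fin_two]; rfl

theorem inv10 (A : SL k) : (A⁻¹).1 1 0 = -A.1 1 0 := by
  rw [Matrix.SpecialLinearGroup.coe_inv, Matrix.adjugate_fin_two]; rfl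

theorem inv11 (A : SL k) : (A⁻¹).1 1 1 = A.1 0 0 := by
  rw [Matrix.SpecialLinearGroup.coe_inv, Matrix.adjugate_fin_two]; rfl

theorem low (A P : SL k) : (P⁻¹ * A * P).1 1 0 = P.1 0 0 * (A.1 1 0 * P.1 0 0 + A.1 1 1 * P.1 1 0) -
    P.1 1 0 * (A.1 0 0 * P.1 0 0 + A.1 0 1 * P.1 1 0) := by
  rw [mul10, mul10, mul11, inv10, inv11]
  ring

theorem up_entries (t : k) : (up t : SL k).1 0 0 = 1 ∧ (up t : SL k).1 0 1 = t ∧ (up t : SL k).1 1 0 = 0 ∧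
    (up t : SL k).1 1 1 = 1 := ⟨rfl, rfl, rfl, rfl⟩

theorem lo_entries (t : k) : (lo t : SL k).1 0 0 = 1 ∧ (lo t : SL k).1 0 1 = 0 ∧ (lo t : SL k).1 1 0 = t ∧
    (lo t : SL k).1 1 1 = 1 := ⟨rfl, rfl, rfl, rfl⟩

theorem wS_entries {t : k} (ht : t ≠ 0) : (wS t : SL k).1 0 0 = 0 ∧ (wS t : SL k).1 0 1 = t ∧
    (wS t : SL k).1 1 0 = -t⁻¹ ∧ (wS t : SL k).1 1 1 = 0 := by
  have h := coe_wS ht
  refine ⟨?_, ?_, ?_, ?_⟩ <;> rw [h] <;> rfl

theorem hS_entries {t : k} (ht : t ≠ 0) : (hS t : SL k).1 0 0 = t ∧ (hS t : SL k).1 0 1 = 0 ∧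
    (hS t : SL k).1 1 0 = 0 ∧ (hS t : SL k).1 1 1 = t⁻¹ := by
  have h := coe_hS ht
  refine ⟨?_, ?_, ?_, ?_⟩ <;> rw [h] <;> rfl

/-- every element of `SL₂(k)` is conjugate to an upper triangular one -/
theorem exists_tri [IsAlgClosed k] (h2 : (2 : k) ≠ 0) (A : SL k) : ∃ P : SL k, (P⁻¹ * A * P).1 1 0 = 0 := by
  by_cases hb : A.1 0 1 = 0
  · obtain ⟨w1, w2, w3, w4⟩ := wS_entries (one_ne_zero (α := k))
    refine ⟨wS 1, ?_⟩
    rw [low, w1, w3, hb]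
    ring
  · obtain ⟨ρ, hρ⟩ := IsAlgClosed.exists_pow_nat_eq ((A.1 0 0 - A.1 1 1) ^ 2 + 4 * A.1 0 1 * A.1 1 0)
      (show 0 < 2 by norm_num)
    obtain ⟨w1, w2, w3, w4⟩ := lo_entries ((A.1 1 1 - A.1 0 0 + ρ) / (2 * A.1 0 1))
    refine ⟨lo ((A.1 1 1 - A.1 0 0 + ρ) / (2 * A.1 0 1)), ?_⟩
    rw [low, w1, w3]
    field_simp
    linear_combination -hρ

theorem tri_eq {B : SL k} (h : B.1 1 0 = 0) : B.1 0 0 ≠ 0 ∧ B = hS (B.1 0 0) * up ((B.1 0 0)⁻¹ * B.1 0 1) := by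
  have hd := det_eq B
  rw [h, mul_zero, sub_zero] at hd
  have h0 : B.1 0 0 ≠ 0 := left_ne_zero_of_mul_eq_one hd
  obtain ⟨w1, w2, w3, w4⟩ := hS_entries h0
  obtain ⟨u1, u2, u3, u4⟩ := up_entries ((B.1 0 0)⁻¹ * B.1 0 1)
  refine ⟨h0, sl_ext ?_ ?_ ?_ ?_⟩
  · rw [mul00, w1, w2, u1, u3]; ring
  · rw [mul01, w1, w2, u2, u4]; field_simp; ring
  · rw [mul10, w3, w4, u1, u3, h]; ring
  · rw [mul11, w3, w4, u2, u4]
    rw [zero_mul, zero_add, mul_one]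
    exact eq_inv_of_mul_eq_one_right hd

/-- upper triangular matrices: the diagonal entries multiply -/
theorem tri_pow {B : SL k} (h : B.1 1 0 = 0) (n : ℕ) : (B ^ n).1 1 0 = 0 ∧ (B ^ n).1 0 0 = B.1 0 0 ^ n := by
  induction n with
  | zero =>
    rw [pow_zero, pow_zero]
    exact ⟨rfl, rfl⟩
  | succ n ih =>
    rw [pow_succ, mul10, mul00, ih.1, ih.2, h]
    constructor
    · ring
    · rw [pow_succ]; ring

theorem up_add (t u : k) : (up t * up u : SL k) = up (t + u) := by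
  obtain ⟨u1, u2, u3, u4⟩ := up_entries t
  obtain ⟨v1, v2, v3, v4⟩ := up_entries u
  obtain ⟨w1, w2, w3, w4⟩ := up_entries (t + u)
  refine sl_ext ?_ ?_ ?_ ?_
  · rw [mul00, u1, u2, v1, v3, w1]; ring
  · rw [mul01, u1, u2, v2, v4, w2]; ring
  · rw [mul10, u3, u4, v1, v3, w3]; ring
  · rw [mul11, u3, u4, v2, v4, w4]; ring

theorem up_zero : (up 0 : SL k) = 1 := by
  apply Subtype.ext
  ext a b
  fin_cases a <;> fin_cases b <;> simp [up]

theorem up_pow (t : k) (n : ℕ) : (up t : SL k) ^ n = up ((n : k) * t) := by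
  induction n with
  | zero => rw [pow_zero, Nat.cast_zero, zero_mul, up_zero]
  | succ n ih => rw [pow_succ, ih, up_add, Nat.cast_succ]; congr 1; ring

theorem up_inj {t : k} (h : (up t : SL k) = 1) : t = 0 := by
  have h1 := congrArg (fun A : SL k => A.1 0 1) h
  exact h1

/-- the twisted Frobenius map -/
def Fm0 (φ : k →+* k) {c : k} (hc : c ≠ 0) (A : SL k) : SL k :=
  ⟨!![φ (A.1 0 0), c * φ (A.1 0 1); c⁻¹ * φ (A.1 1 0), φ (A.1 1 1)], by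
    rw [Matrix.det_fin_two_of]
    have h := congrArg φ (det_eq A)
    rw [map_sub, map_mul, map_mul, map_one] at h
    field_simp
    linear_combination h⟩

/-- the twisted Frobenius map -/
def Fm (φ : k →+* k) {c : k} (hc : c ≠ 0) : SL k →* SL k where
  toFun := Fm0 φ hc
  map_one' := by
    refine sl_ext ?_ ?_ ?_ ?_
    · show φ 1 = 1; rw [map_one]
    · show c * φ 0 = 0; rw [map_zero, mul_zero]
    · show c⁻¹ * φ 0 = 0; rw [map_zero, mul_zero]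
    · show φ 1 = 1; rw [map_one]
  map_mul' A B := by
    refine sl_ext ?_ ?_ ?_ ?_
    · refine Eq.trans ?_ (mul00 (Fm0 φ hc A) (Fm0 φ hc B)).symm
      show φ ((A * B).1 0 0) = φ (A.1 0 0) * φ (B.1 0 0) + c * φ (A.1 0 1) * (c⁻¹ * φ (B.1 1 0))
      rw [mul00, map_add, map_mul, map_mul]
      field_simp
    · refine Eq.trans ?_ (mul01 (Fm0 φ hc A) (Fm0 φ hc B)).symm
      show c * φ ((A * B).1 0 1) = φ (A.1 0 0) * (c * φ (B.1 0 1)) + c * φ (A.1 0 1) * φ (B.1 1 1)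
      rw [mul01, map_add, map_mul, map_mul]
      ring
    · refine Eq.trans ?_ (mul10 (Fm0 φ hc A) (Fm0 φ hc B)).symm
      show c⁻¹ * φ ((A * B).1 1 0) = c⁻¹ * φ (A.1 1 0) * φ (B.1 0 0) + φ (A.1 1 1) * (c⁻¹ * φ (B.1 1 0))
      rw [mul10, map_add, map_mul, map_mul]
      ring
    · refine Eq.trans ?_ (mul11 (Fm0 φ hc A) (Fm0 φ hc B)).symm
      show φ ((A * B).1 1 1) = c⁻¹ * φ (A.1 1 0) * (c * φ (B.1 0 1)) + φ (A.1 1 1) * φ (B.1 1 1)
      rw [mul11, map_add, map_mul, map_mul]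
      field_simp

theorem Fm00 (φ : k →+* k) {c : k} (hc : c ≠ 0) (A : SL k) : (Fm φ hc A).1 0 0 = φ (A.1 0 0) := rfl

theorem Fm11 (φ : k →+* k) {c : k} (hc : c ≠ 0) (A : SL k) : (Fm φ hc A).1 1 1 = φ (A.1 1 1) := rfl

theorem Fm_up (φ : k →+* k) {c : k} (hc : c ≠ 0) (t : k) : Fm φ hc (up t) = up (c * φ t) := by
  refine sl_ext ?_ ?_ ?_ ?_
  · show φ 1 = 1; rw [map_one]
  · rfl
  · show c⁻¹ * φ 0 = 0; rw [map_zero, mul_zero]
  · show φ 1 = 1; rw [map_one]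

theorem Fm_lo (φ : k →+* k) {c : k} (hc : c ≠ 0) (t : k) : Fm φ hc (lo t) = lo (c⁻¹ * φ t) := by
  refine sl_ext ?_ ?_ ?_ ?_
  · show φ 1 = 1; rw [map_one]
  · show c * φ 0 = 0; rw [map_zero, mul_zero]
  · rfl
  · show φ 1 = 1; rw [map_one]

theorem tr_conj (P B : SL k) : (P * B * P⁻¹).1 0 0 + (P * B * P⁻¹).1 1 1 = B.1 0 0 + B.1 1 1 := by
  have h4 := det_eq P
  rw [mul00 (P * B) P⁻¹, mul11 (P * B) P⁻¹, mul00 P B, mul01 P B, mul10 P B, mul11 P B, inv00, inv01, inv10, inv11]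
  linear_combination (B.1 0 0 + B.1 1 1) * h4

/-- **An element of order prime to `p (q ^ 2 - 1)` of `SL₂(q)` is trivial.** -/
theorem sl_eq_one [IsAlgClosed k] (h2 : (2 : k) ≠ 0) (φ : k →+* k) {q : ℕ} (hq : 1 < q) (hφ : ∀ t, φ t = t ^ q)
    {c : k} (hc : c ≠ 0) {A : SL k} (hA : Fm φ hc A = A) {N : ℕ} (hN : A ^ N = 1) (hNk : (N : k) ≠ 0)
    (hNq : N.Coprime (q ^ 2 - 1)) : A = 1 := by
  obtain ⟨P, hP⟩ := exists_tri h2 A
  set B := P⁻¹ * A * P with hB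
  have hBN : B ^ N = 1 := by
    have h1 : B = P⁻¹ * A * (P⁻¹)⁻¹ := by rw [inv_inv]
    rw [h1, conj_pow, hN, mul_one, mul_inv_cancel]
  obtain ⟨h0, hB1⟩ := tri_eq hP
  have hlN : B.1 0 0 ^ N = 1 := by
    rw [← (tri_pow hP N).2, hBN]; rfl
  have htr : A.1 0 0 + A.1 1 1 = B.1 0 0 + (B.1 0 0)⁻¹ := by
    have h3 : A = P * B * P⁻¹ := by rw [hB]; group
    have h4 := det_eq P
    have h5 : B.1 1 1 = (B.1 0 0)⁻¹ := by
      have h6 := det_eq B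
      rw [hP, mul_zero, sub_zero] at h6
      exact eq_inv_of_mul_eq_one_right h6
    rw [← h5, h3, tr_conj]
  have hfix : (B.1 0 0) ^ q + ((B.1 0 0)⁻¹) ^ q = B.1 0 0 + (B.1 0 0)⁻¹ := by
    rw [← hφ, ← hφ, ← map_add, ← htr, map_add, ← Fm00 φ hc, ← Fm11 φ hc, hA]
  have hl : B.1 0 0 = 1 := by
    set x := B.1 0 0 with hx
    have h6 : (x ^ q - x) * (x ^ q - x⁻¹) = 0 := by
      have h7 : (x⁻¹) ^ q * x ^ q = 1 := by rw [← mul_pow, inv_mul_cancel₀ h0, one_pow]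
      have h8 : x * x⁻¹ = 1 := mul_inv_cancel₀ h0
      linear_combination x ^ q * hfix - h7 + h8
    have h9 : x ^ (q ^ 2 - 1) = 1 := by
      have e : q ^ 2 - 1 = (q - 1) * (q + 1) := by
        rw [show q ^ 2 - 1 = q ^ 2 - 1 ^ 2 by norm_num, Nat.sq_sub_sq, mul_comm]
      rcases mul_eq_zero.1 h6 with h10 | h10
      · have h11 : x ^ (q - 1) = 1 := by
          have h12 : x ^ (q - 1) * x = 1 * x := by
            rw [← pow_succ, Nat.sub_add_cancel hq.le, one_mul]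
            exact sub_eq_zero.1 h10
          exact mul_right_cancel₀ h0 h12
        rw [e, pow_mul, h11, one_pow]
      · have h11 : x ^ (q + 1) = 1 := by
          rw [pow_succ, sub_eq_zero.1 h10, inv_mul_cancel₀ h0]
        rw [e, mul_comm, pow_mul, h11, one_pow]
    have h13 : orderOf x ∣ 1 := by
      rw [← hNq]
      exact Nat.dvd_gcd (orderOf_dvd_of_pow_eq_one hlN) (orderOf_dvd_of_pow_eq_one h9)
    exact orderOf_eq_one_iff.1 (Nat.dvd_one.1 h13)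
  have hB2 : B = up (B.1 0 1) := by
    rw [hl] at hB1
    have h14 : (hS 1 : SL k) = 1 := by
      apply Subtype.ext
      rw [coe_hS one_ne_zero]
      ext a b
      fin_cases a <;> fin_cases b <;> simp
    rwa [h14, one_mul, inv_one, one_mul] at hB1
  have hB3 : B = 1 := by
    rw [hB2, up_pow] at hBN
    have h15 := up_inj hBN
    rw [hB2, (mul_eq_zero.1 h15).resolve_left hNk, up_zero]
  have h16 : A = P * B * P⁻¹ := by rw [hB]; group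
  rw [h16, hB3, mul_one, mul_inv_cancel]

end SLfacts

end Cfsg.Agent.H167.EX
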