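import Cfsg.Agent.H167.EX.Fix

/-!
# Fixed points of Frobenius in `L C(L)`, second part (helper167, S4312, exceptional groups)
-/

set_option autoImplicit false
set_option linter.unusedSectionVars false

namespace Cfsg.Agent.H167.EX

open CoxeterSystem Cfsg Cfsg.Lie Cfsg.Lie.ChevalleyDatum
open Cfsg.Agent.ChevalleyStructure Cfsg.Agent.ChevalleyStructure.Elts Cfsg.Agent.ChevalleyStructure.CoxeterGeom
  Cfsg.Agent.ChevalleyStructure.CoxeterGeomTypes Cfsg.Agent.ChevalleyStructure.NPerm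
open Cfsg.Agent.Tits.Roots Cfsg.Agent.Tits.Core Cfsg.Agent.Nodes Cfsg.Agent.Nodes.Reps Cfsg.Agent.Nodes.BNOf
  Cfsg.Agent.Nodes.RGDChev Cfsg.Agent.Nodes.Bruhat Cfsg.Agent.Nodes.NormalForm
open Cfsg.Agent.KFacts.RgdField Cfsg.Agent.KFacts.RgdChevCoord
open Cfsg.Agent.BpExc Cfsg.Agent.BpExc.TorCent Cfsg.Agent.BpExc.TorChev Cfsg.Agent.BpExc.Tow
  Cfsg.Agent.BpExc.TowChev Cfsg.Agent.BpExc.Fr Cfsg.Agent.BpExc.Pair Cfsg.Agent.BpExc.LangFr Cfsg.Agent.GpExc.Field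
  Cfsg.Agent.BpExc.TorAll
open Cfsg.Agent.H469.Exc Cfsg.Agent.H469.Exc.SigFr
open Cfsg.Agent.Nodes.RGDFoldSL
open Cfsg.Agent.ChevalleyStructure.SL2Hom (up lo mem_closure_SL2)
open Module

universe u v

variable {D : ChevalleyDatum} {l : ℕ} {M : CoxeterMatrix (Fin l)} (hp : IsType D l M) {k : Type u} [Field k]
  {s : ℕ} (hs : s < D.nroots)

include hp hs in
/-- a root element in the torus is trivial -/
theorem xs_TT (p : ℕ) [Fact p.Prime] [CharP k p] (hk : LocFin k) {t : k} (h : xs hp.inList s t ∈ TT D k) : t = 0 := by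
  have h1 := H892.El.coe_TT hp (r := p) hk h
  rw [coe_xs, coe_xG, x_of_lt hs] at h1
  have hn := neg_lt hp.inList hs
  have hne := neg_ne hp.inList hs
  have h2 := congrFun (congrFun h1 (Sum.inr ⟨s, hs⟩)) (Sum.inr ⟨D.neg s, hn⟩)
  rw [Matrix.diagonal_apply_ne _ (fun e => hne (congrArg Fin.val (Sum.inr.inj e)).symm)] at h2
  unfold ChevalleyDatum.xMat at h2
  rw [Matrix.of_apply] at h2
  have e1 : (⟨D.neg s, hn⟩ : Fin D.nroots) ≠ ⟨s, hs⟩ := fun e => hne (congrArg Fin.val e)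
  have e2 : D.neg s = D.negIdx.getD s 0 := rfl
  have e3 : ¬ s = D.negIdx.getD s 0 := fun e => hne e.symm
  have e4 : ¬ D.negIdx.getD s 0 = s := fun e => hne e
  rw [Array.getD_eq_getD_getElem?] at e3 e4
  simp only [e2, if_true] at h2
  simpa [e3, e4] using h2

/-- `ph` is injective -/
theorem ph_injective [IsAlgClosed k] (h2 : (2 : k) ≠ 0) (p : ℕ) [Fact p.Prime] [CharP k p] (hk : LocFin k)
    (hg : good D s = true) {A : SL k} (hA : ph hp k hs A = 1) : A = 1 := by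
  obtain ⟨P, hP⟩ := exists_tri h2 A
  have hB : ph hp k hs (P⁻¹ * A * P) = 1 := by
    rw [map_mul, map_mul, hA, mul_one, ← map_mul, inv_mul_cancel, map_one]
  obtain ⟨h0, hB1⟩ := tri_eq hP
  set x := (P⁻¹ * A * P).1 0 0 with hx
  set y := (x)⁻¹ * (P⁻¹ * A * P).1 0 1 with hy
  rw [hB1, map_mul, ph_up] at hB
  have hy0 : y = 0 := by
    refine xs_TT hp hs p hk ?_
    rw [eq_inv_of_mul_eq_one_right hB]
    exact inv_mem (ph_hS_mem hp hs h0)
  rw [hy0] at hB hB1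
  obtain ⟨r, hr, he⟩ := (good_spec hg).2.2.2
  have hx1 : x = 1 := by
    have h3 : xs hp.inList s (0 : k) = 1 := by rw [← ph_up hp hs, up_zero, map_one]
    rw [h3, mul_one] at hB
    have h4 := ch_ph_hS hp hs p hk h0 hr
    rw [hB, ch_one hp p hk hr, he, zpow_one] at h4
    exact h4.symm
  have h5 : P⁻¹ * A * P = 1 := by
    rw [hB1, hx1, up_zero, mul_one]
    apply Subtype.ext
    rw [coe_hS one_ne_zero]
    ext a b
    fin_cases a <;> fin_cases b <;> simp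
  have h6 : A = P * (P⁻¹ * A * P) * P⁻¹ := by group
  rw [h6, h5, mul_one, mul_inv_cancel]

/-- an element of `SL₂` commuting with `up 1` and `lo 1` has square one -/
theorem sq_of_comm {A : SL k} (h1 : A * up 1 = up 1 * A) (h2 : A * lo 1 = lo 1 * A) : A ^ 2 = 1 := by
  obtain ⟨u1, u2, u3, u4⟩ := up_entries (1 : k)
  obtain ⟨v1, v2, v3, v4⟩ := lo_entries (1 : k)
  have e1 : (A * up 1).1 0 0 = (up 1 * A).1 0 0 := by rw [h1]
  have e2 : (A * up 1).1 0 1 = (up 1 * A).1 0 1 := by rw [h1]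
  have e3 : (A * lo 1).1 0 0 = (lo 1 * A).1 0 0 := by rw [h2]
  rw [mul00, mul00, u1, u2, u3] at e1
  rw [mul01, mul01, u1, u2, u4] at e2
  rw [mul00, mul00, v1, v2, v3] at e3
  have f1 : A.1 1 0 = 0 := by linear_combination -e1
  have f2 : A.1 0 1 = 0 := by linear_combination e3
  have f3 : A.1 0 0 = A.1 1 1 := by linear_combination e2
  have hd := det_eq A
  rw [f1, f2, ← f3] at hd
  rw [pow_two]
  refine sl_ext ?_ ?_ ?_ ?_
  · rw [mul00, f1, f2]
    show _ = (1 : k)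
    linear_combination hd
  · rw [mul01, f2]
    show _ = (0 : k)
    ring
  · rw [mul10, f1]
    show _ = (0 : k)
    ring
  · rw [mul11, f1, f2, ← f3]
    show _ = (1 : k)
    linear_combination hd

/-- `σ` on `L` -/
theorem sig_ph {σ : MulAut ↥(D.group k)} (φ : k →+* k) {c : k} (hc : c ≠ 0)
    (h1 : ∀ t, σ (xs hp.inList s t) = xs hp.inList s (c * φ t))
    (h2 : ∀ t, σ (xs hp.inList (D.neg s) t) = xs hp.inList (D.neg s) (c⁻¹ * φ t)) (A : SL k) :
    σ (ph hp k hs A) = ph hp k hs (Fm φ hc A) := by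
  have h3 : A ∈ MonoidHom.eqLocus ((σ : ↥(D.group k) →* ↥(D.group k)).comp (ph hp k hs))
      ((ph hp k hs).comp (Fm φ hc)) := by
    refine (Subgroup.closure_le _).2 ?_ (mem_closure_SL2 A)
    rintro _ (⟨t, rfl⟩ | ⟨t, rfl⟩)
    · show σ (ph hp k hs (up t)) = ph hp k hs (Fm φ hc (up t))
      rw [Fm_up, ph_up, ph_up, h1]
    · show σ (ph hp k hs (lo t)) = ph hp k hs (Fm φ hc (lo t))
      rw [Fm_lo, ph_lo, ph_lo, h2]
  exact h3

/-- **`n` fixed by `σ`, of order prime to `2 p (q ^ 2 - 1)`, commuting with `z`, centralises `L`.** -/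
theorem mem_centralizer_ph [IsAlgClosed k] (h2 : (2 : k) ≠ 0) (p : ℕ) [Fact p.Prime] [CharP k p] (hk : LocFin k)
    (hg : good D s = true) {σ : MulAut ↥(D.group k)} (φ : k →+* k) {q : ℕ} (hq : 1 < q) (hφ : ∀ t, φ t = t ^ q)
    {c : k} (hc : c ≠ 0) (h1 : ∀ t, σ (xs hp.inList s t) = xs hp.inList s (c * φ t))
    (h1' : ∀ t, σ (xs hp.inList (D.neg s) t) = xs hp.inList (D.neg s) (c⁻¹ * φ t)) {n : ↥(D.group k)}
    (hσn : σ n = n) {N : ℕ} (hnN : n ^ N = 1) (hN2 : Odd N) (hNk : (N : k) ≠ 0) (hNq : N.Coprime (q ^ 2 - 1))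
    (hn : n * zz hp (k := k) hs = zz hp (k := k) hs * n) :
    n ∈ Subgroup.centralizer ((ph hp k hs).range : Set ↥(D.group k)) := by
  obtain ⟨A, d, hd, hnA⟩ := (mem_LC hp hs).1 (mem_LC_of_comm hp hs h2 p hk hg hn hN2 hnN)
  -- `σ d` centralises `L`
  have hsurj : ∀ u : k, ∃ t, c * φ t = u := by
    intro u
    obtain ⟨t, ht⟩ := IsAlgClosed.exists_pow_nat_eq (c⁻¹ * u) (show 0 < q by omega)
    exact ⟨t, by rw [hφ, ht, mul_inv_cancel_left₀ hc]⟩
  have hsurj' : ∀ u : k, ∃ t, c⁻¹ * φ t = u := by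
    intro u
    obtain ⟨t, ht⟩ := IsAlgClosed.exists_pow_nat_eq (c * u) (show 0 < q by omega)
    exact ⟨t, by rw [hφ, ht, inv_mul_cancel_left₀ hc]⟩
  have hσd : σ d ∈ Subgroup.centralizer ((ph hp k hs).range : Set ↥(D.group k)) := by
    refine mem_cent hp hs (fun u => ?_) (fun u => ?_)
    · obtain ⟨t, rfl⟩ := hsurj u
      rw [← h1, ← map_mul, ← map_mul, ← ph_up hp hs]
      exact congrArg σ (Subgroup.mem_centralizer_iff.1 hd _ ⟨up t, rfl⟩).symm
    · obtain ⟨t, rfl⟩ := hsurj' u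
      rw [← h1', ← map_mul, ← map_mul, ← ph_lo hp hs]
      exact congrArg σ (Subgroup.mem_centralizer_iff.1 hd _ ⟨lo t, rfl⟩).symm
  -- an element of `L ∩ C(L)`
  have hcen : ∀ B : SL k, ph hp k hs B ∈ Subgroup.centralizer ((ph hp k hs).range : Set ↥(D.group k)) →
      B ^ 2 = 1 ∧ ∀ B', B * B' = B' * B := by
    intro B hB
    have h3 : ∀ B', B * B' = B' * B := by
      intro B'
      have h4 := Subgroup.mem_centralizer_iff.1 hB _ ⟨B', rfl⟩
      rw [← map_mul, ← map_mul] at h4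
      have h5 : ph hp k hs (B' * B * (B * B')⁻¹) = 1 := by
        rw [map_mul, h4, ← map_mul, mul_inv_cancel, map_one]
      exact (mul_inv_eq_one.1 (ph_injective hp hs h2 p hk hg h5)).symm
    exact ⟨sq_of_comm (h3 _) (h3 _), h3⟩
  set A' := A⁻¹ * Fm φ hc A with hA'
  have hA'1 : ph hp k hs A' = d * (σ d)⁻¹ := by
    have h3 : ph hp k hs (Fm φ hc A) * σ d = ph hp k hs A * d := by
      rw [← sig_ph hp hs φ hc h1 h1', ← map_mul, ← hnA, hσn, hnA]
    rw [hA', map_mul, map_inv, eq_mul_inv_iff_mul_eq, mul_assoc, h3, inv_mul_cancel_left]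
  obtain ⟨hA'2, hA'3⟩ := hcen A' (by rw [hA'1]; exact mul_mem hd (inv_mem hσd))
  have hFA : Fm φ hc (A ^ 2) = A ^ 2 := by
    have h3 : Fm φ hc A = A * A' := by rw [hA', mul_inv_cancel_left]
    rw [map_pow, h3, (show Commute A A' from (hA'3 A).symm).mul_pow, hA'2, mul_one]
  have hcomm : Commute (ph hp k hs A) d := Subgroup.mem_centralizer_iff.1 hd _ ⟨A, rfl⟩
  have hAN : ph hp k hs (A ^ N) = (d ^ N)⁻¹ := by
    rw [hnA, hcomm.mul_pow] at hnN
    rw [map_pow]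
    exact eq_inv_of_mul_eq_one_left hnN
  obtain ⟨hAN2, -⟩ := hcen (A ^ N) (by rw [hAN]; exact inv_mem (pow_mem hd N))
  have hA2 : A ^ 2 = 1 := sl_eq_one h2 φ hq hφ hc hFA (by rw [← pow_mul, mul_comm, pow_mul]; exact hAN2) hNk hNq
  have hn2 : n ^ 2 ∈ Subgroup.centralizer ((ph hp k hs).range : Set ↥(D.group k)) := by
    rw [hnA, hcomm.mul_pow, ← map_pow, hA2, map_one, one_mul]
    exact pow_mem hd 2
  have hcop : Nat.Coprime (orderOf n) 2 :=
    Nat.Coprime.coprime_dvd_left (orderOf_dvd_of_pow_eq_one hnN) (Nat.coprime_two_right.2 hN2)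
  have h5 : n ∈ Subgroup.zpowers (n ^ 2) := mem_zpowers_pow_iff.2 hcop.symm
  exact (Subgroup.zpowers_le.2 hn2) h5

end Cfsg.Agent.H167.EX
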