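import Cfsg.Agent.H167.EX.Fix2

/-!
# Frames of orthogonal roots (helper167, S4312, exceptional groups)

* `mem_TT_of_frame` : an element of finite order which centralises `L_s` for all `s` in a frame is in the torus;
* `TT_fix` : a `σ`-fixed element of the torus has order dividing `q ^ 2 - 1`.
-/

set_option autoImplicit false
set_option linter.unusedSectionVars false

namespace Cfsg.Agent.H167.EX

open CoxeterSystem Cfsg Cfsg.Lie Cfsg.Lie.ChevalleyDatum
open Cfsg.Agent.ChevalleyStructure Cfsg.Agent.ChevalleyStructure.Elts Cfsg.Agent.ChevalleyStructure.CoxeterGeom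
  Cfsg.Agent.ChevalleyStructure.CoxeterGeomTypes Cfsg.Agent.ChevalleyStructure.NPerm
open Cfsg.Agent.Tits.Roots Cfsg.Agent.Tits.Core Cfsg.Agent.Nodes Cfsg.Agent.Nodes.Reps Cfsg.Agent.Nodes.BNOf
  Cfsg.Agent.Nodes.RGDChev Cfsg.Agent.Nodes.Bruhat Cfsg.Agent.Nodes.NormalForm
open Cfsg.Agent.KFacts.RgdField Cfsg.Agent.KFacts.RgdChevCoord
open Cfsg.Agent.BpExc Cfsg.Agent.BpExc.TorCent Cfsg.Agent.BpExc.TorChev Cfsg.Agent.BpExc.Tow
  Cfsg.Agent.BpExc.TowChev Cfsg.Agent.BpExc.Fr Cfsg.Agent.BpExc.Pair Cfsg.Agent.BpExc.LangFr Cfsg.Agent.GpExc.Field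
  Cfsg.Agent.BpExc.TorAll
open Cfsg.Agent.H469.Exc Cfsg.Agent.H469.Exc.SigFr
open Cfsg.Agent.Nodes.RGDFoldSL
open Cfsg.Agent.ChevalleyStructure.SL2Hom (up lo mem_closure_SL2)
open Module

universe u v

variable {D : ChevalleyDatum} {l : ℕ} {M : CoxeterMatrix (Fin l)} (hp : IsType D l M) {k : Type u} [Field k]

/-- a generic combination of the pairings with the roots of the frame -/
def gl (D : ChevalleyDatum) : List ℕ → ℕ → ℤ
  | [], _ => 0
  | s :: L, r => HMatDiagAll.expo D s r + 5 * gl D L r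

theorem exists_te (p : ℕ) [Fact p.Prime] [CharP k p] (hk : LocFin k) (L : List ℕ) (hL : ∀ s ∈ L, s < D.nroots) :
    ∀ ζ : k, ζ ≠ 0 → ∃ t ∈ TT D k, (∀ r < D.nroots, ch hp (vec D l r) t = ζ ^ gl D L r) ∧
      ∀ n : ↥(D.group k), (∀ s (h : s ∈ L), n ∈ Subgroup.centralizer
        ((ph hp k (hL s h)).range : Set ↥(D.group k))) → n * t = t * n := by
  induction L with
  | nil =>
    intro ζ _
    refine ⟨1, one_mem _, fun r hr => ?_, fun n _ => by rw [one_mul, mul_one]⟩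
    rw [ch_one hp p hk hr]
    show _ = ζ ^ (0 : ℤ)
    rw [zpow_zero]
  | cons s L ih =>
    intro ζ hζ
    obtain ⟨t, ht, h1, h2⟩ := ih (fun s' h => hL s' (List.mem_cons_of_mem _ h)) (ζ ^ 5) (pow_ne_zero 5 hζ)
    have hs : s < D.nroots := hL s List.mem_cons_self
    have hm := ph_hS_mem hp (k := k) hs hζ
    refine ⟨ph hp k hs (hS ζ) * t, mul_mem hm ht, fun r hr => ?_, fun n hn => ?_⟩
    · rw [ch_mul hp p hk hr hm ht, ch_ph_hS hp hs p hk hζ hr, h1 r hr]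
      show _ = ζ ^ (HMatDiagAll.expo D s r + 5 * gl D L r)
      rw [zpow_add₀ hζ, zpow_mul]
      have h3 : ζ ^ (5 : ℤ) = ζ ^ 5 := by norm_cast
      rw [h3]
    · have h3 := Subgroup.mem_centralizer_iff.1 (hn s List.mem_cons_self) (ph hp k hs (hS ζ)) ⟨_, rfl⟩
      have h4 := h2 n fun s' h => hn s' (List.mem_cons_of_mem _ h)
      rw [← mul_assoc, ← h3, mul_assoc, h4, ← mul_assoc]

/-- **Elements centralising all `L_s`, `s` in the frame, are in the torus.** -/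
theorem mem_TT_of_frame [IsAlgClosed k] (p : ℕ) [Fact p.Prime] [CharP k p] (hk : LocFin k) (L : List ℕ)
    (hL : ∀ s ∈ L, s < D.nroots) (hgl : ∀ r < D.nroots, gl D L r ≠ 0) {n : ↥(D.group k)}
    (hn : ∀ s (h : s ∈ L), n ∈ Subgroup.centralizer ((ph hp k (hL s h)).range : Set ↥(D.group k)))
    {N : ℕ} (hN0 : N ≠ 0) (hN : n ^ N = 1) : n ∈ TT D k := by
  -- a large prime
  obtain ⟨q, hqb, hq⟩ := Nat.exists_infinite_primes
    (N + p + (∑ r ∈ Finset.range D.nroots, (gl D L r).natAbs) + 1)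
  have hqp : q ≠ p := by omega
  have hqk : (q : k) ≠ 0 := by
    intro h
    rw [CharP.cast_eq_zero_iff k p] at h
    exact hqp ((Nat.prime_dvd_prime_iff_eq (Fact.out : p.Prime) hq).1 h).symm
  have : NeZero (q : k) := ⟨hqk⟩
  have : NeZero q := ⟨hq.ne_zero⟩
  obtain ⟨ζ, hζ⟩ := HasEnoughRootsOfUnity.exists_primitiveRoot k q
  have hζ0 : ζ ≠ 0 := hζ.ne_zero hq.ne_zero
  obtain ⟨t, ht, h1, h2⟩ := exists_te hp p hk L hL ζ hζ0
  have htq : t ^ q = 1 := by
    refine eq_one_of_ch hp p hk (pow_mem ht q) fun r hr => ?_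
    rw [ch_pow hp p hk hr ht, h1 r hr, ← zpow_natCast, ← zpow_mul, mul_comm, zpow_mul, zpow_natCast, hζ.pow_eq_one,
      one_zpow]
  obtain ⟨j, hj⟩ := pow_memL hp hk p ht hq htq (h2 n hn)
  have h3 : MM M.toCoxeterSystem hp.isCartan (XX D l k) (ch hp) t ⊔ TT D k ≤ TT D k := by
    refine sup_le (RGD.Sup_le fun a ha => ?_) le_rfl
    obtain ⟨r, hr, rfl⟩ := (isRoot_iff hp M.toCoxeterSystem a).1 ha.1
    exfalso
    have h4 := ha.2
    rw [h1 r hr, hζ.zpow_eq_one_iff_dvd] at h4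
    have h5 := Int.natAbs_dvd_natAbs.2 h4
    rw [Int.natAbs_natCast] at h5
    have h6 := Nat.le_of_dvd (Nat.pos_of_ne_zero (Int.natAbs_ne_zero.2 (hgl r hr))) h5
    have h7 := Finset.single_le_sum (f := fun r => (gl D L r).natAbs) (fun _ _ => Nat.zero_le _)
      (Finset.mem_range.2 hr)
    omega
  have h8 := h3 hj
  have hcop : Nat.Coprime (orderOf n) (q ^ j) := by
    refine Nat.Coprime.pow_right j ?_
    rw [Nat.coprime_comm, Nat.Prime.coprime_iff_not_dvd hq]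
    intro h9
    have := Nat.le_of_dvd (Nat.pos_of_ne_zero hN0) (h9.trans (orderOf_dvd_of_pow_eq_one hN))
    omega
  have h5 : n ∈ Subgroup.zpowers (n ^ q ^ j) := mem_zpowers_pow_iff.2 hcop.symm
  exact (Subgroup.zpowers_le.2 h8) h5

/-- `σ`-fixed elements of the torus -/
theorem TT_fix (p : ℕ) [Fact p.Prime] [CharP k p] (hk : LocFin k) {σ : MulAut ↥(D.group k)} {q : ℕ} (hq : 1 < q)
    (hact : ∀ s < D.nroots, ∃ s' < D.nroots, (∃ c : k, c ≠ 0 ∧ ∀ t, σ (xs hp.inList s t) =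
      xs hp.inList s' (c * t ^ q)) ∧ ∃ c : k, c ≠ 0 ∧ ∀ t, σ (xs hp.inList s' t) = xs hp.inList s (c * t ^ q))
    {n : ↥(D.group k)} (hn : n ∈ TT D k) (hσ : σ n = n) : n ^ (q ^ 2 - 1) = 1 := by
  have key : ∀ s < D.nroots, ∀ s' < D.nroots, (∃ c : k, c ≠ 0 ∧ ∀ t, σ (xs hp.inList s t) =
      xs hp.inList s' (c * t ^ q)) → ch hp (vec D l s') n = ch hp (vec D l s) n ^ q := by
    rintro s hs s' hs' ⟨c, hc, h⟩
    have h1 := congrArg σ (act_xs hp hs hn 1)
    rw [map_mul, map_mul, map_inv, hσ, h, h, act_xs hp hs' hn] at h1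
    have h2 := xG_injective hp.inList hs' (congrArg Subtype.val h1)
    rw [one_pow, mul_one, mul_one] at h2
    have h3 : c * ch hp (vec D l s') n = c * ch hp (vec D l s) n ^ q := by rw [mul_comm, h2]
    exact mul_left_cancel₀ hc h3
  refine eq_one_of_ch hp p hk (pow_mem hn _) fun s hs => ?_
  obtain ⟨s', hs', h1, h2⟩ := hact s hs
  have h3 := key s hs s' hs' h1
  have h4 := key s' hs' s hs h2
  rw [h3, ← pow_mul] at h4
  rw [ch_pow hp p hk hs hn]
  have h0 := (act hp hs hn).1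
  have h5 : ch hp (vec D l s) n ^ (q ^ 2 - 1) * ch hp (vec D l s) n = 1 * ch hp (vec D l s) n := by
    have h6 : 1 ≤ q ^ 2 := Nat.one_le_pow _ _ (by omega)
    rw [← pow_succ, Nat.sub_add_cancel h6, one_mul, pow_two]
    exact h4.symm
  exact mul_right_cancel₀ h0 h5

end Cfsg.Agent.H167.EX
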