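import Mathlib

/-!
# An odd group normalised by a torus subgroup of exponent 4 (helper167, S4312, exceptional groups)

`A ≤ T`, `T` commutative, `R` solvable of odd order normalised by `A`, `R ≰ T`, every proper `A`-invariant subgroup of
`R` lies in `T`; `y ∈ A`, `y ^ 4 = 1`, `y ^ 2` does not centralise `R`.

* `comm_mem` : `[R, R] ≤ T`;
* `exists_pow` : for `x ∈ A`, `x ^ 4 = 1`, some `x (y ^ j)⁻¹` centralises `R`;
* `central` : `R ∩ T` is central in `R`.
-/

set_option autoImplicit false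
set_option linter.unusedSectionVars false

namespace Cfsg.Agent.H167.EX.Red

open Subgroup

variable {G : Type*} [Group G] {T A R : Subgroup G}

/-- the hypotheses -/
structure Hyp (T A R : Subgroup G) : Prop where
  comm : ∀ s ∈ T, ∀ t ∈ T, s * t = t * s
  le : A ≤ T
  fin : Finite R
  odd : Odd (Nat.card R)
  sol : Group.IsSolvable R
  norm : ∀ a ∈ A, ∀ v ∈ R, a * v * a⁻¹ ∈ R
  min : ∀ R0 : Subgroup G, R0 ≤ R → R0 ≠ R → (∀ a ∈ A, ∀ v ∈ R0, a * v * a⁻¹ ∈ R0) → R0 ≤ T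
  not_le : ¬ R ≤ T

theorem mem_of_sq {R T : Subgroup G} (_hf : Finite R) (ho : Odd (Nat.card R)) {v : G} (hv : v ∈ R) (h : v ^ 2 ∈ T) :
    v ∈ T := by
  obtain ⟨m, hm⟩ := ho
  have h1 : v ^ Nat.card R = 1 := by
    have := congrArg Subtype.val (pow_card_eq_one' (x := (⟨v, hv⟩ : R)))
    rwa [Subgroup.coe_pow] at this
  have h2 : v = (v ^ 2) ^ (m + 1) := by
    rw [← pow_mul, show 2 * (m + 1) = (2 * m + 1) + 1 by ring, ← hm, pow_succ, h1, one_mul]
  rw [h2]
  exact pow_mem h _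

theorem comm_of_sq {R : Subgroup G} (hf : Finite R) (ho : Odd (Nat.card R)) {v c : G} (hv : v ∈ R)
    (h : v ^ 2 * c = c * v ^ 2) : v * c = c * v := by
  have h1 : v ∈ Subgroup.centralizer {c} := mem_of_sq hf ho hv (Subgroup.mem_centralizer_singleton_iff.2 h)
  exact Subgroup.mem_centralizer_singleton_iff.1 h1

theorem eq_one_of_sq {R : Subgroup G} (hf : Finite R) (ho : Odd (Nat.card R)) {c : G} (hc : c ∈ R) (h : c ^ 2 = 1) :
    c = 1 := by
  have h1 : c ∈ (⊥ : Subgroup G) := mem_of_sq hf ho hc (by rw [h]; exact one_mem _)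
  exact Subgroup.mem_bot.1 h1

variable (H : Hyp T A R)

include H

theorem dich {a : G} (ha : a ∈ A) : (∀ v ∈ R, a * v = v * a) ∨ ∀ v ∈ R, a * v = v * a → v ∈ T := by
  by_cases h : R ⊓ Subgroup.centralizer {a} = R
  · left
    intro v hv
    rw [← h] at hv
    exact (Subgroup.mem_centralizer_singleton_iff.1 hv.2).symm
  · right
    intro v hv hc
    refine H.min _ inf_le_left h (fun b hb w hw => ⟨H.norm b hb w hw.1, ?_⟩)
      ⟨hv, Subgroup.mem_centralizer_singleton_iff.2 hc.symm⟩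
    have h1 := Subgroup.mem_centralizer_singleton_iff.1 hw.2
    have h2 := H.comm a (H.le ha) b (H.le hb)
    have h3 := H.comm a (H.le ha) b⁻¹ (inv_mem (H.le hb))
    show _ ∈ Subgroup.centralizer {a}
    rw [Subgroup.mem_centralizer_singleton_iff]
    calc b * w * b⁻¹ * a = b * w * (a * b⁻¹) := by rw [h3]; group
      _ = b * (w * a) * b⁻¹ := by group
      _ = (b * a) * w * b⁻¹ := by rw [h1]; group
      _ = a * (b * w * b⁻¹) := by rw [← h2]; group

theorem comm_mem {v w : G} (hv : v ∈ R) (hw : w ∈ R) : v * w * v⁻¹ * w⁻¹ ∈ T := by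
  have := H.fin
  have := H.sol
  have hnt : Nontrivial R := by
    rw [Subgroup.nontrivial_iff_ne_bot]
    rintro h
    exact H.not_le (h ▸ bot_le)
  have h1 : commutator R < ⊤ := Group.IsSolvable.commutator_lt_top_of_nontrivial R
  have h2 : ⁅R, R⁆ ≤ R := Subgroup.commutator_le_self R
  have h3 : ⁅R, R⁆ ≠ R := by
    intro h
    apply h1.ne
    rw [eq_top_iff]
    intro x _
    have h4 : (x : G) ∈ (commutator R).map R.subtype := by
      rw [_root_.commutator_def, Subgroup.map_commutator, ← MonoidHom.range_eq_map, Subgroup.range_subtype, h]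
      exact x.2
    obtain ⟨y, hy, e⟩ := h4
    have : y = x := Subtype.ext e
    rwa [← this]
  refine H.min _ h2 h3 (fun a ha u hu => ?_) (Subgroup.commutator_mem_commutator hv hw)
  have h5 : (MulAut.conj a).toMonoidHom u ∈ (⁅R, R⁆).map (MulAut.conj a).toMonoidHom := ⟨u, hu, rfl⟩
  rw [Subgroup.map_commutator] at h5
  have h6 : R.map (MulAut.conj a).toMonoidHom ≤ R := by
    rintro _ ⟨x, hx, rfl⟩
    exact H.norm a ha x hx
  exact Subgroup.commutator_mono h6 h6 h5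

/-- `a ∈ A` with `a ^ 2` centralising `R` centralises or inverts `R` modulo `T` -/
theorem inv_mem_of {a : G} (ha : a ∈ A) (h2 : ∀ v ∈ R, a ^ 2 * v = v * a ^ 2) :
    (∀ v ∈ R, a * v = v * a) ∨ ∀ v ∈ R, v * (a * v * a⁻¹) ∈ T := by
  rcases dich H ha with h | h
  · exact Or.inl h
  · right
    intro v hv
    set v' := a * v * a⁻¹ with hv'
    have hv'R : v' ∈ R := H.norm a ha v hv
    set c := v * v' * v⁻¹ * v'⁻¹ with hc
    have hcT : c ∈ T := comm_mem H hv hv'R
    have hcR : c ∈ R := mul_mem (mul_mem (mul_mem hv hv'R) (inv_mem hv)) (inv_mem hv'R)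
    have hac : a * c * a⁻¹ = c := by rw [H.comm a (H.le ha) c hcT]; group
    have haa : a * v' * a⁻¹ = v := by
      rw [hv']
      have := h2 v hv
      calc a * (a * v * a⁻¹) * a⁻¹ = a ^ 2 * v * (a ^ 2)⁻¹ := by rw [pow_two]; group
        _ = v := by rw [this]; group
    have hu : a * (v * v') * a⁻¹ = v' * v := by
      calc a * (v * v') * a⁻¹ = (a * v * a⁻¹) * (a * v' * a⁻¹) := by group
        _ = v' * v := by rw [haa]
    have hcu : v * v' = c * (v' * v) := by rw [hc]; group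
    have hc2 : c ^ 2 = 1 := by
      have e1 : a * (a * (v * v') * a⁻¹) * a⁻¹ = v * v' := by
        rw [hu]
        calc a * (v' * v) * a⁻¹ = (a * v' * a⁻¹) * (a * v * a⁻¹) := by group
          _ = v * v' := by rw [haa]
      have e2 : a * (a * (v * v') * a⁻¹) * a⁻¹ = c⁻¹ * (c⁻¹ * (v * v')) := by
        have e3 : a * (v * v') * a⁻¹ = c⁻¹ * (v * v') := by rw [hu, hcu, inv_mul_cancel_left]
        have e4 : a * c⁻¹ * a⁻¹ = c⁻¹ := by
          calc a * c⁻¹ * a⁻¹ = (a * c * a⁻¹)⁻¹ := by group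
            _ = c⁻¹ := by rw [hac]
        calc a * (a * (v * v') * a⁻¹) * a⁻¹ = a * (c⁻¹ * (v * v')) * a⁻¹ := by rw [e3]
          _ = (a * c⁻¹ * a⁻¹) * (a * (v * v') * a⁻¹) := by group
          _ = c⁻¹ * (c⁻¹ * (v * v')) := by rw [e4, e3]
      rw [e1] at e2
      have e5 : c ^ 2 * (v * v') = v * v' := by
        conv_lhs => rw [e2]
        rw [pow_two]; group
      exact mul_eq_right.1 e5
    have hc1 : c = 1 := eq_one_of_sq H.fin H.odd hcR hc2
    refine h _ (mul_mem hv hv'R) ?_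
    have e6 : a * (v * v') * a⁻¹ = v * v' := by rw [hu, hcu, hc1, one_mul]
    exact mul_inv_eq_iff_eq_mul.1 e6

theorem mul_cent {a b : G} (ha : a ∈ A) (hb : b ∈ A) (h1 : ∀ v ∈ R, v * (a * v * a⁻¹) ∈ T)
    (h2 : ∀ v ∈ R, v * (b * v * b⁻¹) ∈ T) (h : ∀ v ∈ R, (a * b) ^ 2 * v = v * (a * b) ^ 2) :
    ∀ v ∈ R, a * b * v = v * (a * b) := by
  rcases inv_mem_of H (mul_mem ha hb) h with h3 | h3
  · exact h3
  · exfalso
    apply H.not_le
    intro v hv
    have h4 := h2 v hv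
    have h5 := h1 v⁻¹ (inv_mem hv)
    have h6 := h3 v hv
    set θ := v * (b * v * b⁻¹) with hθ
    set θ' := v⁻¹ * (a * v⁻¹ * a⁻¹) with hθ'
    have hat : a * θ * a⁻¹ = θ := by rw [H.comm a (H.le ha) θ h4]; group
    have e1 : b * v * b⁻¹ = v⁻¹ * θ := by rw [hθ]; group
    have e2 : a * v⁻¹ * a⁻¹ = v * θ' := by rw [hθ']; group
    have e3 : a * b * v * (a * b)⁻¹ = v * θ' * θ := by
      calc a * b * v * (a * b)⁻¹ = a * (b * v * b⁻¹) * a⁻¹ := by group
        _ = (a * v⁻¹ * a⁻¹) * (a * θ * a⁻¹) := by rw [e1]; group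
        _ = v * θ' * θ := by rw [e2, hat]
    rw [e3] at h6
    have e4 : v ^ 2 = v * (v * θ' * θ) * θ⁻¹ * θ'⁻¹ := by rw [pow_two]; group
    refine mem_of_sq H.fin H.odd hv ?_
    rw [e4]
    exact mul_mem (mul_mem h6 (inv_mem h4)) (inv_mem h5)

variable {y : G} (hy : y ∈ A) (hy4 : y ^ 4 = 1) (hyR : ¬ ∀ v ∈ R, y ^ 2 * v = v * y ^ 2)

include hy hy4 hyR

theorem inv_y {v : G} (hv : v ∈ R) : v * (y ^ 2 * v * (y ^ 2)⁻¹) ∈ T := by
  rcases inv_mem_of H (pow_mem hy 2) (fun v _ => by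
    rw [← pow_mul, show 2 * 2 = 4 by norm_num, hy4, one_mul, mul_one]) with h | h
  · exact absurd h hyR
  · exact h v hv

/-- **every `x ∈ A`, `x ^ 4 = 1`, agrees on `R` with a power of `y`.** -/
theorem exists_pow {x : G} (hx : x ∈ A) (hx4 : x ^ 4 = 1) : ∃ j : ℕ, ∀ v ∈ R, x * (y ^ j)⁻¹ * v = v * (x * (y ^ j)⁻¹) := by
  have hxy : x * y = y * x := H.comm x (H.le hx) y (H.le hy)
  have hc : Commute x y := hxy
  have hz := fun v hv => inv_y H hy hy4 hyR (v := v) hv
  have hy2 : (y ^ 2)⁻¹ = y ^ 2 := by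
    rw [inv_eq_iff_mul_eq_one, ← pow_add]; exact hy4
  have hy3 : (y ^ 3)⁻¹ = y := by
    rw [inv_eq_iff_mul_eq_one, ← pow_succ]; exact hy4
  have hx22 : ∀ v ∈ R, (x ^ 2) ^ 2 * v = v * (x ^ 2) ^ 2 := fun v _ => by
    rw [← pow_mul, show 2 * 2 = 4 by norm_num, hx4, one_mul, mul_one]
  rcases inv_mem_of H (pow_mem hx 2) hx22 with h | h
  · -- `x ^ 2` centralises `R`
    rcases inv_mem_of H hx h with h1 | h1
    · exact ⟨0, fun v hv => by rw [pow_zero, inv_one, mul_one]; exact h1 v hv⟩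
    · refine ⟨2, fun v hv => ?_⟩
      rw [hy2]
      refine mul_cent H hx (pow_mem hy 2) h1 hz (fun w hw => ?_) v hv
      have e : (x * y ^ 2) ^ 2 = x ^ 2 := by
        rw [(hc.pow_right 2).mul_pow, ← pow_mul, show 2 * 2 = 4 by norm_num, hy4, mul_one]
      rw [e]
      exact h w hw
  · -- `x ^ 2` inverts
    have h1 := mul_cent H (pow_mem hx 2) (pow_mem hy 2) h hz (fun w _ => by
      have e : (x ^ 2 * y ^ 2) ^ 2 = 1 := by
        rw [(hc.pow_pow 2 2).mul_pow, ← pow_mul, ← pow_mul, show 2 * 2 = 4 by norm_num, hx4, hy4, mul_one]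
      rw [e, one_mul, mul_one])
    have h2 : ∀ v ∈ R, (x * y) ^ 2 * v = v * (x * y) ^ 2 := by
      rw [hc.mul_pow]
      exact h1
    rcases inv_mem_of H (mul_mem hx hy) h2 with h3 | h3
    · refine ⟨3, fun v hv => ?_⟩
      rw [hy3]
      exact h3 v hv
    · refine ⟨1, fun v hv => ?_⟩
      have h4 := mul_cent H (mul_mem hx hy) (pow_mem hy 2) h3 hz (fun w hw => by
        have e : (x * y * y ^ 2) ^ 2 = (x * y) ^ 2 := by
          have hc2 : Commute (x * y) (y ^ 2) := Commute.mul_left (hc.pow_right 2) ((Commute.refl y).pow_right 2)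
          rw [hc2.mul_pow, ← pow_mul, show 2 * 2 = 4 by norm_num, hy4, mul_one]
        rw [e]
        exact h2 w hw) v hv
      have e : x * (y ^ 1)⁻¹ = x * y * y ^ 2 := by
        rw [pow_one]
        have : y⁻¹ = y * y ^ 2 := by
          rw [inv_eq_iff_mul_eq_one, ← mul_assoc, ← pow_two, ← pow_add]
          exact hy4
        rw [this]; group
      rw [e]
      exact h4

/-- **`R ∩ T` is central in `R`.** -/
theorem central {c v : G} (hc : c ∈ R) (hcT : c ∈ T) (hv : v ∈ R) : v * c = c * v := by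
  set z := y ^ 2 with hz
  have hzT : z ∈ T := H.le (pow_mem hy 2)
  have h1 : v * c * v⁻¹ ∈ T := by
    have h2 := mul_mem (comm_mem H hv hc) hcT
    have e : v * c * v⁻¹ * c⁻¹ * c = v * c * v⁻¹ := by group
    rwa [e] at h2
  have h3 : z * (v * c * v⁻¹) * z⁻¹ = v * c * v⁻¹ := by rw [H.comm z hzT _ h1]; group
  set θ := v * (z * v * z⁻¹) with hθ
  have hθT : θ ∈ T := inv_y H hy hy4 hyR hv
  have e1 : z * v * z⁻¹ = v⁻¹ * θ := by rw [hθ]; group
  have e2 : z * c * z⁻¹ = c := by rw [H.comm z hzT c hcT]; group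
  have e3 : θ * c * θ⁻¹ = c := by rw [H.comm θ hθT c hcT]; group
  have e4 : z * (v * c * v⁻¹) * z⁻¹ = v⁻¹ * c * v := by
    calc z * (v * c * v⁻¹) * z⁻¹ = (z * v * z⁻¹) * (z * c * z⁻¹) * (z * v * z⁻¹)⁻¹ := by group
      _ = v⁻¹ * (θ * c * θ⁻¹) * v := by rw [e1, e2]; group
      _ = v⁻¹ * c * v := by rw [e3]
  rw [e4] at h3
  refine comm_of_sq H.fin H.odd hv ?_
  calc v ^ 2 * c = v * (v * c * v⁻¹) * v := by rw [pow_two]; group
    _ = v * (v⁻¹ * c * v) * v := by rw [h3]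
    _ = c * v ^ 2 := by rw [pow_two]; group

end Cfsg.Agent.H167.EX.Red
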