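import Cfsg.Agent.H167.EX.Tor

/-!
# Rank bounds on the adjoint module (helper167, S4312, exceptional groups)

* `rho` : the adjoint module of `D.group k`;
* `nine_le_rank` : an element `g ≠ 1` of order prime to `6 p` has `rank (g - 1) ≥ 9`;
* `sq_comm` : if `x ^ 4 = 1`, `dim ker (x + 1) ≤ 2`, `x` normalises the abelian group `N` of exponent prime to `6 p`, then
  `x ^ 2` centralises `N`.
-/

set_option autoImplicit false
set_option linter.unusedSectionVars false

namespace Cfsg.Agent.H167.EX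

open CoxeterSystem Cfsg Cfsg.Lie Cfsg.Lie.ChevalleyDatum
open Cfsg.Agent.ChevalleyStructure Cfsg.Agent.ChevalleyStructure.Elts Cfsg.Agent.ChevalleyStructure.CoxeterGeom
  Cfsg.Agent.ChevalleyStructure.CoxeterGeomTypes Cfsg.Agent.ChevalleyStructure.NPerm
open Cfsg.Agent.Tits.Roots Cfsg.Agent.Tits.Core Cfsg.Agent.Nodes Cfsg.Agent.Nodes.Reps Cfsg.Agent.Nodes.BNOf
  Cfsg.Agent.Nodes.RGDChev Cfsg.Agent.Nodes.Bruhat Cfsg.Agent.Nodes.NormalForm
open Cfsg.Agent.KFacts.RgdField Cfsg.Agent.KFacts.RgdChevCoord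
open Cfsg.Agent.BpExc Cfsg.Agent.BpExc.TorCent Cfsg.Agent.BpExc.TorChev Cfsg.Agent.BpExc.Tow
  Cfsg.Agent.BpExc.TowChev Cfsg.Agent.BpExc.Fr Cfsg.Agent.BpExc.Pair Cfsg.Agent.BpExc.LangFr Cfsg.Agent.GpExc.Field
  Cfsg.Agent.BpExc.TorAll
open Cfsg.Agent.H469.Exc
open Module

universe u v

variable {D : ChevalleyDatum} {l : ℕ} {M : CoxeterMatrix (Fin l)} (hp : IsType D l M) {k : Type u} [Field k]

/-- the adjoint module -/
noncomputable def rho (D : ChevalleyDatum) (k : Type u) [Field k] : ↥(D.group k) →* End k (D.Idx → k) :=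
  ((Matrix.toLinAlgEquiv' (R := k) (n := D.Idx) : Matrix D.Idx D.Idx k →* End k (D.Idx → k))).comp
    ((Units.coeHom (Matrix D.Idx D.Idx k)).comp (D.group k).subtype)

theorem rho_eq (g : ↥(D.group k)) :
    rho D k g = Matrix.toLin' ((g : GL D.Idx k) : Matrix D.Idx D.Idx k) := rfl

open Classical in
theorem finrank_diag (D : ChevalleyDatum) (d : D.Idx → k) :
    finrank k (LinearMap.range (Matrix.toLin' (Matrix.diagonal d))) = Fintype.card {i // d i ≠ 0} := by
  classical
  have h1 := Matrix.rank_diagonal d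
  rw [Matrix.rank, ← Matrix.toLin'_apply'] at h1
  convert h1

theorem rho_sub_one {g : ↥(D.group k)} {d : D.Idx → k}
    (h : ((g : GL D.Idx k) : Matrix D.Idx D.Idx k) = Matrix.diagonal d) :
    rho D k g - 1 = Matrix.toLin' (Matrix.diagonal fun i => d i - 1) := by
  rw [rho_eq, h]
  have h1 : (Matrix.diagonal fun i => d i - 1) = Matrix.diagonal d - 1 := by
    rw [← Matrix.diagonal_one, Matrix.diagonal_sub]
  rw [h1, map_sub, Matrix.toLin'_one]
  rfl

theorem rho_add_one {g : ↥(D.group k)} {d : D.Idx → k}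
    (h : ((g : GL D.Idx k) : Matrix D.Idx D.Idx k) = Matrix.diagonal d) :
    rho D k g + 1 = Matrix.toLin' (Matrix.diagonal fun i => d i + 1) := by
  rw [rho_eq, h]
  have h1 : (Matrix.diagonal fun i => d i + 1) = Matrix.diagonal d + 1 := by
    rw [← Matrix.diagonal_one, Matrix.diagonal_add]
  rw [h1, map_add, Matrix.toLin'_one]
  rfl

theorem range_conj_le {x g : ↥(D.group k)} :
    finrank k (LinearMap.range (rho D k (g * x * g⁻¹) - 1)) ≤ finrank k (LinearMap.range (rho D k x - 1)) := by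
  have h1 : rho D k (g * x * g⁻¹) - 1 = rho D k g * ((rho D k x - 1) * rho D k g⁻¹) := by
    rw [map_mul, map_mul, sub_mul, mul_sub, one_mul, ← map_mul (rho D k) g g⁻¹, mul_inv_cancel, map_one, mul_assoc]
  rw [h1]
  have h2 : LinearMap.range (rho D k g * ((rho D k x - 1) * rho D k g⁻¹)) ≤
      (LinearMap.range (rho D k x - 1)).map (rho D k g) := by
    rintro _ ⟨v, rfl⟩
    exact ⟨(rho D k x - 1) (rho D k g⁻¹ v), ⟨_, rfl⟩, rfl⟩
  exact (Submodule.finrank_mono h2).trans (Submodule.finrank_map_le _ _)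

theorem ker_conj_le {x g : ↥(D.group k)} :
    finrank k (LinearMap.ker (rho D k (g * x * g⁻¹) + 1)) ≤ finrank k (LinearMap.ker (rho D k x + 1)) := by
  have h2 : LinearMap.ker (rho D k (g * x * g⁻¹) + 1) ≤ (LinearMap.ker (rho D k x + 1)).map (rho D k g) := by
    intro v hv
    refine ⟨rho D k g⁻¹ v, ?_, ?_⟩
    · have h3 : rho D k (g * x * g⁻¹) v + v = 0 := hv
      show rho D k x (rho D k g⁻¹ v) + rho D k g⁻¹ v = 0
      have h4 := congrArg (rho D k g⁻¹) h3
      rw [map_add, map_zero, ← Module.End.mul_apply, ← map_mul,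
        show g⁻¹ * (g * x * g⁻¹) = x * g⁻¹ by group, map_mul, Module.End.mul_apply] at h4
      exact h4
    · rw [← Module.End.mul_apply, ← map_mul, mul_inv_cancel, map_one, Module.End.one_apply]
  exact (Submodule.finrank_mono h2).trans (Submodule.finrank_map_le _ _)

include hp in
/-- **The minimal rank.** -/
theorem nine_le_rank [IsAlgClosed k] (p : ℕ) [Fact p.Prime] [CharP k p] (hk : LocFin k) (hA : HAlg p k) (hc : cnt D l = true)
    {g : ↥(D.group k)} {N : ℕ} (hN : g ^ N = 1) (h6 : N.Coprime 6) (hNp : N.Coprime p) (hne : g ≠ 1) :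
    9 ≤ finrank k (LinearMap.range (rho D k g - 1)) := by
  classical
  have hN0 : N ≠ 0 := by rintro rfl; exact absurd h6 (by decide)
  obtain ⟨y, hy⟩ := H944.TorAnyChev.exists_conj_mem_TT hp p hA hN0 hNp hN
  have hyN : (y * g * y⁻¹) ^ N = 1 := by rw [conj_pow, hN, mul_one, mul_inv_cancel]
  have hy1 : y * g * y⁻¹ ≠ 1 := by
    intro h
    apply hne
    have h2 : g = y⁻¹ * (y * g * y⁻¹) * y := by group
    rw [h2, h, mul_one, inv_mul_cancel]
  refine le_trans ?_ (range_conj_le (g := y) (x := g))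
  rw [rho_sub_one (H892.El.coe_TT hp (r := p) hk hy), finrank_diag]
  refine (nine_le hp p hk hc hy hyN h6 hy1).trans ?_
  rw [← Fintype.card_coe]
  refine Fintype.card_le_of_injective
    (fun s => ⟨Sum.inr ⟨s.1, Finset.mem_range.1 (Finset.mem_filter.1 s.2).1⟩, ?_⟩) ?_
  · exact sub_ne_zero.2 (Finset.mem_filter.1 s.2).2
  · intro a b hab
    have h1 := congrArg Subtype.val hab
    have h2 := congrArg Fin.val (Sum.inr.inj h1)
    exact Subtype.ext h2

include hp in
/-- **Step 1.** -/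
theorem sq_comm [IsAlgClosed k] (p : ℕ) [Fact p.Prime] [CharP k p] (hk : LocFin k) (hA : HAlg p k)
    (hc : cnt D l = true) {x : ↥(D.group k)} (hx4 : x ^ 4 = 1)
    (hx : finrank k (LinearMap.ker (rho D k x + 1)) ≤ 2) {N : Subgroup ↥(D.group k)} {m : ℕ}
    (hab : ∀ a ∈ N, ∀ b ∈ N, a * b = b * a) (hN : ∀ a ∈ N, x * a * x⁻¹ ∈ N) (hm : ∀ a ∈ N, a ^ m = 1)
    (h6 : m.Coprime 6) (hmp : m.Coprime p) {n : ↥(D.group k)} (hn : n ∈ N) : x ^ 2 * n = n * x ^ 2 := by
  have hN2 : ∀ a ∈ N, x ^ 2 * a * (x ^ 2)⁻¹ ∈ N := by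
    intro a ha
    have := hN _ (hN a ha)
    have e : x ^ 2 * a * (x ^ 2)⁻¹ = x * (x * a * x⁻¹) * x⁻¹ := by rw [pow_two]; group
    rwa [e]
  set a := x ^ 2 * n * (x ^ 2)⁻¹ * n⁻¹ with ha
  set b := x * a * x⁻¹ with hb
  have haN : a ∈ N := mul_mem (hN2 n hn) (inv_mem hn)
  have hbN : b ∈ N := hN a haN
  have hodd : Odd m := by
    rw [Nat.odd_iff]
    by_contra h
    have h2 : 2 ∣ m := Nat.dvd_of_mod_eq_zero (by omega)
    have := Nat.dvd_gcd h2 (show 2 ∣ 6 by norm_num)
    rw [h6] at this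
    exact absurd this (by norm_num)
  have hmk : (m : k) ≠ 0 := by
    intro h
    rw [CharP.cast_eq_zero_iff k p] at h
    have h1 := Nat.dvd_gcd h (dvd_refl p)
    rw [hmp] at h1
    exact (Fact.out : p.Prime).one_lt.ne' (Nat.dvd_one.1 h1)
  have hxb : x * b * x⁻¹ = a⁻¹ := by
    have e1 : x * b * x⁻¹ = x ^ 4 * n * (x ^ 4)⁻¹ * (x ^ 2 * n * (x ^ 2)⁻¹)⁻¹ := by
      rw [hb, ha]; group
    rw [e1, hx4, one_mul, inv_one, mul_one, ha]
    group
  have hone : a = 1 := by
    by_contra hne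
    have h9 := nine_le_rank hp p hk hA hc (hm a haN) h6 hmp hne
    have h8 := Rot.finrank_range_le (a := rho D k a) (b := rho D k b) (x := rho D k x) hodd hmk
      (by rw [← map_pow, hx4, map_one]) (by rw [← map_pow, hm a haN, map_one])
      (by rw [← map_pow, hm b hbN, map_one])
      (by
        show rho D k a * rho D k b = rho D k b * rho D k a
        rw [← map_mul, ← map_mul, hab a haN b hbN])
      (fun v => by
        rw [← Module.End.mul_apply, ← Module.End.mul_apply, ← map_mul, ← map_mul]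
        congr 2
        rw [hb]; group)
      (fun v => by
        rw [← Module.End.mul_apply, ← Module.End.mul_apply, ← map_mul, ← map_mul]
        congr 2
        have h1 : x * b = a⁻¹ * x := by rw [← hxb]; group
        rw [mul_assoc, h1, mul_inv_cancel_left])
    omega
  have h1 : x ^ 2 * n * (x ^ 2)⁻¹ = n := by
    rw [← mul_inv_eq_one]; exact hone
  exact mul_inv_eq_iff_eq_mul.1 h1

end Cfsg.Agent.H167.EX
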