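import Cfsg.Agent.H167.EX.Set
import Cfsg.Agent.H167.EX.Red
import Cfsg.Agent.H167.EX.Fix2
import Cfsg.Agent.H167.EX.Rk

/-!
# Subgroups invariant under the toral 2-group (helper167, S4312, exceptional groups)
-/

set_option autoImplicit false
set_option linter.unusedSectionVars false

namespace Cfsg.Agent.H167.EX

open CoxeterSystem Cfsg Cfsg.Lie Cfsg.Lie.ChevalleyDatum
open Cfsg.Agent.ChevalleyStructure Cfsg.Agent.ChevalleyStructure.Elts Cfsg.Agent.ChevalleyStructure.CoxeterGeom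
  Cfsg.Agent.ChevalleyStructure.CoxeterGeomTypes Cfsg.Agent.ChevalleyStructure.NPerm
open Cfsg.Agent.Tits.Roots Cfsg.Agent.Tits.Core Cfsg.Agent.Nodes Cfsg.Agent.Nodes.Reps Cfsg.Agent.Nodes.BNOf
  Cfsg.Agent.Nodes.RGDChev Cfsg.Agent.Nodes.Bruhat Cfsg.Agent.Nodes.NormalForm
open Cfsg.Agent.KFacts.RgdField Cfsg.Agent.KFacts.RgdChevCoord
open Cfsg.Agent.BpExc Cfsg.Agent.BpExc.TorCent Cfsg.Agent.BpExc.TorChev Cfsg.Agent.BpExc.Tow
  Cfsg.Agent.BpExc.TowChev Cfsg.Agent.BpExc.Fr Cfsg.Agent.BpExc.Pair Cfsg.Agent.BpExc.LangFr Cfsg.Agent.GpExc.Field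
  Cfsg.Agent.BpExc.TorAll
open Cfsg.Agent.H469.Exc Cfsg.Agent.H469.Exc.SigFr
open Cfsg.Agent.Nodes.RGDFoldSL
open Cfsg.Agent.ChevalleyStructure.SL2Hom (up lo mem_closure_SL2)
open Module

universe u v

section SL

variable {k : Type u} [Field k]

theorem prop_of {p q r p1 q1 r1 : k} (e1 : p1 * q = p * q1) (e2 : p1 * r = p * r1) (e3 : q1 * r = q * r1)
    (h : ¬ (p = 0 ∧ q = 0 ∧ r = 0)) : ∃ c : k, p1 = c * p ∧ q1 = c * q ∧ r1 = c * r := by
  by_cases hp : p = 0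
  · by_cases hq : q = 0
    · have hr : r ≠ 0 := fun hr => h ⟨hp, hq, hr⟩
      refine ⟨r1 / r, ?_, ?_, ?_⟩
      · field_simp; linear_combination e2
      · field_simp; linear_combination e3
      · field_simp
    · refine ⟨q1 / q, ?_, ?_, ?_⟩
      · field_simp; linear_combination e1
      · field_simp
      · field_simp; linear_combination -e3
  · refine ⟨p1 / p, ?_, ?_, ?_⟩
    · field_simp
    · field_simp; linear_combination -e1
    · field_simp; linear_combination -e2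

/-- **Centralisers of noncentral elements of `SL₂` are commutative.** -/
theorem cent_abel {Z A B : SL k} (hA : A * Z = Z * A) (hB : B * Z = Z * B) (hZ : ¬ ∀ P : SL k, Z * P = P * Z) :
    A * B = B * A := by
  have hne : ¬ (Z.1 0 1 = 0 ∧ Z.1 1 0 = 0 ∧ Z.1 0 0 - Z.1 1 1 = 0) := by
    rintro ⟨h1, h2, h3⟩
    apply hZ
    intro P
    refine sl_ext ?_ ?_ ?_ ?_
    · rw [mul00, mul00, h1, h2]; ring
    · rw [mul01, mul01, h1]; linear_combination P.1 0 1 * h3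
    · rw [mul10, mul10, h2]; linear_combination -P.1 1 0 * h3
    · rw [mul11, mul11, h1, h2]; ring
  have key : ∀ A : SL k, A * Z = Z * A → ∃ c : k, A.1 0 1 = c * Z.1 0 1 ∧ A.1 1 0 = c * Z.1 1 0 ∧
      A.1 0 0 - A.1 1 1 = c * (Z.1 0 0 - Z.1 1 1) := by
    intro A hA
    have a1 : (A * Z).1 0 0 = (Z * A).1 0 0 := by rw [hA]
    have a2 : (A * Z).1 0 1 = (Z * A).1 0 1 := by rw [hA]
    have a3 : (A * Z).1 1 0 = (Z * A).1 1 0 := by rw [hA]
    rw [mul00, mul00] at a1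
    rw [mul01, mul01] at a2
    rw [mul10, mul10] at a3
    refine prop_of ?_ ?_ ?_ hne
    · linear_combination a1
    · linear_combination -a2
    · linear_combination a3
  obtain ⟨c, c1, c2, c3⟩ := key A hA
  obtain ⟨e, e1, e2, e3⟩ := key B hB
  refine sl_ext ?_ ?_ ?_ ?_
  · rw [mul00, mul00, c1, c2, e1, e2]; ring
  · rw [mul01, mul01, c1, e1]; linear_combination e * Z.1 0 1 * c3 - c * Z.1 0 1 * e3
  · rw [mul10, mul10, c2, e2]; linear_combination -e * Z.1 1 0 * c3 + c * Z.1 1 0 * e3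
  · rw [mul11, mul11, c1, c2, e1, e2]; ring

theorem sq_of_central {Z : SL k} (h : ∀ P : SL k, Z * P = P * Z) : Z ^ 2 = 1 := sq_of_comm (h _) (h _)

theorem eq_one_of_odd {G : Type*} [Group G] {g : G} (h2 : g ^ 2 = 1) {m : ℕ} (hm : Odd m) (h : g ^ m = 1) : g = 1 := by
  obtain ⟨j, rfl⟩ := hm
  rw [pow_add, pow_mul, h2, one_pow, one_mul, pow_one] at h
  exact h

/-- elements of odd order with commutator commuting with them modulo the centre -/
theorem sl_comm {A B : SL k} {m : ℕ} (hm : Odd m) (hA : A ^ m = 1) (hB : B ^ m = 1)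
    (h1 : ∀ P : SL k, (A * B * A⁻¹ * B⁻¹) * A * (A * B * A⁻¹ * B⁻¹)⁻¹ * A⁻¹ * P =
      P * ((A * B * A⁻¹ * B⁻¹) * A * (A * B * A⁻¹ * B⁻¹)⁻¹ * A⁻¹))
    (h2 : ∀ P : SL k, (A * B * A⁻¹ * B⁻¹) * B * (A * B * A⁻¹ * B⁻¹)⁻¹ * B⁻¹ * P =
      P * ((A * B * A⁻¹ * B⁻¹) * B * (A * B * A⁻¹ * B⁻¹)⁻¹ * B⁻¹)) : A * B = B * A := by
  have gen : ∀ (Z C : SL k), C ^ m = 1 → (∀ P : SL k, Z * C * Z⁻¹ * C⁻¹ * P = P * (Z * C * Z⁻¹ * C⁻¹)) →
      C * Z = Z * C := by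
    intro Z C hC h
    set E := Z * C * Z⁻¹ * C⁻¹ with hE
    have hE2 := sq_of_central h
    have e1 : Z * C * Z⁻¹ = E * C := by rw [hE]; group
    have e2 : (Z * C * Z⁻¹) ^ m = 1 := by rw [conj_pow, hC, mul_one, mul_inv_cancel]
    have hc : Commute E C := h C
    rw [e1, hc.mul_pow, hC, mul_one] at e2
    have hE1 : E = 1 := eq_one_of_odd hE2 hm e2
    rw [hE1, one_mul] at e1
    exact (mul_inv_eq_iff_eq_mul.1 e1).symm
  set Z := A * B * A⁻¹ * B⁻¹ with hZ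
  have hAZ := gen Z A hA h1
  have hBZ := gen Z B hB h2
  by_cases hc : ∀ P : SL k, Z * P = P * Z
  · have hZ2 := sq_of_central hc
    have e1 : A * B * A⁻¹ = Z * B := by rw [hZ]; group
    have e2 : (A * B * A⁻¹) ^ m = 1 := by rw [conj_pow, hB, mul_one, mul_inv_cancel]
    have hcm : Commute Z B := hc B
    rw [e1, hcm.mul_pow, hB, mul_one] at e2
    have hZ1 : Z = 1 := eq_one_of_odd hZ2 hm e2
    rw [hZ1, one_mul] at e1
    exact mul_inv_eq_iff_eq_mul.1 e1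
  · exact cent_abel hAZ hBZ hc

end SL

section Chev

variable {D : ChevalleyDatum} {l : ℕ} {M : CoxeterMatrix (Fin l)} (hp : IsType D l M) {k : Type u} [Field k]
  {s : ℕ} (hs : s < D.nroots)

/-- `ph` is injective -/
theorem ph_inj [IsAlgClosed k] (h2 : (2 : k) ≠ 0) (p : ℕ) [Fact p.Prime] [CharP k p] (hk : LocFin k)
    (he : ∃ r < D.nroots, HMatDiagAll.expo D s r = 1) {A : SL k} (hA : ph hp k hs A = 1) : A = 1 := by
  obtain ⟨P, hP⟩ := exists_tri h2 A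
  have hB : ph hp k hs (P⁻¹ * A * P) = 1 := by
    rw [map_mul, map_mul, hA, mul_one, ← map_mul, inv_mul_cancel, map_one]
  obtain ⟨h0, hB1⟩ := tri_eq hP
  set x := (P⁻¹ * A * P).1 0 0 with hx
  set y := (x)⁻¹ * (P⁻¹ * A * P).1 0 1 with hy
  rw [hB1, map_mul, ph_up] at hB
  have hy0 : y = 0 := by
    refine xs_TT hp hs p hk ?_
    rw [eq_inv_of_mul_eq_one_right hB]
    exact inv_mem (ph_hS_mem hp hs h0)
  rw [hy0] at hB hB1
  obtain ⟨r, hr, he⟩ := he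
  have hx1 : x = 1 := by
    have h3 : xs hp.inList s (0 : k) = 1 := by rw [← ph_up hp hs, up_zero, map_one]
    rw [h3, mul_one] at hB
    have h4 := ch_ph_hS hp hs p hk h0 hr
    rw [hB, ch_one hp p hk hr, he, zpow_one] at h4
    exact h4.symm
  have h5 : P⁻¹ * A * P = 1 := by
    rw [hB1, hx1, up_zero, mul_one]
    apply Subtype.ext
    rw [coe_hS one_ne_zero]
    ext a b
    fin_cases a <;> fin_cases b <;> simp
  have h6 : A = P * (P⁻¹ * A * P) * P⁻¹ := by group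
  rw [h6, h5, mul_one, mul_inv_cancel]

/-- the pairs `(A, g)`, `g ∈ ph A · C(ph (SL₂))` -/
def RR (k : Type u) [Field k] {s : ℕ} (hs : s < D.nroots) : Subgroup (SL k × ↥(D.group k)) where
  carrier := {x | (ph hp k hs x.1)⁻¹ * x.2 ∈ Subgroup.centralizer ((ph hp k hs).range : Set ↥(D.group k))}
  one_mem' := by
    show (ph hp k hs 1)⁻¹ * 1 ∈ Subgroup.centralizer ((ph hp k hs).range : Set ↥(D.group k))
    rw [map_one, inv_one, one_mul]
    exact one_mem _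
  mul_mem' := by
    rintro ⟨A, g⟩ ⟨B, h⟩ h1 h2
    have h1' : (ph hp k hs A)⁻¹ * g ∈ Subgroup.centralizer ((ph hp k hs).range : Set ↥(D.group k)) := h1
    have h2' : (ph hp k hs B)⁻¹ * h ∈ Subgroup.centralizer ((ph hp k hs).range : Set ↥(D.group k)) := h2
    have h3 := Subgroup.mem_centralizer_iff.1 h1' _ ⟨B⁻¹, rfl⟩
    show (ph hp k hs (A * B))⁻¹ * (g * h) ∈ Subgroup.centralizer ((ph hp k hs).range : Set ↥(D.group k))
    have e : (ph hp k hs (A * B))⁻¹ * (g * h) = ((ph hp k hs A)⁻¹ * g) * ((ph hp k hs B)⁻¹ * h) := by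
      calc (ph hp k hs (A * B))⁻¹ * (g * h) = (ph hp k hs B)⁻¹ * ((ph hp k hs A)⁻¹ * g) * h := by
            rw [map_mul]; group
        _ = ((ph hp k hs A)⁻¹ * g) * (ph hp k hs B)⁻¹ * h := by rw [← map_inv (ph hp k hs) B, h3]
        _ = _ := by group
    rw [e]
    exact mul_mem h1' h2'
  inv_mem' := by
    rintro ⟨A, g⟩ h1
    have h1' : (ph hp k hs A)⁻¹ * g ∈ Subgroup.centralizer ((ph hp k hs).range : Set ↥(D.group k)) := h1
    have h3 := Subgroup.mem_centralizer_iff.1 (inv_mem h1') _ ⟨A, rfl⟩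
    show (ph hp k hs A⁻¹)⁻¹ * g⁻¹ ∈ Subgroup.centralizer ((ph hp k hs).range : Set ↥(D.group k))
    have e : (ph hp k hs A⁻¹)⁻¹ * g⁻¹ = ((ph hp k hs A)⁻¹ * g)⁻¹ := by
      calc (ph hp k hs A⁻¹)⁻¹ * g⁻¹ = ph hp k hs A * ((ph hp k hs A)⁻¹ * g)⁻¹ * (ph hp k hs A)⁻¹ := by
            rw [map_inv]; group
        _ = _ := by rw [h3]; group
    rw [e]
    exact inv_mem h1'

theorem mem_RR {A : SL k} {g : ↥(D.group k)} : (A, g) ∈ RR hp k hs ↔
    (ph hp k hs A)⁻¹ * g ∈ Subgroup.centralizer ((ph hp k hs).range : Set ↥(D.group k)) := Iff.rfl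

theorem RR_mul {A B : SL k} {g h : ↥(D.group k)} (h1 : (A, g) ∈ RR hp k hs) (h2 : (B, h) ∈ RR hp k hs) :
    (A * B, g * h) ∈ RR hp k hs := by
  rw [← Prod.mk_mul_mk]
  exact mul_mem h1 h2

theorem RR_inv {A : SL k} {g : ↥(D.group k)} (h1 : (A, g) ∈ RR hp k hs) : (A⁻¹, g⁻¹) ∈ RR hp k hs := by
  rw [← Prod.inv_mk]
  exact inv_mem h1

theorem RR_comm {A B : SL k} {g h : ↥(D.group k)} (h1 : (A, g) ∈ RR hp k hs) (h2 : (B, h) ∈ RR hp k hs) :
    (A * B * A⁻¹ * B⁻¹, g * h * g⁻¹ * h⁻¹) ∈ RR hp k hs :=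
  RR_mul hp hs (RR_mul hp hs (RR_mul hp hs h1 h2) (RR_inv hp hs h1)) (RR_inv hp hs h2)

theorem mem_LC_iff {g : ↥(D.group k)} : g ∈ LC hp (k := k) hs ↔ ∃ A, (A, g) ∈ RR hp k hs := by
  rw [mem_LC]
  constructor
  · rintro ⟨A, c, hc, rfl⟩
    exact ⟨A, (mem_RR hp hs).2 (by rw [inv_mul_cancel_left]; exact hc)⟩
  · rintro ⟨A, h⟩
    exact ⟨A, _, (mem_RR hp hs).1 h, by rw [mul_inv_cancel_left]⟩

/-- the first component of `(A, 1) ∈ RR` is central -/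
theorem central_of_RR [IsAlgClosed k] (h2 : (2 : k) ≠ 0) (p : ℕ) [Fact p.Prime] [CharP k p] (hk : LocFin k)
    (he : ∃ r < D.nroots, HMatDiagAll.expo D s r = 1) {A : SL k} (hA : (A, 1) ∈ RR hp k hs) (P : SL k) :
    A * P = P * A := by
  rw [mem_RR, mul_one, ← map_inv] at hA
  have h3 := Subgroup.mem_centralizer_iff.1 hA _ ⟨P⁻¹, rfl⟩
  have h4 : P⁻¹ * A⁻¹ * (A⁻¹ * P⁻¹)⁻¹ = 1 := by
    apply ph_inj hp hs h2 p hk he
    rw [map_mul, map_inv, map_mul, map_mul, h3, mul_inv_cancel]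
  have h5 : P⁻¹ * A⁻¹ = A⁻¹ * P⁻¹ := mul_inv_eq_one.1 h4
  have h6 := congrArg (fun x => x⁻¹) h5
  simp only [mul_inv_rev, inv_inv] at h6
  exact h6

theorem exists_odd [IsAlgClosed k] (h2 : (2 : k) ≠ 0) (p : ℕ) [Fact p.Prime] [CharP k p] (hk : LocFin k)
    (he : ∃ r < D.nroots, HMatDiagAll.expo D s r = 1) {v : ↥(D.group k)} (hv : v ∈ LC hp (k := k) hs) {m : ℕ}
    (hm : Odd m) (hvm : v ^ m = 1) : ∃ A : SL k, A ^ m = 1 ∧ (A, v) ∈ RR hp k hs := by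
  obtain ⟨A, hA⟩ := (mem_LC_iff hp hs).1 hv
  have h1 : (A ^ m, (1 : ↥(D.group k))) ∈ RR hp k hs := by
    have := pow_mem hA m
    rw [Prod.pow_mk, hvm] at this
    exact this
  have h3 := sq_of_central (central_of_RR hp hs h2 p hk he h1)
  refine ⟨A ^ (m + 1), ?_, ?_⟩
  · obtain ⟨j, hj⟩ := hm
    have e : (A ^ (m + 1)) ^ m = ((A ^ m) ^ 2) ^ (j + 1) := by
      rw [← pow_mul, ← pow_mul, ← pow_mul, mul_comm (m + 1) m]
      congr 2
      omega
    rw [e, h3, one_pow]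
  · have := pow_mem hA (m + 1)
    rw [Prod.pow_mk, pow_succ v, hvm, one_mul] at this
    exact this

/-- **The commutator of elements of odd order of `LC`, if it commutes with them, centralises `ph (SL₂)`.** -/
theorem comm_LC [IsAlgClosed k] (h2 : (2 : k) ≠ 0) (p : ℕ) [Fact p.Prime] [CharP k p] (hk : LocFin k)
    (he : ∃ r < D.nroots, HMatDiagAll.expo D s r = 1) {v w : ↥(D.group k)} (hv : v ∈ LC hp (k := k) hs)
    (hw : w ∈ LC hp (k := k) hs) {m : ℕ} (hm : Odd m) (hvm : v ^ m = 1) (hwm : w ^ m = 1)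
    (h3 : v * w * v⁻¹ * w⁻¹ * v = v * (v * w * v⁻¹ * w⁻¹)) (h4 : v * w * v⁻¹ * w⁻¹ * w = w * (v * w * v⁻¹ * w⁻¹)) :
    v * w * v⁻¹ * w⁻¹ ∈ Subgroup.centralizer ((ph hp k hs).range : Set ↥(D.group k)) := by
  obtain ⟨A, hA, hAv⟩ := exists_odd hp hs h2 p hk he hv hm hvm
  obtain ⟨B, hB, hBw⟩ := exists_odd hp hs h2 p hk he hw hm hwm
  have hZ := RR_comm hp hs hAv hBw
  have h5 := RR_comm hp hs hZ hAv
  have h6 := RR_comm hp hs hZ hBw
  set u := v * w * v⁻¹ * w⁻¹ with hu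
  have e1 : u * v * u⁻¹ * v⁻¹ = 1 := by rw [h3]; group
  have e2 : u * w * u⁻¹ * w⁻¹ = 1 := by rw [h4]; group
  rw [e1] at h5
  rw [e2] at h6
  have h7 : A * B = B * A := sl_comm hm hA hB (central_of_RR hp hs h2 p hk he h5) (central_of_RR hp hs h2 p hk he h6)
  have h8 : A * B * A⁻¹ * B⁻¹ = 1 := by rw [h7]; group
  rw [h8, mem_RR, map_one, inv_one, one_mul] at hZ
  exact hZ

end Chev

end Cfsg.Agent.H167.EX
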