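import Cfsg.Agent.H167.EX.OneA

/-!
# Odd subgroups invariant under the toral 2-group lie in the torus (helper167, S4312, exceptional groups)

`xd i d = h_d(i)`, `i ^ 2 = -1`. `oneA` : a solvable subgroup of order prime to `6 p` normalised by all `xd i d`,
`d ∈ L0`, lies in `TT`.
-/

set_option autoImplicit false
set_option linter.unusedSectionVars false

namespace Cfsg.Agent.H167.EX

open CoxeterSystem Cfsg Cfsg.Lie Cfsg.Lie.ChevalleyDatum
open Cfsg.Agent.ChevalleyStructure Cfsg.Agent.ChevalleyStructure.Elts Cfsg.Agent.ChevalleyStructure.CoxeterGeom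
  Cfsg.Agent.ChevalleyStructure.CoxeterGeomTypes Cfsg.Agent.ChevalleyStructure.NPerm
open Cfsg.Agent.Tits.Roots Cfsg.Agent.Tits.Core Cfsg.Agent.Nodes Cfsg.Agent.Nodes.Reps Cfsg.Agent.Nodes.BNOf
  Cfsg.Agent.Nodes.RGDChev Cfsg.Agent.Nodes.Bruhat Cfsg.Agent.Nodes.NormalForm
open Cfsg.Agent.KFacts.RgdField Cfsg.Agent.KFacts.RgdChevCoord
open Cfsg.Agent.BpExc Cfsg.Agent.BpExc.TorCent Cfsg.Agent.BpExc.TorChev Cfsg.Agent.BpExc.Tow
  Cfsg.Agent.BpExc.TowChev Cfsg.Agent.BpExc.Fr Cfsg.Agent.BpExc.Pair Cfsg.Agent.BpExc.LangFr Cfsg.Agent.GpExc.Field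
  Cfsg.Agent.BpExc.TorAll
open Cfsg.Agent.H469.Exc Cfsg.Agent.H469.Exc.SigFr
open Cfsg.Agent.Nodes.RGDFoldSL
open Cfsg.Agent.ChevalleyStructure.SL2Hom (up lo mem_closure_SL2)
open Module

universe u v

variable {D : ChevalleyDatum} {l : ℕ} {M : CoxeterMatrix (Fin l)} (hp : IsType D l M) {k : Type u} [Field k]

/-! ### the elements `xd i d` -/

/-- `h_d(i)` -/
noncomputable def xd (i : k) (d : ℕ) : ↥(D.group k) := if h : d < D.nroots then ph hp k h (hS i) else 1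

theorem xd_lt {i : k} {d : ℕ} (h : d < D.nroots) : xd hp i d = ph hp k h (hS i) := dif_pos h

theorem xd_mem {i : k} (hi : i ≠ 0) (d : ℕ) : xd hp i d ∈ TT D k := by
  unfold xd
  split_ifs with h
  · exact ph_hS_mem hp h hi
  · exact one_mem _

theorem hS_four {i : k} (hi : i * i = -1) : (hS i : SL k) ^ 4 = 1 := by
  have hi0 : i ≠ 0 := by rintro rfl; rw [mul_zero] at hi; exact one_ne_zero (neg_eq_zero.1 hi.symm)
  have h4 : i ^ 4 = 1 := by
    have : i ^ 4 = (i * i) * (i * i) := by ring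
    rw [this, hi]; ring
  obtain ⟨h1, h2, h3, h5⟩ := hS_entries hi0
  have hpow : ∀ m : ℕ, ((hS i : SL k) ^ m).1 0 0 = i ^ m ∧ ((hS i : SL k) ^ m).1 0 1 = 0 ∧
      ((hS i : SL k) ^ m).1 1 0 = 0 ∧ ((hS i : SL k) ^ m).1 1 1 = (i⁻¹) ^ m := by
    intro m
    induction m with
    | zero =>
      rw [pow_zero, pow_zero, pow_zero]
      exact ⟨rfl, rfl, rfl, rfl⟩
    | succ m ih =>
      obtain ⟨a1, a2, a3, a4⟩ := ih
      rw [pow_succ (hS i : SL k), mul00, mul01, mul10, mul11, h1, h2, h3, h5, a1, a2, a3, a4]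
      refine ⟨?_, ?_, ?_, ?_⟩ <;> ring
  obtain ⟨a1, a2, a3, a4⟩ := hpow 4
  refine sl_ext ?_ ?_ ?_ ?_
  · rw [a1, h4]; rfl
  · rw [a2]; rfl
  · rw [a3]; rfl
  · rw [a4, inv_pow, h4, inv_one]; rfl

theorem xd_four {i : k} (hi : i * i = -1) (d : ℕ) : xd hp i d ^ 4 = 1 := by
  unfold xd
  split_ifs with h
  · rw [← map_pow, hS_four hi, map_one]
  · exact one_pow 4

theorem ch_xd (p : ℕ) [Fact p.Prime] [CharP k p] (hk : LocFin k) {i : k} (hi : i ≠ 0) {d : ℕ} (h : d < D.nroots)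
    {r : ℕ} (hr : r < D.nroots) : ch hp (vec D l r) (xd hp i d) = i ^ HMatDiagAll.expo D d r := by
  rw [xd_lt hp h, ch_ph_hS hp h p hk hi hr]

include hp in
theorem ker_xd (h2 : (2 : k) ≠ 0) {i : k} (hi : i * i = -1) {d : ℕ} (h : d < D.nroots) (hd : two D d = true) :
    finrank k (LinearMap.ker (rho D k (xd hp i d) + 1)) ≤ 2 := by
  rw [xd_lt hp h]
  obtain ⟨P, hP⟩ := wS_conj h2 hi (one_ne_zero (α := k))
  have e : ph hp k h (hS i) = ph hp k h P⁻¹ * ph hp k h (wS 1) * (ph hp k h P⁻¹)⁻¹ := by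
    rw [hP, map_mul, map_mul, map_inv]; group
  rw [e]
  exact (ker_conj_le (x := ph hp k h (wS 1)) (g := ph hp k h P⁻¹)).trans (ker_x hp h h2 hi hd one_ne_zero)

/-! ### the combinatorial conditions -/

/-- the combinatorial conditions for the set `L1` of roots, `g` a map of the roots -/
structure Chk (D : ChevalleyDatum) (L1 : List ℕ) (g : ℕ → ℕ) : Prop where
  odd : ∀ b < D.nroots, ∃ d ∈ L1, HMatDiagAll.expo D d b % 2 ≠ 0
  sep : ∀ b < D.nroots, ∀ b' < D.nroots, (∀ d ∈ L1, HMatDiagAll.expo D d b' % 4 = HMatDiagAll.expo D d b % 4) →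
    b' = b ∨ b' = g b
  one : ∀ b < D.nroots, ∃ r < D.nroots, HMatDiagAll.expo D b r = 1
  lt : ∀ b < D.nroots, g b < D.nroots
  ort : ∀ b < D.nroots, g b = b ∨ (g b ≠ D.neg b ∧ (D.commTerms b (g b)).isEmpty = true ∧
    (D.commTerms (D.neg b) (g b)).isEmpty = true ∧ (D.commTerms b (D.neg (g b))).isEmpty = true ∧
    (D.commTerms (D.neg b) (D.neg (g b))).isEmpty = true)

theorem i_sq {i : k} (hi : i * i = -1) (e : ℤ) : (i ^ e) ^ 2 = (-1) ^ e := by
  rw [← zpow_natCast, ← zpow_mul, mul_comm, zpow_mul]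
  congr 1
  have : i ^ ((2 : ℕ) : ℤ) = i * i := by rw [zpow_natCast, pow_two]
  rw [this, hi]

theorem even_of_sq (h2 : (2 : k) ≠ 0) {i : k} (hi : i * i = -1) {e : ℤ} (h : (i ^ e) ^ 2 = 1) : e % 2 = 0 := by
  rw [i_sq hi] at h
  by_contra hne
  have h1 : e % 2 = 1 := by omega
  rw [Odd.neg_one_zpow (Int.odd_iff.2 h1)] at h
  apply h2
  linear_combination -h

theorem mod_four {i : k} (h2 : (2 : k) ≠ 0) (hi : i * i = -1) {e f : ℤ} (h : i ^ e = i ^ f) : e % 4 = f % 4 := by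
  have hi0 : i ≠ 0 := by rintro rfl; rw [mul_zero] at hi; exact one_ne_zero (neg_eq_zero.1 hi.symm)
  have h1 : i ^ (e - f + 2) = -1 := by
    rw [zpow_add₀ hi0, zpow_sub₀ hi0, h, div_self (zpow_ne_zero _ hi0), one_mul]
    have : i ^ (2 : ℤ) = i * i := by
      rw [show (2 : ℤ) = ((2 : ℕ) : ℤ) by norm_num, zpow_natCast, pow_two]
    rw [this, hi]
  have := zpow_i h2 hi _ h1
  omega

/-! ### membership in `TT` -/

theorem mem_of_pow {G : Type*} [Group G] {K : Subgroup G} {v : G} {m j : ℕ} (hm : Odd m) (hv : v ^ m = 1)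
    (h : v ^ 2 ^ j ∈ K) : v ∈ K := by
  have hcop : Nat.Coprime (orderOf v) (2 ^ j) := by
    refine Nat.Coprime.pow_right j ?_
    refine Nat.Coprime.coprime_dvd_left (orderOf_dvd_of_pow_eq_one hv) ?_
    exact Nat.coprime_two_right.2 hm
  have h5 : v ∈ Subgroup.zpowers (v ^ 2 ^ j) := mem_zpowers_pow_iff.2 hcop.symm
  exact (Subgroup.zpowers_le.2 h) h5

/-- **Elements of odd order commuting with the involutions `h_d(-1)`, `d ∈ L1`, lie in `TT`.** -/
theorem mem_TT_of_sq (h2 : (2 : k) ≠ 0) (p : ℕ) [Fact p.Prime] [CharP k p] (hk : LocFin k) {L1 : List ℕ} {g : ℕ → ℕ}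
    (K : Chk D L1 g) (hL : ∀ d ∈ L1, d < D.nroots) {i : k} (hi : i * i = -1) {v : ↥(D.group k)} {m : ℕ} (hm : Odd m)
    (hvm : v ^ m = 1) (hv : ∀ d ∈ L1, xd hp i d ^ 2 * v = v * xd hp i d ^ 2) : v ∈ TT D k := by
  have hi0 : i ≠ 0 := by rintro rfl; rw [mul_zero] at hi; exact one_ne_zero (neg_eq_zero.1 hi.symm)
  obtain ⟨j, hj⟩ := pow_mem_set hp hk p (S := {x | ∃ d ∈ L1, x = xd hp i d ^ 2}) (by
    rintro _ ⟨d, -, rfl⟩
    exact pow_mem (xd_mem hp hi0 d) 2) Nat.prime_two (by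
    rintro _ ⟨d, -, rfl⟩
    refine ⟨1, ?_⟩
    rw [pow_one, ← pow_mul]
    exact xd_four hp hi d) (g := v) (by
    rintro _ ⟨d, hd, rfl⟩
    exact (hv d hd).symm)
  refine mem_of_pow hm hvm ((sup_le (RGD.Sup_le fun a ha => ?_) le_rfl : _ ≤ TT D k) hj)
  exfalso
  obtain ⟨b, hb, rfl⟩ := (isRoot_iff hp M.toCoxeterSystem a).1 ha.1
  obtain ⟨d, hd, hodd⟩ := K.odd b hb
  have h3 := ha.2 _ ⟨d, hd, rfl⟩
  rw [ch_pow hp p hk hb (xd_mem hp hi0 d), ch_xd hp p hk hi0 (hL d hd) hb] at h3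
  exact hodd (even_of_sq h2 hi h3)

/-! ### products of strongly orthogonal root subgroups -/

theorem LC_norm {s : ℕ} (hs : s < D.nroots) {t : ↥(D.group k)} (ht : t ∈ LC hp (k := k) hs) {y : ↥(D.group k)}
    (hy : y ∈ (ph hp k hs).range) : t * y * t⁻¹ ∈ (ph hp k hs).range := by
  obtain ⟨A, c, hc, rfl⟩ := (mem_LC hp hs).1 ht
  have h1 := Subgroup.mem_centralizer_iff.1 hc y hy
  have e : ph hp k hs A * c * y * (ph hp k hs A * c)⁻¹ = ph hp k hs A * y * (ph hp k hs A)⁻¹ := by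
    calc ph hp k hs A * c * y * (ph hp k hs A * c)⁻¹ = ph hp k hs A * (c * y) * c⁻¹ * (ph hp k hs A)⁻¹ := by group
      _ = _ := by rw [← h1]; group
  rw [e]
  exact mul_mem (mul_mem ⟨A, rfl⟩ hy) (inv_mem ⟨A, rfl⟩)

theorem ph_le_LC {s : ℕ} (hs : s < D.nroots) : (ph hp k hs).range ≤ LC hp (k := k) hs := by
  rintro _ ⟨A, rfl⟩
  exact (mem_LC hp hs).2 ⟨A, 1, one_mem _, by rw [mul_one]⟩

theorem cent_le_LC {s : ℕ} (hs : s < D.nroots) :
    Subgroup.centralizer ((ph hp k hs).range : Set ↥(D.group k)) ≤ LC hp (k := k) hs := by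
  intro c hc
  exact (mem_LC hp hs).2 ⟨1, c, hc, by rw [map_one, one_mul]⟩

/-- strongly orthogonal roots: the subgroups commute -/
theorem ph_comm {b c : ℕ} (hb : b < D.nroots) (hc : c < D.nroots) (h1 : c ≠ b) (h2 : c ≠ D.neg b)
    (h3 : (D.commTerms b c).isEmpty = true) (h4 : (D.commTerms (D.neg b) c).isEmpty = true)
    (h5 : (D.commTerms b (D.neg c)).isEmpty = true) (h6 : (D.commTerms (D.neg b) (D.neg c)).isEmpty = true) :
    (ph hp k hc).range ≤ Subgroup.centralizer ((ph hp k hb).range : Set ↥(D.group k)) := by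
  have hnc := neg_lt hp.inList hc
  have hnb := neg_lt hp.inList hb
  have e1 : D.neg c ≠ b := by
    intro e
    apply h2
    rw [← e, neg_neg_eq hp hc]
  have e2 : D.neg c ≠ D.neg b := by
    intro e
    apply h1
    rw [← neg_neg_eq hp hc, e, neg_neg_eq hp hb]
  rintro _ ⟨A, rfl⟩
  have h7 : A ∈ (Subgroup.centralizer ((ph hp k hb).range : Set ↥(D.group k))).comap (ph hp k hc) := by
    refine (Subgroup.closure_le _).2 ?_ (mem_closure_SL2 A)
    rintro _ (⟨t, rfl⟩ | ⟨t, rfl⟩)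
    · show ph hp k hc (up t) ∈ Subgroup.centralizer ((ph hp k hb).range : Set ↥(D.group k))
      rw [ph_up]
      refine mem_cent hp hb (fun u => ?_) (fun u => ?_)
      · exact Subtype.ext (KFacts.Mult.Chev.commute_of_empty hp hb hc h1 h2 h3 u t)
      · exact Subtype.ext (KFacts.Mult.Chev.commute_of_empty hp hnb hc h2
          (by rw [neg_neg_eq hp hb]; exact h1) h4 u t)
    · show ph hp k hc (lo t) ∈ Subgroup.centralizer ((ph hp k hb).range : Set ↥(D.group k))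
      rw [ph_lo]
      refine mem_cent hp hb (fun u => ?_) (fun u => ?_)
      · exact Subtype.ext (KFacts.Mult.Chev.commute_of_empty hp hb hnc e1 e2 h5 u t)
      · exact Subtype.ext (KFacts.Mult.Chev.commute_of_empty hp hnb hnc e2
          (by rw [neg_neg_eq hp hb]; exact e1) h6 u t)
  exact h7

theorem sq_of_cent [IsAlgClosed k] (h2 : (2 : k) ≠ 0) (p : ℕ) [Fact p.Prime] [CharP k p] (hk : LocFin k)
    {L1 : List ℕ} {g : ℕ → ℕ} (K : Chk D L1 g) {b : ℕ} (hb : b < D.nroots) {x : ↥(D.group k)}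
    (hx : x ∈ (ph hp k hb).range ⊔ (ph hp k (K.lt b hb)).range)
    (h3 : x ∈ Subgroup.centralizer ((ph hp k hb).range : Set ↥(D.group k)))
    (h4 : x ∈ Subgroup.centralizer ((ph hp k (K.lt b hb)).range : Set ↥(D.group k))) : x ^ 2 = 1 := by
  have one : ∀ {s : ℕ} (hs : s < D.nroots) (Z : SL k),
      ph hp k hs Z ∈ Subgroup.centralizer ((ph hp k hs).range : Set ↥(D.group k)) → ph hp k hs Z ^ 2 = 1 := by
    intro s hs Z hZ
    have h5 : (Z, (1 : ↥(D.group k))) ∈ RR hp k hs := by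
      rw [mem_RR, mul_one]
      exact inv_mem hZ
    rw [← map_pow, sq_of_central (central_of_RR hp hs h2 p hk (K.one s hs) h5), map_one]
  have single : ∀ {s : ℕ} (hs : s < D.nroots), x ∈ (ph hp k hs).range →
      x ∈ Subgroup.centralizer ((ph hp k hs).range : Set ↥(D.group k)) → x ^ 2 = 1 := by
    rintro s hs ⟨Z, hZ⟩ h5
    rw [← hZ] at h5 ⊢
    exact one hs Z h5
  rcases K.ort b hb with h | ⟨e2, e3, e4, e5, e6⟩
  · have h5 : (ph hp k hb).range ⊔ (ph hp k (K.lt b hb)).range = (ph hp k hb).range := by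
      have : ∀ c (hc : c < D.nroots), c = b → (ph hp k hb).range ⊔ (ph hp k hc).range = (ph hp k hb).range := by
        rintro c hc rfl
        exact sup_idem _
      exact this _ _ h
    rw [h5] at hx
    exact single hb hx h3
  · by_cases e1 : g b = b
    · have h5 : (ph hp k hb).range ⊔ (ph hp k (K.lt b hb)).range = (ph hp k hb).range := by
        have : ∀ c (hc : c < D.nroots), c = b → (ph hp k hb).range ⊔ (ph hp k hc).range = (ph hp k hb).range := by
          rintro c hc rfl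
          exact sup_idem _
        exact this _ _ e1
      rw [h5] at hx
      exact single hb hx h3
    have hcomm := ph_comm hp (k := k) hb (K.lt b hb) e1 e2 e3 e4 e5 e6
    have hnorm : (ph hp k (K.lt b hb)).range ≤ Subgroup.normalizer ((ph hp k hb).range : Set ↥(D.group k)) :=
      hcomm.trans (Subgroup.centralizer_le_normalizer _)
    have h5 : x ∈ (((ph hp k hb).range ⊔ (ph hp k (K.lt b hb)).range : Subgroup ↥(D.group k)) :
        Set ↥(D.group k)) := hx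
    rw [Subgroup.coe_mul_of_right_le_normalizer_left _ _ hnorm] at h5
    obtain ⟨_, ⟨Z, rfl⟩, _, ⟨Z', rfl⟩, h6⟩ := h5
    have h6' : ph hp k hb Z * ph hp k (K.lt b hb) Z' = x := h6
    have h7 : ph hp k (K.lt b hb) Z' ∈ Subgroup.centralizer ((ph hp k hb).range : Set ↥(D.group k)) :=
      hcomm ⟨Z', rfl⟩
    have h8 : ph hp k hb Z ∈ Subgroup.centralizer ((ph hp k (K.lt b hb)).range : Set ↥(D.group k)) := by
      rw [Subgroup.mem_centralizer_iff]
      intro y hy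
      exact (Subgroup.mem_centralizer_iff.1 (hcomm hy) _ ⟨Z, rfl⟩).symm
    have h9 : ph hp k hb Z ∈ Subgroup.centralizer ((ph hp k hb).range : Set ↥(D.group k)) := by
      have e : ph hp k hb Z = x * (ph hp k (K.lt b hb) Z')⁻¹ := by rw [← h6', mul_inv_cancel_right]
      rw [e]
      exact mul_mem h3 (inv_mem h7)
    have h10 : ph hp k (K.lt b hb) Z' ∈ Subgroup.centralizer ((ph hp k (K.lt b hb)).range : Set ↥(D.group k)) := by
      have e : ph hp k (K.lt b hb) Z' = (ph hp k hb Z)⁻¹ * x := by rw [← h6', inv_mul_cancel_left]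
      rw [e]
      exact mul_mem (inv_mem h8) h4
    have hc : Commute (ph hp k hb Z) (ph hp k (K.lt b hb) Z') := Subgroup.mem_centralizer_iff.1 h7 _ ⟨Z, rfl⟩
    rw [← h6', hc.mul_pow, one hb Z h9, one _ Z' h10, mul_one]

theorem comm_mem_of_norm {G : Type*} [Group G] {T Q : Subgroup G} (hT : ∀ s ∈ T, ∀ t ∈ T, s * t = t * s)
    (hQ : ∀ t ∈ T, ∀ x ∈ Q, t * x * t⁻¹ ∈ Q) {v w : G} (hv : v ∈ Q ⊔ T) (hw : w ∈ Q ⊔ T) :
    v * w * v⁻¹ * w⁻¹ ∈ Q := by
  have hn : T ≤ Subgroup.normalizer (Q : Set G) := by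
    intro t ht
    rw [Subgroup.mem_normalizer_iff]
    intro x
    constructor
    · exact hQ t ht x
    · intro hx
      have := hQ t⁻¹ (inv_mem ht) _ hx
      have e : t⁻¹ * (t * x * t⁻¹) * t⁻¹⁻¹ = x := by group
      rwa [e] at this
  have h1 : ∀ x ∈ Q ⊔ T, ∃ q ∈ Q, ∃ t ∈ T, x = q * t := by
    intro x hx
    have hx' : x ∈ ((Q ⊔ T : Subgroup G) : Set G) := hx
    rw [Subgroup.coe_mul_of_right_le_normalizer_left _ _ hn] at hx'
    obtain ⟨q, hq, t, ht, rfl⟩ := hx'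
    exact ⟨q, hq, t, ht, rfl⟩
  obtain ⟨q, hq, t, ht, rfl⟩ := h1 v hv
  obtain ⟨q', hq', t', ht', rfl⟩ := h1 w hw
  have e : q * t * (q' * t') * (q * t)⁻¹ * (q' * t')⁻¹ = q * (t * q' * t⁻¹) * (t' * q⁻¹ * t'⁻¹) * q'⁻¹ := by
    calc q * t * (q' * t') * (q * t)⁻¹ * (q' * t')⁻¹ = q * t * q' * (t' * t⁻¹) * q⁻¹ * t'⁻¹ * q'⁻¹ := by group
      _ = q * t * q' * (t⁻¹ * t') * q⁻¹ * t'⁻¹ * q'⁻¹ := by rw [hT t' ht' t⁻¹ (inv_mem ht)]
      _ = _ := by group
  rw [e]
  exact mul_mem (mul_mem (mul_mem hq (hQ t ht q' hq')) (hQ t' ht' _ (inv_mem hq))) (inv_mem hq')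

/-! ### the main theorem -/

/-- the roots trivial on the elements agreeing with the powers of `xd i d0` -/
theorem roots_S (h2 : (2 : k) ≠ 0) (p : ℕ) [Fact p.Prime] [CharP k p] (hk : LocFin k) {L0 L1 : List ℕ} {g : ℕ → ℕ}
    (K : Chk D L1 g) (hL0 : ∀ d ∈ L0, d < D.nroots) (hL1 : ∀ d ∈ L1, d ∈ L0) {i : k} (hi : i * i = -1) {d0 : ℕ}
    (hd0 : d0 ∈ L0) {j : ℕ → ℕ} {b b' : ℕ} (hb : b < D.nroots) (hb' : b' < D.nroots)
    (h : ∀ d ∈ L0, ch hp (vec D l b) (xd hp i d * (xd hp i d0 ^ j d)⁻¹) = 1)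
    (h' : ∀ d ∈ L0, ch hp (vec D l b') (xd hp i d * (xd hp i d0 ^ j d)⁻¹) = 1) :
    b' = b ∨ b' = D.neg b ∨ b' = g b ∨ b' = D.neg (g b) := by
  have hi0 : i ≠ 0 := by rintro rfl; rw [mul_zero] at hi; exact one_ne_zero (neg_eq_zero.1 hi.symm)
  have key : ∀ {c : ℕ}, c < D.nroots → (∀ d ∈ L0, ch hp (vec D l c) (xd hp i d * (xd hp i d0 ^ j d)⁻¹) = 1) →
      ∀ d ∈ L0, i ^ HMatDiagAll.expo D d c = (i ^ HMatDiagAll.expo D d0 c) ^ j d := by
    intro c hc hh d hd
    have h3 := hh d hd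
    have hm := pow_mem (xd_mem (D := D) hp hi0 d0) (j d)
    rw [ch_mul hp p hk hc (xd_mem hp hi0 d) (inv_mem hm), ch_xd hp p hk hi0 (hL0 d hd) hc] at h3
    have h4 : ch hp (vec D l c) ((xd hp i d0 ^ j d)⁻¹) * (i ^ HMatDiagAll.expo D d0 c) ^ j d = 1 := by
      rw [← ch_xd hp p hk hi0 (hL0 d0 hd0) hc, ← ch_pow hp p hk hc (xd_mem hp hi0 d0),
        ← ch_mul hp p hk hc (inv_mem hm) hm, inv_mul_cancel, ch_one hp p hk hc]
    have h5 : ch hp (vec D l c) ((xd hp i d0 ^ j d)⁻¹) ≠ 0 := left_ne_zero_of_mul_eq_one h4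
    exact mul_right_cancel₀ h5 (by rw [h3, mul_comm, h4])
  have oddk : ∀ {c : ℕ}, c < D.nroots → (∀ d ∈ L0, ch hp (vec D l c) (xd hp i d * (xd hp i d0 ^ j d)⁻¹) = 1) →
      (i ^ HMatDiagAll.expo D d0 c) ^ 2 = -1 := by
    intro c hc hh
    rw [i_sq hi]
    rcases Int.even_or_odd (HMatDiagAll.expo D d0 c) with he | he
    · exfalso
      obtain ⟨d, hd, hodd⟩ := K.odd c hc
      apply hodd
      refine even_of_sq h2 hi ?_
      rw [key hc hh d (hL1 d hd), ← pow_mul, mul_comm (j d) 2, pow_mul, i_sq hi, Even.neg_one_zpow he, one_pow]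
    · exact Odd.neg_one_zpow he
  have sepk : ∀ {c c' : ℕ}, c < D.nroots → c' < D.nroots →
      (∀ d ∈ L0, ch hp (vec D l c) (xd hp i d * (xd hp i d0 ^ j d)⁻¹) = 1) →
      (∀ d ∈ L0, ch hp (vec D l c') (xd hp i d * (xd hp i d0 ^ j d)⁻¹) = 1) →
      i ^ HMatDiagAll.expo D d0 c' = i ^ HMatDiagAll.expo D d0 c → c' = c ∨ c' = g c := by
    intro c c' hc hc' hh hh' he
    refine K.sep c hc c' hc' fun d hd => mod_four h2 hi ?_
    rw [key hc hh d (hL1 d hd), key hc' hh' d (hL1 d hd), he]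
  have h3 := oddk hb h
  have h4 := oddk hb' h'
  have h5 : (i ^ HMatDiagAll.expo D d0 b' - i ^ HMatDiagAll.expo D d0 b) *
      (i ^ HMatDiagAll.expo D d0 b' + i ^ HMatDiagAll.expo D d0 b) = 0 := by
    linear_combination h4 - h3
  rcases mul_eq_zero.1 h5 with h6 | h6
  · rcases sepk hb hb' h h' (sub_eq_zero.1 h6) with h7 | h7
    · exact Or.inl h7
    · exact Or.inr (Or.inr (Or.inl h7))
  · -- use `-b'`
    have hnb := neg_lt hp.inList hb'
    have hT : ∀ d ∈ L0, xd hp i d * (xd hp i d0 ^ j d)⁻¹ ∈ TT D k := fun d _ =>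
      mul_mem (xd_mem hp hi0 d) (inv_mem (pow_mem (xd_mem hp hi0 d0) (j d)))
    have h7 : ∀ d ∈ L0, ch hp (vec D l (D.neg b')) (xd hp i d * (xd hp i d0 ^ j d)⁻¹) = 1 := fun d hd => by
      rw [ch_neg hp hb' p hk (hT d hd), h' d hd, inv_one]
    have h8 : i ^ HMatDiagAll.expo D d0 (D.neg b') = i ^ HMatDiagAll.expo D d0 b := by
      rw [← ch_xd hp p hk hi0 (hL0 d0 hd0) hnb, ch_neg hp hb' p hk (xd_mem hp hi0 d0),
        ch_xd hp p hk hi0 (hL0 d0 hd0) hb']
      refine inv_eq_of_mul_eq_one_right ?_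
      linear_combination (i ^ HMatDiagAll.expo D d0 b') * h6 - h4
    rcases sepk hb hnb h h7 h8 with h9 | h9
    · right; left
      rw [← h9, neg_neg_eq hp hb']
    · right; right; right
      rw [← h9, neg_neg_eq hp hb']

/-- **A solvable group of order prime to `6 p` normalised by the `h_d(i)`, `d ∈ L0`, lies in the torus.** -/
theorem oneA [IsAlgClosed k] (h2 : (2 : k) ≠ 0) (p : ℕ) [Fact p.Prime] [CharP k p] (hk : LocFin k) (hA : HAlg p k)
    (hc : cnt D l = true) {L0 L1 : List ℕ} {g : ℕ → ℕ} (K : Chk D L1 g) (hL0 : ∀ d ∈ L0, d < D.nroots)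
    (hL1 : ∀ d ∈ L1, d ∈ L0) (htwo : ∀ d ∈ L0, two D d = true) {i : k} (hi : i * i = -1) (n : ℕ) :
    ∀ R : Subgroup ↥(D.group k), Nat.card R = n → Finite R → Group.IsSolvable R → (Nat.card R).Coprime 6 →
      (Nat.card R).Coprime p → (∀ d ∈ L0, ∀ v ∈ R, xd hp i d * v * (xd hp i d)⁻¹ ∈ R) → R ≤ TT D k := by
  have hi0 : i ≠ 0 := by rintro rfl; rw [mul_zero] at hi; exact one_ne_zero (neg_eq_zero.1 hi.symm)
  induction n using Nat.strong_induction_on with
  | _ n ih =>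
    intro R hRn hf hsol h6 hpR hinv
    by_contra hRT
    have hodd : Odd (Nat.card R) := by
      rw [Nat.odd_iff]
      by_contra h
      have h3 : 2 ∣ Nat.card R := Nat.dvd_of_mod_eq_zero (by omega)
      have := Nat.dvd_gcd h3 (show 2 ∣ 6 by norm_num)
      rw [h6] at this
      exact absurd this (by norm_num)
    have hpow : ∀ v ∈ R, v ^ Nat.card R = 1 := by
      intro v hv
      have := congrArg Subtype.val (pow_card_eq_one' (x := (⟨v, hv⟩ : R)))
      rwa [Subgroup.coe_pow] at this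
    set A : Subgroup ↥(D.group k) := Subgroup.closure {x | ∃ d ∈ L0, x = xd hp i d} with hAdef
    have hxA : ∀ d ∈ L0, xd hp i d ∈ A := fun d hd => Subgroup.subset_closure ⟨d, hd, rfl⟩
    have hnA : ∀ R0 : Subgroup ↥(D.group k), Finite R0 → (∀ d ∈ L0, ∀ v ∈ R0, xd hp i d * v * (xd hp i d)⁻¹ ∈ R0) →
        ∀ a ∈ A, ∀ v ∈ R0, a * v * a⁻¹ ∈ R0 := by
      intro R0 hf0 h3 a ha v hv
      have h4 : A ≤ Subgroup.normalizer (R0 : Set ↥(D.group k)) := by
        refine (Subgroup.closure_le _).2 ?_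
        rintro _ ⟨d, hd, rfl⟩
        have : Finite (R0 : Set ↥(D.group k)) := hf0
        exact Subgroup.mem_normalizer_fintype (fun v hv => h3 d hd v hv)
      exact (Subgroup.mem_normalizer_iff.1 (h4 ha) v).1 hv
    have H : Red.Hyp (TT D k) A R :=
      { comm := TT_comm hp
        le := (Subgroup.closure_le _).2 (by
          rintro _ ⟨d, -, rfl⟩
          exact xd_mem hp hi0 d)
        fin := hf
        odd := hodd
        sol := hsol
        norm := hnA R hf hinv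
        min := fun R0 hR0 hne hR0A => by
          have hf0 : Finite R0 := Finite.of_injective _ (Subgroup.inclusion_injective hR0)
          have hdvd : Nat.card R0 ∣ Nat.card R := Subgroup.card_dvd_of_le hR0
          have hlt : Nat.card R0 < n := by
            rw [← hRn]
            refine lt_of_le_of_ne (Nat.le_of_dvd Nat.card_pos hdvd) fun h => hne ?_
            exact Subgroup.eq_of_le_of_card_ge hR0 h.ge
          exact ih _ hlt R0 rfl hf0 (Group.isSolvable_of_isSolvable_injective (Subgroup.inclusion_injective hR0))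
            (Nat.Coprime.coprime_dvd_left hdvd h6) (Nat.Coprime.coprime_dvd_left hdvd hpR)
            (fun d hd => hR0A _ (hxA d hd))
        not_le := hRT }
    -- some `z = y ^ 2` does not centralise `R`
    obtain ⟨d0, hd0, hyR⟩ : ∃ d0 ∈ L0, ¬ ∀ v ∈ R, xd hp i d0 ^ 2 * v = v * xd hp i d0 ^ 2 := by
      by_contra hcon
      push Not at hcon
      apply hRT
      intro v hv
      exact mem_TT_of_sq hp h2 p hk K (fun d hd => hL0 d (hL1 d hd)) hi hodd (hpow v hv)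
        fun d hd => hcon d (hL1 d hd) v hv
    have hyA := hxA d0 hd0
    have hy4 := xd_four hp hi d0
    have hj : ∀ d : ℕ, ∃ j : ℕ, d ∈ L0 → ∀ v ∈ R, xd hp i d * (xd hp i d0 ^ j)⁻¹ * v =
        v * (xd hp i d * (xd hp i d0 ^ j)⁻¹) := by
      intro d
      by_cases hd : d ∈ L0
      · obtain ⟨j, hj⟩ := Red.exists_pow H hyA hy4 hyR (hxA d hd) (xd_four hp hi d)
        exact ⟨j, fun _ => hj⟩
      · exact ⟨0, fun h => absurd h hd⟩
    choose j hj using hj
    have hST : ∀ d ∈ L0, xd hp i d * (xd hp i d0 ^ j d)⁻¹ ∈ TT D k := fun d _ =>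
      mul_mem (xd_mem hp hi0 d) (inv_mem (pow_mem (xd_mem hp hi0 d0) (j d)))
    have hpm : ∀ v ∈ R, ∃ m : ℕ, v ^ 2 ^ m ∈ SetC.MMs M.toCoxeterSystem hp.isCartan (XX D l k) (ch hp)
        {x | ∃ d ∈ L0, x = xd hp i d * (xd hp i d0 ^ j d)⁻¹} ⊔ TT D k := by
      intro v hv
      refine pow_mem_set hp hk p ?_ Nat.prime_two ?_ ?_
      · rintro _ ⟨d, hd, rfl⟩
        exact hST d hd
      · rintro _ ⟨d, hd, rfl⟩
        refine ⟨2, ?_⟩
        have hcm : Commute (xd hp i d) ((xd hp i d0 ^ j d)⁻¹) :=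
          TT_comm hp _ (xd_mem hp hi0 d) _ (inv_mem (pow_mem (xd_mem hp hi0 d0) (j d)))
        rw [show 2 ^ 2 = 4 by norm_num, hcm.mul_pow, xd_four hp hi, one_mul, inv_pow, ← pow_mul, mul_comm, pow_mul,
          xd_four hp hi, one_pow, inv_one]
      · rintro _ ⟨d, hd, rfl⟩
        exact (hj d hd v hv).symm
    -- a root
    obtain ⟨b, hb, hbS⟩ : ∃ b < D.nroots, ∀ d ∈ L0, ch hp (vec D l b) (xd hp i d * (xd hp i d0 ^ j d)⁻¹) = 1 := by
      by_contra hcon
      apply hRT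
      intro v hv
      obtain ⟨m, hm⟩ := hpm v hv
      refine mem_of_pow hodd (hpow v hv) ((sup_le (RGD.Sup_le fun a ha => ?_) le_rfl : _ ≤ TT D k) hm)
      exfalso
      obtain ⟨b, hb, rfl⟩ := (isRoot_iff hp M.toCoxeterSystem a).1 ha.1
      exact hcon ⟨b, hb, fun d hd => ha.2 _ ⟨d, hd, rfl⟩⟩
    set c := g b with hcdef
    have hcb : c < D.nroots := K.lt b hb
    set Q : Subgroup ↥(D.group k) := (ph hp k hb).range ⊔ (ph hp k hcb).range with hQ
    have hX1 : ∀ {s : ℕ} (hs : s < D.nroots), XX D l k (vec D l s) ≤ (ph hp k hs).range := by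
      intro s hs y hy
      obtain ⟨t, ht⟩ := (LangThm.mem_XX_vec hp hs).1 hy
      exact ⟨up t, by rw [ph_up]; exact (Subtype.ext ht : y = xs hp.inList s t).symm⟩
    have hX2 : ∀ {s : ℕ} (hs : s < D.nroots), XX D l k (vec D l (D.neg s)) ≤ (ph hp k hs).range := by
      intro s hs y hy
      obtain ⟨t, ht⟩ := (LangThm.mem_XX_vec hp (neg_lt hp.inList hs)).1 hy
      exact ⟨lo t, by rw [ph_lo]; exact (Subtype.ext ht : y = xs hp.inList (D.neg s) t).symm⟩
    have hMQ : SetC.MMs M.toCoxeterSystem hp.isCartan (XX D l k) (ch hp)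
        {x | ∃ d ∈ L0, x = xd hp i d * (xd hp i d0 ^ j d)⁻¹} ≤ Q := by
      refine RGD.Sup_le fun a ha => ?_
      obtain ⟨b', hb', rfl⟩ := (isRoot_iff hp M.toCoxeterSystem a).1 ha.1
      rcases roots_S hp h2 p hk K hL0 hL1 hi hd0 hb hb' hbS (fun d hd => ha.2 _ ⟨d, hd, rfl⟩) with e | e | e | e
      · rw [e]; exact (hX1 hb).trans le_sup_left
      · rw [e]; exact (hX2 hb).trans le_sup_left
      · rw [e]; exact (hX1 hcb).trans le_sup_right
      · rw [e]; exact (hX2 hcb).trans le_sup_right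
    have hRQ : ∀ v ∈ R, v ∈ Q ⊔ TT D k := by
      intro v hv
      obtain ⟨m, hm⟩ := hpm v hv
      exact mem_of_pow hodd (hpow v hv) ((sup_le_sup_right hMQ _ : _ ≤ _) hm)
    have hQ1 : Q ≤ LC hp (k := k) hb ∧ Q ≤ LC hp (k := k) hcb := by
      rcases K.ort b hb with h | ⟨e2, e3, e4, e5, e6⟩
      · have : ∀ c' (hc' : c' < D.nroots), c' = b → (ph hp k hb).range ⊔ (ph hp k hc').range ≤ LC hp (k := k) hb ∧
            (ph hp k hb).range ⊔ (ph hp k hc').range ≤ LC hp (k := k) hc' := by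
          rintro c' hc' rfl
          exact ⟨sup_le (ph_le_LC hp hb) (ph_le_LC hp hb), sup_le (ph_le_LC hp hb) (ph_le_LC hp hb)⟩
        exact this c hcb h
      · by_cases e1 : g b = b
        · have : ∀ c' (hc' : c' < D.nroots), c' = b → (ph hp k hb).range ⊔ (ph hp k hc').range ≤ LC hp (k := k) hb ∧
              (ph hp k hb).range ⊔ (ph hp k hc').range ≤ LC hp (k := k) hc' := by
            rintro c' hc' rfl
            exact ⟨sup_le (ph_le_LC hp hb) (ph_le_LC hp hb), sup_le (ph_le_LC hp hb) (ph_le_LC hp hb)⟩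
          exact this c hcb e1
        · have hcomm := ph_comm hp (k := k) hb hcb e1 e2 e3 e4 e5 e6
          have hcomm' : (ph hp k hb).range ≤ Subgroup.centralizer ((ph hp k hcb).range : Set ↥(D.group k)) := by
            intro x hx
            rw [Subgroup.mem_centralizer_iff]
            intro y hy
            exact (Subgroup.mem_centralizer_iff.1 (hcomm hy) _ hx).symm
          exact ⟨sup_le (ph_le_LC hp hb) (hcomm.trans (cent_le_LC hp hb)),
            sup_le (hcomm'.trans (cent_le_LC hp hcb)) (ph_le_LC hp hcb)⟩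
    have hT1 := TT_le_LC hp hb p hk
    have hT2 := TT_le_LC hp hcb p hk
    have hQn : ∀ t ∈ TT D k, ∀ x ∈ Q, t * x * t⁻¹ ∈ Q := by
      intro t ht x hx
      have h5 : Q ≤ Q.comap (MulAut.conj t).toMonoidHom := by
        refine sup_le (fun y hy => ?_) (fun y hy => ?_)
        · exact Subgroup.mem_sup_left (LC_norm hp hb (hT1 ht) hy)
        · exact Subgroup.mem_sup_right (LC_norm hp hcb (hT2 ht) hy)
      exact h5 hx
    -- `R` is commutative
    have hcomm : ∀ v ∈ R, ∀ w ∈ R, v * w = w * v := by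
      intro v hv w hw
      have hu : v * w * v⁻¹ * w⁻¹ ∈ R := mul_mem (mul_mem (mul_mem hv hw) (inv_mem hv)) (inv_mem hw)
      have huT := Red.comm_mem H hv hw
      have hu1 := Red.central H hyA hy4 hyR hu huT hv
      have hu2 := Red.central H hyA hy4 hyR hu huT hw
      have hvQ := hRQ v hv
      have hwQ := hRQ w hw
      have hvw1 := comm_LC hp hb h2 p hk (K.one b hb) ((sup_le hQ1.1 hT1 : _ ≤ LC hp (k := k) hb) hvQ)
        ((sup_le hQ1.1 hT1 : _ ≤ LC hp (k := k) hb) hwQ) hodd (hpow v hv) (hpow w hw) hu1.symm hu2.symm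
      have hvw2 := comm_LC hp hcb h2 p hk (K.one c hcb) ((sup_le hQ1.2 hT2 : _ ≤ LC hp (k := k) hcb) hvQ)
        ((sup_le hQ1.2 hT2 : _ ≤ LC hp (k := k) hcb) hwQ) hodd (hpow v hv) (hpow w hw) hu1.symm hu2.symm
      have huQ := comm_mem_of_norm (TT_comm hp) hQn hvQ hwQ
      have hu3 := sq_of_cent hp h2 p hk K hb huQ hvw1 hvw2
      have hu4 := eq_one_of_odd hu3 hodd (hpow _ hu)
      have e : v * w = v * w * v⁻¹ * w⁻¹ * (w * v) := by group
      rw [e, hu4, one_mul]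
    apply hyR
    intro v hv
    exact sq_comm hp p hk hA hc hy4 (ker_xd hp h2 hi (hL0 d0 hd0) (htwo d0 hd0)) hcomm (hinv d0 hd0) hpow h6 hpR hv

end Cfsg.Agent.H167.EX
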