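import Cfsg.Agent.H167.EX.One
import Cfsg.Agent.H167.EX.ChkF4
import Cfsg.Agent.H167.EX.ChkE6
import Cfsg.Agent.H167.EX.ChkE7
import Cfsg.Agent.H167.EX.ChkE8
import Cfsg.Agent.H554.BS.Iface

/-!
# Part (1) of B* for `F₄`, `E₆`, `E₇`, `E₈` (helper167, S4312, exceptional groups)
-/

set_option autoImplicit false
set_option linter.unusedSectionVars false

namespace Cfsg.Agent.H167.EX

open CoxeterSystem Cfsg Cfsg.Lie Cfsg.Lie.ChevalleyDatum
open Cfsg.Agent.ChevalleyStructure Cfsg.Agent.ChevalleyStructure.Elts Cfsg.Agent.ChevalleyStructure.CoxeterGeom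
  Cfsg.Agent.ChevalleyStructure.CoxeterGeomTypes Cfsg.Agent.ChevalleyStructure.NPerm
open Cfsg.Agent.Tits.Roots Cfsg.Agent.Tits.Core Cfsg.Agent.Nodes Cfsg.Agent.Nodes.Reps Cfsg.Agent.Nodes.BNOf
  Cfsg.Agent.Nodes.RGDChev Cfsg.Agent.Nodes.Bruhat Cfsg.Agent.Nodes.NormalForm
open Cfsg.Agent.KFacts.RgdField Cfsg.Agent.KFacts.RgdChevCoord
open Cfsg.Agent.BpExc Cfsg.Agent.BpExc.TorCent Cfsg.Agent.BpExc.TorChev Cfsg.Agent.BpExc.Tow
  Cfsg.Agent.BpExc.TowChev Cfsg.Agent.BpExc.Fr Cfsg.Agent.BpExc.Pair Cfsg.Agent.BpExc.LangFr Cfsg.Agent.GpExc.Field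
  Cfsg.Agent.BpExc.TorAll
open Cfsg.Agent.H469.Exc Cfsg.Agent.H469.Exc.SigFr
open Cfsg.Agent.H554.BS (OneP)

universe u v

theorem oneP {D : ChevalleyDatum} {l : ℕ} {M : CoxeterMatrix (Fin l)} (hp : IsType D l M) {k : Type u} [Field k]
    [IsAlgClosed k] (h2 : (2 : k) ≠ 0) (p : ℕ) [Fact p.Prime] [CharP k p] (hk : LocFin k) (hA : HAlg p k)
    (hc : cnt D l = true) {L1 : List ℕ} {g : ℕ → ℕ} (K : Chk D L1 g) (hL1 : ∀ d ∈ L1, d < D.nroots)
    (htwo : ∀ d ∈ L1, two D d = true) {i : k} (hi : i * i = -1) :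
    OneP p {x | ∃ d ∈ L1, x = xd hp i d} (TT D k) := by
  intro H hf h3 hpH hX
  obtain ⟨N, hNn, hodd, hT, hC⟩ := one hp h2 p hk hA hc K hL1 htwo hi H h3 hpH (fun d hd => hX ⟨d, hd, rfl⟩)
  refine ⟨N.map H.subtype, Subgroup.map_subtype_le N, ?_, ?_, ?_, ?_⟩
  · rintro h hh _ ⟨n, hn, rfl⟩
    refine ⟨⟨h, hh⟩ * n * ⟨h, hh⟩⁻¹, hNn.conj_mem n hn _, ?_⟩
    rw [Subgroup.subtype_apply, Subgroup.subtype_apply, Subgroup.coe_mul, Subgroup.coe_mul, Subgroup.coe_inv]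
  · rintro _ ⟨n, hn, rfl⟩
    exact hT n hn
  · rw [Nat.card_congr (N.equivMapOfInjective H.subtype H.subtype_injective).toEquiv.symm]
    exact hodd
  · intro x hx h4 h5
    have h6 : (⟨x, hx⟩ : H) ∈ Subgroup.centralizer ((pCore 2 H ⊔ N : Subgroup ↥H) : Set ↥H) := by
      have h7 : pCore 2 H ⊔ N ≤ Subgroup.centralizer {(⟨x, hx⟩ : H)} := by
        refine sup_le (fun y hy => ?_) (fun y hy => ?_)
        · rw [Subgroup.mem_centralizer_singleton_iff]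
          apply Subtype.ext
          rw [Subgroup.coe_mul, Subgroup.coe_mul]
          exact (h5 _ (Subgroup.mem_map_of_mem H.subtype hy)).symm
        · rw [Subgroup.mem_centralizer_singleton_iff]
          apply Subtype.ext
          rw [Subgroup.coe_mul, Subgroup.coe_mul]
          exact (h4 _ (Subgroup.mem_map_of_mem H.subtype hy)).symm
      rw [Subgroup.mem_centralizer_iff]
      intro y hy
      exact Subgroup.mem_centralizer_singleton_iff.1 (h7 hy)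
    have h8 := Subgroup.mem_map_of_mem H.subtype (hC h6)
    rw [Subgroup.map_sup] at h8
    exact h8

variable {k : Type u} [Field k] [IsAlgClosed k]

theorem one_F4 {M : CoxeterMatrix (Fin 4)} (hp : IsType chevF4 4 M) (h2 : (2 : k) ≠ 0) (p : ℕ) [Fact p.Prime] [CharP k p] (hk : LocFin k)
    (hA : HAlg p k) {i : k} (hi : i * i = -1) : OneP p {x | ∃ d ∈ LF4, x = xd hp i d} (TT chevF4 k) :=
  oneP hp h2 p hk hA cnt_F4 chkF4 ltF4 twoF4 hi

theorem one_E6 {M : CoxeterMatrix (Fin 6)} (hp : IsType chevE6 6 M) (h2 : (2 : k) ≠ 0) (p : ℕ) [Fact p.Prime] [CharP k p] (hk : LocFin k)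
    (hA : HAlg p k) {i : k} (hi : i * i = -1) : OneP p {x | ∃ d ∈ LE6, x = xd hp i d} (TT chevE6 k) :=
  oneP hp h2 p hk hA cnt_E6 chkE6 ltE6 twoE6 hi

theorem one_E7 {M : CoxeterMatrix (Fin 7)} (hp : IsType chevE7 7 M) (h2 : (2 : k) ≠ 0) (p : ℕ) [Fact p.Prime] [CharP k p] (hk : LocFin k)
    (hA : HAlg p k) {i : k} (hi : i * i = -1) : OneP p {x | ∃ d ∈ LE7, x = xd hp i d} (TT chevE7 k) :=
  oneP hp h2 p hk hA cnt_E7 chkE7 ltE7 twoE7 hi

theorem one_E8 {M : CoxeterMatrix (Fin 8)} (hp : IsType chevE8 8 M) (h2 : (2 : k) ≠ 0) (p : ℕ) [Fact p.Prime] [CharP k p] (hk : LocFin k)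
    (hA : HAlg p k) {i : k} (hi : i * i = -1) : OneP p {x | ∃ d ∈ LE8, x = xd hp i d} (TT chevE8 k) :=
  oneP hp h2 p hk hA cnt_E8 chkE8 ltE8 twoE8 hi

end Cfsg.Agent.H167.EX
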