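import Cfsg.Agent.H167.EX.Rk

/-!
# Root SL₂-subgroups (helper167, S4312, exceptional groups)

* `ph` : `SL₂(k) → D.group k` attached to a root;
* `ker_x` : `x = ph (wS t)` has eigenvalue `-1` with multiplicity at most 2;
-/

set_option autoImplicit false
set_option linter.unusedSectionVars false

namespace Cfsg.Agent.H167.EX

open CoxeterSystem Cfsg Cfsg.Lie Cfsg.Lie.ChevalleyDatum
open Cfsg.Agent.ChevalleyStructure Cfsg.Agent.ChevalleyStructure.Elts Cfsg.Agent.ChevalleyStructure.CoxeterGeom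
  Cfsg.Agent.ChevalleyStructure.CoxeterGeomTypes Cfsg.Agent.ChevalleyStructure.NPerm
open Cfsg.Agent.Tits.Roots Cfsg.Agent.Tits.Core Cfsg.Agent.Nodes Cfsg.Agent.Nodes.Reps Cfsg.Agent.Nodes.BNOf
  Cfsg.Agent.Nodes.RGDChev Cfsg.Agent.Nodes.Bruhat Cfsg.Agent.Nodes.NormalForm
open Cfsg.Agent.KFacts.RgdField Cfsg.Agent.KFacts.RgdChevCoord
open Cfsg.Agent.BpExc Cfsg.Agent.BpExc.TorCent Cfsg.Agent.BpExc.TorChev Cfsg.Agent.BpExc.Tow
  Cfsg.Agent.BpExc.TowChev Cfsg.Agent.BpExc.Fr Cfsg.Agent.BpExc.Pair Cfsg.Agent.BpExc.LangFr Cfsg.Agent.GpExc.Field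
  Cfsg.Agent.BpExc.TorAll
open Cfsg.Agent.H469.Exc Cfsg.Agent.H469.Exc.SigFr
open Cfsg.Agent.Nodes.RGDFoldSL
open Cfsg.Agent.ChevalleyStructure.SL2Hom (up lo mem_closure_SL2)
open Module

universe u v

/-! ### `SL₂` -/

section SL

variable {k : Type u} [Field k]

abbrev SL (k : Type u) [Field k] := Matrix.SpecialLinearGroup (Fin 2) k

theorem wS_conj (h2 : (2 : k) ≠ 0) {i : k} (hi : i * i = -1) {t : k} (ht : t ≠ 0) :
    ∃ P : SL k, wS t = P * hS i * P⁻¹ := by
  have hi0 : i ≠ 0 := by rintro rfl; rw [mul_zero] at hi; exact one_ne_zero (neg_eq_zero.1 hi.symm)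
  have hii : i⁻¹ = -i := by
    rw [inv_eq_iff_eq_inv, ← neg_inv]
    exact eq_neg_of_add_eq_zero_left (by
      field_simp
      linear_combination hi)
  obtain ⟨P, hP⟩ : ∃ P : SL k, (P : Matrix (Fin 2) (Fin 2) k) = !![t, i / 2; i, 1 / (2 * t)] := by
    refine ⟨⟨!![t, i / 2; i, 1 / (2 * t)], ?_⟩, rfl⟩
    rw [Matrix.det_fin_two_of]
    field_simp
    linear_combination -hi
  refine ⟨P, eq_mul_inv_of_mul_eq ?_⟩
  apply Subtype.ext
  rw [Matrix.SpecialLinearGroup.coe_mul, Matrix.SpecialLinearGroup.coe_mul, coe_wS ht, coe_hS hi0, hii, hP]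
  ext a b
  fin_cases a <;> fin_cases b <;> simp [Matrix.mul_apply, Fin.sum_univ_two] <;> field_simp <;>
    (first | ring1 | linear_combination hi | linear_combination -hi)

theorem wS_sq {t : k} (ht : t ≠ 0) : (wS t) ^ 2 = hS (-1 : k) := by
  apply Subtype.ext
  rw [Matrix.SpecialLinearGroup.coe_pow, coe_wS ht, coe_hS (neg_ne_zero.2 one_ne_zero)]
  ext a b
  fin_cases a <;> fin_cases b <;> simp [pow_two, Matrix.mul_apply, Fin.sum_univ_two, ht]

theorem hS_neg_sq : (hS (-1 : k)) ^ 2 = 1 := by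
  apply Subtype.ext
  rw [Matrix.SpecialLinearGroup.coe_pow, coe_hS (neg_ne_zero.2 one_ne_zero)]
  ext a b
  fin_cases a <;> fin_cases b <;> simp [pow_two, Matrix.mul_apply, Fin.sum_univ_two]

end SL

variable {D : ChevalleyDatum} {l : ℕ} {M : CoxeterMatrix (Fin l)} (hp : IsType D l M) {k : Type u} [Field k]

/-- the root group hom -/
noncomputable def ph (k : Type u) [Field k] {s : ℕ} (hs : s < D.nroots) : SL k →* ↥(D.group k) :=
  (psi hp.inList k s).codRestrict (D.group k) (fun g => by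
    have h1 := psi_mem hp.inList hs g
    rw [← XV_vec hp k hs, ← XV_vec hp k (neg_lt hp.inList hs)] at h1
    exact sup_le (XV_le_group hp _) (XV_le_group hp _) h1)

variable {s : ℕ} (hs : s < D.nroots)

theorem coe_ph (g : SL k) : ((ph hp k hs g : ↥(D.group k)) : GL D.Idx k) = psi hp.inList k s g := rfl

theorem ph_up (t : k) : ph hp k hs (up t) = xs hp.inList s t := Subtype.ext (psi_up hp.inList hs t)

theorem ph_lo (t : k) : ph hp k hs (lo t) = xs hp.inList (D.neg s) t := Subtype.ext (psi_lo hp.inList hs t)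

theorem ph_hS_mem {c : k} (hc : c ≠ 0) : ph hp k hs (hS c) ∈ TT D k := by
  rw [Subgroup.mem_subgroupOf, coe_ph, psi_hS hp.inList hs]
  exact hG_mem_diagonal hp.inList hs hc

theorem coe_ph_hS {c : k} (hc : c ≠ 0) : ((ph hp k hs (hS c) : GL D.Idx k) : Matrix D.Idx D.Idx k) =
    Matrix.diagonal (Sum.elim (fun _ => (1 : k)) (fun r : Fin D.nroots => c ^ HMatDiagAll.expo D s r.val)) := by
  rw [coe_ph, psi_hS hp.inList hs, coe_hG, HMatDiagAll.hMat_eq_diagonal hp.inList hs hc]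

theorem ch_ph_hS (p : ℕ) [Fact p.Prime] [CharP k p] (hk : LocFin k) {c : k} (hc : c ≠ 0) {r : ℕ} (hr : r < D.nroots) :
    ch hp (vec D l r) (ph hp k hs (hS c)) = c ^ HMatDiagAll.expo D s r := by
  have h1 := H892.El.coe_TT hp (r := p) hk (ph_hS_mem hp hs hc)
  rw [coe_ph_hS hp hs hc] at h1
  have h2 := congrFun (congrFun h1 (Sum.inr ⟨r, hr⟩)) (Sum.inr ⟨r, hr⟩)
  rw [Matrix.diagonal_apply_eq, Matrix.diagonal_apply_eq] at h2
  exact h2.symm

/-! ### the eigenvalue `-1` of `ph (wS t)` -/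

/-- at most two roots with `⟨r, s⟩ ≡ 2 mod 4` -/
def two (D : ChevalleyDatum) (s : ℕ) : Bool :=
  decide (((Finset.range D.nroots).filter fun r => HMatDiagAll.expo D s r % 4 = 2).card ≤ 2)

theorem zpow_i {i : k} (h2 : (2 : k) ≠ 0) (hi : i * i = -1) (e : ℤ) (h : i ^ e = -1) : e % 4 = 2 := by
  have hi0 : i ≠ 0 := by rintro rfl; rw [mul_zero] at hi; exact one_ne_zero (neg_eq_zero.1 hi.symm)
  have h4 : i ^ (4 : ℤ) = 1 := by
    have : i ^ (4 : ℤ) = (i * i) * (i * i) := by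
      rw [show (4 : ℤ) = ((4 : ℕ) : ℤ) by norm_num, zpow_natCast]; ring
    rw [this, hi]; ring
  have h1 : (1 : k) ≠ -1 := by
    intro h0
    apply h2
    linear_combination h0
  have h5 : i ^ (e % 4) = -1 := by
    rw [← Int.emod_add_mul_ediv e 4, zpow_add₀ hi0, zpow_mul, h4, one_zpow, mul_one] at h
    exact h
  have h6 := Int.emod_nonneg e (show (4 : ℤ) ≠ 0 by norm_num)
  have h7 := Int.emod_lt_of_pos e (show (0 : ℤ) < 4 by norm_num)
  have h8 : e % 4 = 0 ∨ e % 4 = 1 ∨ e % 4 = 2 ∨ e % 4 = 3 := by omega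
  rcases h8 with h8 | h8 | h8 | h8
  · rw [h8, zpow_zero] at h5
    exact absurd h5 h1
  · rw [h8, zpow_one] at h5
    rw [h5] at hi
    exact absurd (by linear_combination hi) h1
  · exact h8
  · rw [h8, show (3 : ℤ) = ((3 : ℕ) : ℤ) by norm_num, zpow_natCast] at h5
    have h9 : i = 1 := by
      have : i ^ 3 = (i * i) * i := by ring
      rw [this, hi] at h5
      linear_combination -h5
    rw [h9] at hi
    exact absurd (by linear_combination hi) h1

open Classical in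
theorem finrank_ker_diag (D : ChevalleyDatum) (d : D.Idx → k) :
    finrank k (LinearMap.ker (Matrix.toLin' (Matrix.diagonal d))) = Fintype.card {j // d j = 0} := by
  have h3 := LinearMap.finrank_range_add_finrank_ker (Matrix.toLin' (Matrix.diagonal d))
  rw [Module.finrank_fintype_fun_eq_card, finrank_diag] at h3
  have h5 := Fintype.card_subtype_compl (fun j : D.Idx => d j = 0)
  have h6 := Fintype.card_subtype_le (fun j : D.Idx => d j = 0)
  have h7 : Fintype.card {j // d j ≠ 0} = Fintype.card {j // ¬ d j = 0} := rfl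
  rw [h7, h5] at h3
  omega

theorem two_spec (h : two D s = true) :
    ((Finset.range D.nroots).filter fun r => HMatDiagAll.expo D s r % 4 = 2).card ≤ 2 := by
  unfold two at h
  exact of_decide_eq_true h

include hp in
theorem ker_x (h2 : (2 : k) ≠ 0) {i : k} (hi : i * i = -1) (hs2 : two D s = true) {t : k} (ht : t ≠ 0) :
    finrank k (LinearMap.ker (rho D k (ph hp k hs (wS t)) + 1)) ≤ 2 := by
  classical
  have hi0 : i ≠ 0 := by rintro rfl; rw [mul_zero] at hi; exact one_ne_zero (neg_eq_zero.1 hi.symm)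
  obtain ⟨P, hP⟩ := wS_conj h2 hi ht
  have e : ph hp k hs (wS t) = ph hp k hs P * ph hp k hs (hS i) * (ph hp k hs P)⁻¹ := by
    rw [hP, map_mul, map_mul, map_inv]
  rw [e]
  refine (ker_conj_le (x := ph hp k hs (hS i)) (g := ph hp k hs P)).trans ?_
  rw [rho_add_one (coe_ph_hS hp hs hi0), finrank_ker_diag]
  refine le_trans ?_ (two_spec hs2)
  rw [← Fintype.card_coe]
  have hmem : ∀ j : {j : D.Idx // (Sum.elim (fun _ => (1 : k))
      (fun r : Fin D.nroots => i ^ HMatDiagAll.expo D s r.val) : D.Idx → k) j + 1 = 0},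
      ∃ r : Fin D.nroots, j.1 = Sum.inr r ∧ HMatDiagAll.expo D s r.val % 4 = 2 := by
    rintro ⟨j | r, hj⟩
    · exfalso
      have h3 : (1 : k) + 1 = 0 := hj
      apply h2
      linear_combination h3
    · exact ⟨r, rfl, zpow_i h2 hi _ (eq_neg_of_add_eq_zero_left hj)⟩
  choose f hf1 hf2 using hmem
  refine Fintype.card_le_of_injective (fun j => ⟨(f j : ℕ), Finset.mem_filter.2
    ⟨Finset.mem_range.2 (f j).2, hf2 j⟩⟩) ?_
  intro a b hab
  have h8 : (f a : ℕ) = f b := congrArg Subtype.val hab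
  apply Subtype.ext
  rw [hf1, hf1, Fin.ext h8]

end Cfsg.Agent.H167.EX
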