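import Mathlib

/-!
# A rank bound (helper167, S4312, exceptional groups)

`x ^ 4 = 1`, `x a x⁻¹ = b`, `x b x⁻¹ = a⁻¹`, `a b = b a`, `a ^ m = b ^ m = 1`, `m` odd and prime to the characteristic:
then `rank (a - 1) ≤ 4 dim ker (x + 1)`.
-/

set_option autoImplicit false
set_option linter.unusedSectionVars false

namespace Cfsg.Agent.H167.EX.Rot

open Module Module.End

variable {k : Type*} [Field k] {V : Type*} [AddCommGroup V] [Module k V]

/-- joint eigenspaces -/
def JE (a b : End k V) (c : k × k) : Submodule k V := eigenspace a c.1 ⊓ eigenspace b c.2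

theorem mem_JE {a b : End k V} {c : k × k} {v : V} : v ∈ JE a b c ↔ a v = c.1 • v ∧ b v = c.2 • v := by
  rw [JE, Submodule.mem_inf, mem_eigenspace_iff, mem_eigenspace_iff]

theorem iSup_JE [FiniteDimensional k V] [IsAlgClosed k] {a b : End k V} (hab : Commute a b) (ha : a.IsSemisimple)
    (hb : b.IsSemisimple) : ⨆ c, JE a b c = ⊤ := by
  have hf : ∀ i : Bool, (cond i a b).IsSemisimple := by rintro (_ | _) <;> assumption
  have h1 := iSup_iInf_maxGenEigenspace_eq_top_of_iSup_maxGenEigenspace_eq_top_of_commute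
    (fun i : Bool => cond i a b) (by
      rintro (_ | _) (_ | _) h
      · exact absurd rfl h
      · exact hab.symm
      · exact hab
      · exact absurd rfl h) (fun i => iSup_maxGenEigenspace_eq_top _)
  rw [eq_top_iff, ← h1]
  refine iSup_le fun χ => le_trans ?_ (le_iSup (JE a b) (χ true, χ false))
  refine le_inf ?_ ?_
  · refine (iInf_le _ true).trans ?_
    show a.maxGenEigenspace (χ true) ≤ _
    rw [(isFinitelySemisimple_iff_isSemisimple.mpr ha).maxGenEigenspace_eq_eigenspace]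
  · refine (iInf_le _ false).trans ?_
    show b.maxGenEigenspace (χ false) ≤ _
    rw [(isFinitelySemisimple_iff_isSemisimple.mpr hb).maxGenEigenspace_eq_eigenspace]

theorem eig_le_maxGen (a : End k V) (c : k) : eigenspace a c ≤ maxGenEigenspace a c := by
  intro v hv
  rw [mem_maxGenEigenspace]
  refine ⟨1, ?_⟩
  rw [mem_eigenspace_iff] at hv
  simp [hv]

theorem indep_JE {a b : End k V} (hab : Commute a b) : iSupIndep (JE a b) := by
  have h1 := independent_iInf_maxGenEigenspace_of_forall_mapsTo (fun i : Bool => cond i a b) (by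
    intro i j φ
    refine mapsTo_maxGenEigenspace_of_comm ?_ _
    rcases i with _ | _ <;> rcases j with _ | _
    · exact Commute.refl _
    · exact hab
    · exact hab.symm
    · exact Commute.refl _)
  have h2 := h1.comp (f := fun c : k × k => fun i : Bool => cond i c.1 c.2) (by
    rintro ⟨c1, c2⟩ ⟨d1, d2⟩ h
    have e1 := congrFun h true
    have e2 := congrFun h false
    exact Prod.ext e1 e2)
  refine h2.mono fun c => ?_
  refine le_iInf fun i => ?_
  rcases i with _ | _
  · exact inf_le_right.trans (eig_le_maxGen b c.2)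
  · exact inf_le_left.trans (eig_le_maxGen a c.1)

theorem isSemisimple_of_pow {a : End k V} [FiniteDimensional k V] {m : ℕ} (hm : (m : k) ≠ 0) (ha : a ^ m = 1) :
    a.IsSemisimple := by
  refine isSemisimple_of_squarefree_aeval_eq_zero (p := Polynomial.X ^ m - 1) ?_ ?_
  · have h1 := Polynomial.separable_X_pow_sub_C (1 : k) hm one_ne_zero
    rw [map_one] at h1
    exact h1.squarefree
  · simp [ha]

/-- `x` permutes the joint eigenspaces -/
def rot (c : k × k) : k × k := (c.2⁻¹, c.1)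

theorem rot_rot (c : k × k) : rot (rot c) = (c.1⁻¹, c.2⁻¹) := rfl

theorem rot_four (c : k × k) : rot (rot (rot (rot c))) = c := by
  simp [rot]

variable {a b x : End k V} {m : ℕ}

theorem map_JE (hxa : ∀ v, x (a v) = b (x v)) (hxb : ∀ v, a (x (b v)) = x v)
    {c : k × k} (hc : c.2 ≠ 0) {v : V} (hv : v ∈ JE a b c) : x v ∈ JE a b (rot c) := by
  rw [mem_JE] at hv ⊢
  constructor
  · have h1 := hxb v
    rw [hv.2, map_smul, map_smul] at h1
    have h2 : a (x v) = c.2⁻¹ • (c.2 • a (x v)) := by rw [smul_smul, inv_mul_cancel₀ hc, one_smul]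
    exact h2.trans (congrArg (fun w => c.2⁻¹ • w) h1)
  · rw [← hxa, hv.1, map_smul]
    rfl

/-- the index set -/
def Free (m : ℕ) : Set (k × k) := {c | c.1 ^ m = 1 ∧ c.2 ^ m = 1 ∧ c ≠ 1}

theorem rot_free {c : k × k} (hc : c ∈ Free (k := k) m) : rot c ∈ Free (k := k) m := by
  refine ⟨by rw [rot]; simp [hc.2.1], hc.1, fun h => hc.2.2 ?_⟩
  have h1 := congrArg Prod.fst h
  have h2 := congrArg Prod.snd h
  exact Prod.ext h2 (by simpa [rot] using h1)

theorem sq_eq_one {u : k} (hm : Odd m) (hu : u ^ m = 1) (h : u⁻¹ = u) (h0 : u ≠ 0) : u = 1 := by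
  have h1 : u ^ 2 = 1 := by
    rw [pow_two]
    nth_rw 1 [← h]
    exact inv_mul_cancel₀ h0
  obtain ⟨j, rfl⟩ := hm
  rw [pow_succ, pow_mul, h1, one_pow, one_mul] at hu
  exact hu

theorem rot2_ne {c : k × k} (hm : Odd m) (hc : c ∈ Free (k := k) m) : rot (rot c) ≠ c := by
  intro h
  have hm0 : m ≠ 0 := by rintro rfl; exact absurd hm (by decide)
  have h3 : ∀ u : k, u ^ m = 1 → u ≠ 0 := by
    rintro u hu rfl
    rw [zero_pow hm0] at hu
    exact zero_ne_one hu
  refine hc.2.2 (Prod.ext (sq_eq_one hm hc.1 (congrArg Prod.fst h) (h3 _ hc.1))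
    (sq_eq_one hm hc.2.1 (congrArg Prod.snd h) (h3 _ hc.2.1)))

/-- the orbits of `rot` -/
def orb : Setoid (k × k) where
  r c d := ∃ j : ℕ, rot^[j] c = d
  iseqv := by
    have h4 : ∀ (j : ℕ) (c : k × k), rot^[4 * j] c = c := by
      intro j
      induction j with
      | zero => intro c; rfl
      | succ j ih =>
        intro c
        rw [Nat.mul_succ, Function.iterate_add_apply, show rot^[4] c = c from rot_four c, ih]
    refine ⟨fun c => ⟨0, rfl⟩, ?_, ?_⟩
    · rintro c _ ⟨j, rfl⟩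
      refine ⟨3 * j, ?_⟩
      rw [← Function.iterate_add_apply, show 3 * j + j = 4 * j by ring, h4]
    · rintro c _ _ ⟨j, rfl⟩ ⟨i, rfl⟩
      exact ⟨i + j, Function.iterate_add_apply _ _ _ _⟩

theorem iter_mod (j : ℕ) (c : k × k) : rot^[j] c = rot^[j % 4] c := by
  have h4 : ∀ (j : ℕ) (c : k × k), rot^[4 * j] c = c := by
    intro j
    induction j with
    | zero => intro c; rfl
    | succ j ih =>
      intro c
      rw [Nat.mul_succ, Function.iterate_add_apply, show rot^[4] c = c from rot_four c, ih]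
  conv_lhs => rw [← Nat.mod_add_div j 4, Function.iterate_add_apply, h4]

/-- representatives -/
noncomputable def rp (c : k × k) : k × k := (Quotient.mk orb c).out

theorem rp_rot (c : k × k) : rp (rot c) = rp c := by
  unfold rp
  congr 1
  exact Quotient.sound (s := orb) (orb.symm ⟨1, rfl⟩)

theorem exists_iter (c : k × k) : ∃ j < 4, rot^[j] (rp c) = c := by
  obtain ⟨j, hj⟩ := Quotient.exact (s := orb) (Quotient.out_eq (Quotient.mk orb c))
  exact ⟨j % 4, Nat.mod_lt _ (by norm_num), by rw [← iter_mod]; exact hj⟩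

theorem rp_rp (c : k × k) : rp (rp c) = rp c := by
  unfold rp
  rw [Quotient.out_eq]

/-- the section -/
def Sec (m : ℕ) : Set (k × k) := {c | c ∈ Free (k := k) m ∧ rp c = c}

theorem iter_free {c : k × k} (hc : c ∈ Free (k := k) m) (j : ℕ) : rot^[j] c ∈ Free (k := k) m := by
  induction j with
  | zero => exact hc
  | succ j ih => rw [Function.iterate_succ_apply']; exact rot_free ih

theorem rp_free {c : k × k} (hc : c ∈ Free (k := k) m) : rp c ∈ Free (k := k) m := by
  obtain ⟨j, hj, h1⟩ := exists_iter c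
  have h2 : rot^[4 - j] c = rp c := by
    rw [← h1, ← Function.iterate_add_apply, show 4 - j + j = 4 by omega]
    have h3 := rot_four (rp c)
    rw [h1]
    exact h3
  rw [← h2]
  exact iter_free hc _

theorem rp_mem {c : k × k} (hc : c ∈ Free (k := k) m) : rp c ∈ Sec (k := k) m := ⟨rp_free hc, rp_rp c⟩

theorem rot_not_mem {c : k × k} (hm : Odd m) (hc : c ∈ Sec (k := k) m) : rot c ∉ Sec (k := k) m ∧
    rot (rot c) ∉ Sec (k := k) m ∧ rot (rot (rot c)) ∉ Sec (k := k) m := by
  have h0 := rot2_ne hm hc.1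
  refine ⟨fun h => h0 ?_, fun h => h0 ?_, fun h => h0 ?_⟩
  · have h1 := h.2
    rw [rp_rot, hc.2] at h1
    rw [← h1, ← h1]
  · have h1 := h.2
    rw [rp_rot, rp_rot, hc.2] at h1
    exact h1.symm
  · have h1 := h.2
    rw [rp_rot, rp_rot, rp_rot, hc.2] at h1
    have h2 := congrArg rot h1
    rw [rot_four] at h2
    rw [h2, h2]

/-- the sum of the joint eigenspaces over a set -/
def JS (a b : End k V) (S : Set (k × k)) : Submodule k V := ⨆ c ∈ S, JE a b c

theorem JE_le_JS {S : Set (k × k)} {c : k × k} (hc : c ∈ S) : JE a b c ≤ JS a b S := le_iSup₂_of_le c hc le_rfl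

theorem JS_mono {S S' : Set (k × k)} (h : S ⊆ S') : JS a b S ≤ JS a b S' :=
  iSup₂_le fun _ hc => JE_le_JS (h hc)

theorem map_JS (hxa : ∀ v, x (a v) = b (x v)) (hxb : ∀ v, a (x (b v)) = x v) {S S' : Set (k × k)}
    (h0 : ∀ c ∈ S, c.2 ≠ 0) (hS : ∀ c ∈ S, rot c ∈ S') {v : V} (hv : v ∈ JS a b S) : x v ∈ JS a b S' := by
  have h1 : JS a b S ≤ (JS a b S').comap x := iSup₂_le fun c hc u hu =>
    Submodule.mem_comap.2 (JE_le_JS (hS c hc) (map_JE hxa hxb (h0 c hc) hu))
  exact h1 hv

theorem ne_zero_of_free (hm : m ≠ 0) {c : k × k} (hc : c ∈ Free (k := k) m) : c.2 ≠ 0 := by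
  intro h
  have h1 := hc.2.1
  rw [h, zero_pow hm] at h1
  exact zero_ne_one h1

theorem map_iter (hm0 : m ≠ 0) (hxa : ∀ v, x (a v) = b (x v)) (hxb : ∀ v, a (x (b v)) = x v) {c : k × k}
    (hc : c ∈ Free (k := k) m) (j : ℕ) {v : V} (hv : v ∈ JE a b c) : (x ^ j) v ∈ JE a b (rot^[j] c) := by
  induction j with
  | zero => simpa using hv
  | succ j ih =>
    rw [pow_succ', Function.iterate_succ_apply', Module.End.mul_apply]
    exact map_JE hxa hxb (ne_zero_of_free hm0 (iter_free hc j)) ih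

theorem JS_free_le (hm0 : m ≠ 0) (hx4 : x ^ 4 = 1) (hxa : ∀ v, x (a v) = b (x v)) (hxb : ∀ v, a (x (b v)) = x v) :
    JS a b (Free m) ≤ ⨆ j : Fin 4, (JS a b (Sec m)).map (x ^ (j : ℕ)) := by
  refine iSup₂_le fun c hc v hv => ?_
  obtain ⟨j, hj, h1⟩ := exists_iter c
  have h2 : rot^[4 - j] c = rp c := by
    rw [← h1, ← Function.iterate_add_apply, show 4 - j + j = 4 by omega, h1]
    exact rot_four (rp c)
  refine (le_iSup (fun j : Fin 4 => (JS a b (Sec m)).map (x ^ (j : ℕ))) ⟨j, hj⟩) ?_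
  refine ⟨(x ^ (4 - j)) v, JE_le_JS (rp_mem hc) ?_, ?_⟩
  · rw [← h2]
    exact map_iter hm0 hxa hxb hc _ hv
  · show (x ^ j) ((x ^ (4 - j)) v) = v
    rw [← Module.End.mul_apply, ← pow_add, show j + (4 - j) = 4 by omega, hx4, Module.End.one_apply]

theorem inj_aux [FiniteDimensional k V] (hm : Odd m) (hab : Commute a b)
    (hxa : ∀ v, x (a v) = b (x v)) (hxb : ∀ v, a (x (b v)) = x v) {v : V} (hv : v ∈ JS a b (Sec m))
    (h : v - x v + (x ^ 2) v - (x ^ 3) v = 0) : v = 0 := by
  have hm0 : m ≠ 0 := by rintro rfl; exact absurd hm (by decide)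
  have hd : Disjoint (JS a b (Sec m)) (JS a b (Sec m)ᶜ) :=
    (indep_JE hab).disjoint_biSup_biSup (disjoint_compl_right (a := Sec (k := k) m))
  have hF : ∀ c ∈ Sec (k := k) m, c ∈ Free (k := k) m := fun c hc => hc.1
  have h1 : x v ∈ JS a b ((Sec m)ᶜ ∩ {c | c ∈ Free (k := k) m ∧ ∃ d ∈ Sec (k := k) m, c = rot d}) := by
    refine map_JS hxa hxb (fun c hc => ne_zero_of_free hm0 hc.1) ?_ hv
    intro c hc
    exact ⟨(rot_not_mem hm hc).1, rot_free hc.1, c, hc, rfl⟩
  have h2 : x (x v) ∈ JS a b ((Sec m)ᶜ ∩ {c | c ∈ Free (k := k) m ∧ ∃ d ∈ Sec (k := k) m, c = rot (rot d)}) := by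
    refine map_JS hxa hxb (fun c hc => ne_zero_of_free hm0 hc.2.1) ?_ h1
    rintro _ ⟨-, hc, d, hd, rfl⟩
    exact ⟨(rot_not_mem hm hd).2.1, rot_free hc, d, hd, rfl⟩
  have h3 : x (x (x v)) ∈ JS a b (Sec m)ᶜ := by
    refine map_JS hxa hxb (fun c hc => ne_zero_of_free hm0 hc.2.1) ?_ h2
    rintro _ ⟨-, hc, d, hd, rfl⟩
    exact (rot_not_mem hm hd).2.2
  have h4 : v = x v - x (x v) + x (x (x v)) := by
    have e2 : (x ^ 2) v = x (x v) := by rw [pow_two, Module.End.mul_apply]
    have e3 : (x ^ 3) v = x (x (x v)) := by rw [pow_succ', pow_two, Module.End.mul_apply, Module.End.mul_apply]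
    rw [e2, e3] at h
    rw [← sub_eq_zero, ← h]
    abel
  have h5 : v ∈ JS a b (Sec m)ᶜ := by
    rw [h4]
    exact add_mem (sub_mem (JS_mono Set.inter_subset_left h1) (JS_mono Set.inter_subset_left h2)) h3
  exact Submodule.disjoint_def.1 hd v hv h5

theorem finrank_sec_le [FiniteDimensional k V] (hm : Odd m) (hx4 : x ^ 4 = 1) (hab : Commute a b)
    (hxa : ∀ v, x (a v) = b (x v)) (hxb : ∀ v, a (x (b v)) = x v) :
    finrank k (JS a b (Sec m)) ≤ finrank k (LinearMap.ker (x + 1)) := by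
  have hmem : ∀ v, (1 - x + x ^ 2 - x ^ 3 : End k V) v ∈ LinearMap.ker (x + 1) := by
    intro v
    rw [LinearMap.mem_ker, ← Module.End.mul_apply]
    have e : (x + 1) * (1 - x + x ^ 2 - x ^ 3) = 1 - x ^ 4 := by noncomm_ring
    rw [e, hx4, sub_self, LinearMap.zero_apply]
  refine LinearMap.finrank_le_finrank_of_injective
    (f := ((1 - x + x ^ 2 - x ^ 3).codRestrict (LinearMap.ker (x + 1)) hmem).comp (JS a b (Sec m)).subtype) ?_
  rw [← LinearMap.ker_eq_bot, LinearMap.ker_eq_bot']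
  rintro ⟨v, hv⟩ h
  have h1 := congrArg Subtype.val h
  refine Subtype.ext (inj_aux hm hab hxa hxb hv ?_)
  exact h1

theorem range_le [FiniteDimensional k V] [IsAlgClosed k] (hmk : (m : k) ≠ 0) (ha : a ^ m = 1) (hb : b ^ m = 1)
    (hab : Commute a b) : LinearMap.range (a - 1) ≤ JS a b (Free m) := by
  rintro _ ⟨v, rfl⟩
  have hv : v ∈ ⨆ c, JE a b c := by
    rw [iSup_JE hab (isSemisimple_of_pow hmk ha) (isSemisimple_of_pow hmk hb)]
    exact Submodule.mem_top
  have h1 : (⨆ c, JE a b c) ≤ (JS a b (Free m)).comap (a - 1) := by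
    refine iSup_le fun c u hu => ?_
    rw [Submodule.mem_comap]
    by_cases hu0 : u = 0
    · rw [hu0, map_zero]; exact zero_mem _
    obtain ⟨hu1, hu2⟩ := mem_JE.1 hu
    have hpow : ∀ (f : End k V) (μ : k), f u = μ • u → ∀ n : ℕ, (f ^ n) u = μ ^ n • u := by
      intro f μ hf n
      induction n with
      | zero => simp
      | succ n ih => rw [pow_succ, Module.End.mul_apply, hf, map_smul, ih, smul_smul, pow_succ']
    have hm1 : ∀ (f : End k V) (μ : k), f u = μ • u → f ^ m = 1 → μ ^ m = 1 := by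
      intro f μ hf h1
      have h2 := hpow f μ hf m
      rw [h1, Module.End.one_apply] at h2
      by_contra hne
      apply hu0
      have h3 : (μ ^ m - 1) • u = 0 := by rw [sub_smul, one_smul, ← h2, sub_self]
      exact (smul_eq_zero.1 h3).resolve_left (sub_ne_zero.2 hne)
    by_cases hc : c = 1
    · rw [LinearMap.sub_apply, hu1, hc]
      simp
    · refine JE_le_JS (c := c) (show c ∈ Free (k := k) m from ⟨hm1 a _ hu1 ha, hm1 b _ hu2 hb, hc⟩) ?_
      rw [LinearMap.sub_apply, hu1, Module.End.one_apply]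
      exact sub_mem (Submodule.smul_mem _ _ hu) hu
  exact h1 hv

/-- **The rank bound.** -/
theorem finrank_range_le [FiniteDimensional k V] [IsAlgClosed k] (hm : Odd m) (hmk : (m : k) ≠ 0) (hx4 : x ^ 4 = 1)
    (ha : a ^ m = 1) (hb : b ^ m = 1) (hab : Commute a b)
    (hxa : ∀ v, x (a v) = b (x v)) (hxb : ∀ v, a (x (b v)) = x v) :
    finrank k (LinearMap.range (a - 1)) ≤ 4 * finrank k (LinearMap.ker (x + 1)) := by
  have hm0 : m ≠ 0 := by rintro rfl; exact absurd hm (by decide)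
  have h1 := (range_le hmk ha hb hab).trans (JS_free_le hm0 hx4 hxa hxb)
  refine (Submodule.finrank_mono h1).trans ?_
  have h2 : ∀ j : ℕ, finrank k ((JS a b (Sec m)).map (x ^ j)) ≤ finrank k (LinearMap.ker (x + 1)) := fun j =>
    (Submodule.finrank_map_le _ _).trans (finrank_sec_le hm hx4 hab hxa hxb)
  rw [show (⨆ j : Fin 4, (JS a b (Sec m)).map (x ^ (j : ℕ))) = (JS a b (Sec m)).map (x ^ 0) ⊔
    ((JS a b (Sec m)).map (x ^ 1) ⊔ ((JS a b (Sec m)).map (x ^ 2) ⊔ (JS a b (Sec m)).map (x ^ 3))) from ?_]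
  · have h3 := Submodule.finrank_add_le_finrank_add_finrank ((JS a b (Sec m)).map (x ^ 0))
      ((JS a b (Sec m)).map (x ^ 1) ⊔ ((JS a b (Sec m)).map (x ^ 2) ⊔ (JS a b (Sec m)).map (x ^ 3)))
    have h4 := Submodule.finrank_add_le_finrank_add_finrank ((JS a b (Sec m)).map (x ^ 1))
      ((JS a b (Sec m)).map (x ^ 2) ⊔ (JS a b (Sec m)).map (x ^ 3))
    have h5 := Submodule.finrank_add_le_finrank_add_finrank ((JS a b (Sec m)).map (x ^ 2))
      ((JS a b (Sec m)).map (x ^ 3))
    have := h2 0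
    have := h2 1
    have := h2 2
    have := h2 3
    omega
  · apply le_antisymm
    · refine iSup_le fun j => ?_
      fin_cases j
      · exact le_sup_left
      · exact le_sup_left.trans le_sup_right
      · exact (le_sup_left.trans le_sup_right).trans le_sup_right
      · exact (le_sup_right.trans le_sup_right).trans le_sup_right
    · have h6 := le_iSup (fun j : Fin 4 => (JS a b (Sec m)).map (x ^ (j : ℕ)))
      exact sup_le (h6 0) (sup_le (h6 1) (sup_le (h6 2) (h6 3)))

end Cfsg.Agent.H167.EX.Rot
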