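import Cfsg.Agent.H167.EX.Cen

/-!
# Centralisers of sets of toral elements of `q`-power order (helper167, S4312, exceptional groups)

* `pow_mem_set` : `S ⊆ T` a set of elements of `q`-power order, `g` commutes with the elements of `S`: some
  `g ^ q ^ m` lies in `⟨X_a : χ_a = 1 on S⟩ T`.
-/

set_option autoImplicit false
set_option linter.unusedSectionVars false

namespace Cfsg.Agent.H167.EX

open CoxeterSystem Cfsg Cfsg.Lie Cfsg.Lie.ChevalleyDatum
open Cfsg.Agent.ChevalleyStructure Cfsg.Agent.ChevalleyStructure.Elts Cfsg.Agent.ChevalleyStructure.CoxeterGeom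
  Cfsg.Agent.ChevalleyStructure.CoxeterGeomTypes Cfsg.Agent.ChevalleyStructure.NPerm
open Cfsg.Agent.Tits.Roots Cfsg.Agent.Tits.Core Cfsg.Agent.Tits.RootComb Cfsg.Agent.Tits.Exchange
  Cfsg.Agent.Nodes Cfsg.Agent.Nodes.Reps Cfsg.Agent.Nodes.BNOf
  Cfsg.Agent.Nodes.RGDChev Cfsg.Agent.Nodes.Bruhat Cfsg.Agent.Nodes.NormalForm Cfsg.Agent.Nodes.StabComb
  Cfsg.Agent.Nodes.OppDec Cfsg.Agent.Nodes.LeviDec Cfsg.Agent.Nodes.SubComb Cfsg.Agent.Nodes.Coroot
open Cfsg.Agent.KFacts.RgdField Cfsg.Agent.KFacts.RgdChevCoord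
open Cfsg.Agent.BpExc Cfsg.Agent.BpExc.TorCent Cfsg.Agent.BpExc.TorChev Cfsg.Agent.BpExc.Tow
  Cfsg.Agent.BpExc.TowChev Cfsg.Agent.BpExc.Fr Cfsg.Agent.BpExc.Pair Cfsg.Agent.BpExc.LangFr Cfsg.Agent.GpExc.Field
  Cfsg.Agent.BpExc.TorAll
open Cfsg.Agent.H469.Exc Cfsg.Agent.H469.Exc.SigFr
open Module

/-! ### the general RGD statement -/

namespace SetC

variable {I W Y : Type*} [Fintype I] [DecidableEq I] [Group W] [Group Y] {M : CoxeterMatrix I}
  {cs : CoxeterSystem M W} {A : I → I → ℤ} {h : IsCartan M A} {p : ℕ} {T : Subgroup Y} {n : I → Y}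
  {X : (I → ℤ) → Subgroup Y} {F : Type*} [Field F] {xx : (I → ℤ) → F → Y} {χ : (I → ℤ) → Y → F}

/-- the roots centralised by `S` -/
def Sxs (cs : CoxeterSystem M W) (h : IsCartan M A) (χ : (I → ℤ) → Y → F) (S : Set Y) : Set (I → ℤ) :=
  {a | IsRoot cs h a ∧ ∀ x ∈ S, χ a x = 1}

/-- the group generated by the root groups centralised by `S` -/
def MMs (cs : CoxeterSystem M W) (h : IsCartan M A) (X : (I → ℤ) → Subgroup Y) (χ : (I → ℤ) → Y → F) (S : Set Y) :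
    Subgroup Y := RGD.Sup X (Sxs cs h χ S)

/-- the elements of `W` preserving the characters on `S` and the positive system of `Sxs` -/
def PPs (cs : CoxeterSystem M W) (h : IsCartan M A) (χ : (I → ℤ) → Y → F) (S : Set Y) [Finite W] : Subgroup W :=
  { carrier := {w | (∀ a, IsRoot cs h a → ∀ x ∈ S, χ (rep cs h w a) x = χ a x) ∧
      ∀ a ∈ Sxs cs h χ S, 0 ≤ a → 0 ≤ rep cs h w a}
    one_mem' := by
      refine ⟨fun a _ x _ => ?_, fun a _ h0 => ?_⟩
      · rw [map_one, Module.End.one_apply]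
      · rwa [map_one, Module.End.one_apply]
    mul_mem' := by
      rintro v w ⟨h1, h2⟩ ⟨h3, h4⟩
      refine ⟨fun a ha x hx => ?_, fun a ha h0 => ?_⟩
      · rw [rep_mul_apply, h1 _ (ha.act w) x hx, h3 a ha x hx]
      · rw [rep_mul_apply]
        exact h2 _ ⟨ha.1.act w, fun x hx => by rw [h3 a ha.1 x hx, ha.2 x hx]⟩ (h4 a ha h0)
    inv_mem' := by
      rintro w ⟨h1, h2⟩
      have h3 : ∀ a, IsRoot cs h a → ∀ x ∈ S, χ (rep cs h w⁻¹ a) x = χ a x := fun a ha x hx => by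
        rw [← h1 _ (ha.act w⁻¹) x hx, rep_apply_inv]
      refine ⟨h3, fun a ha h0 => ?_⟩
      rcases (ha.1.act w⁻¹).pos_or_neg with h4 | h4
      · exact h4
      · exfalso
        have h6 : ∀ m : ℕ, 0 ≤ rep cs h (w ^ m) a := by
          intro m
          induction m with
          | zero => rwa [pow_zero, map_one, Module.End.one_apply]
          | succ m ih =>
            rw [pow_succ', rep_mul_apply]
            refine h2 _ ⟨ha.1.act _, fun x hx => ?_⟩ ih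
            clear ih
            induction m with
            | zero => rw [pow_zero, map_one, Module.End.one_apply]; exact ha.2 x hx
            | succ m ih => rw [pow_succ', rep_mul_apply, h1 _ (ha.1.act _) x hx, ih]
        have h7 := h6 (orderOf w - 1)
        have h8 : w ^ (orderOf w - 1) = w⁻¹ := by
          have h9 : w ^ (orderOf w - 1) * w = 1 := by
            rw [← pow_succ, Nat.sub_add_cancel (orderOf_pos w), pow_orderOf_eq_one]
          exact eq_inv_of_mul_eq_one_left h9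
        rw [h8] at h7
        exact (ha.1.act w⁻¹).not_pos_neg h7 h4 }

theorem mem_PPs [Finite W] {S : Set Y} {w : W} : w ∈ PPs cs h χ S ↔
    (∀ a, IsRoot cs h a → ∀ x ∈ S, χ (rep cs h w a) x = χ a x) ∧
      ∀ a ∈ Sxs cs h χ S, 0 ≤ a → 0 ≤ rep cs h w a := Iff.rfl

/-- **`PPs` is a `q`-group.** -/
theorem isPGroup_PPs [Finite W] (hA : ChAdd cs h T χ) {S : Set Y} (hS : S ⊆ T) {l : ℕ} (hl : l.Prime)
    (hxl : ∀ x ∈ S, ∀ a, IsRoot cs h a → ∃ j : ℕ, χ a x ^ l ^ j = 1) : IsPGroup l (PPs cs h χ S) := by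
  classical
  have hfac : Fact l.Prime := ⟨hl⟩
  rw [IsPGroup.iff_card]
  refine ⟨(Nat.card (PPs cs h χ S)).primeFactorsList.length, ?_⟩
  apply Nat.eq_prime_pow_of_unique_prime_dvd Nat.card_pos.ne'
  intro q hq hqd
  have hqf : Fact q.Prime := ⟨hq⟩
  obtain ⟨⟨w, hwP⟩, hw⟩ := exists_prime_orderOf_dvd_card' q hqd
  have hwo : orderOf w = q := by rw [← hw]; exact (Subgroup.orderOf_mk w hwP).symm
  have hw1 : w ≠ 1 := by
    rintro rfl
    rw [orderOf_one] at hwo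
    exact hq.one_lt.ne hwo
  obtain ⟨a, ha, hsum⟩ := Fix.exists_root_sum_eq_zero (cs := cs) (h := h) hw1 hq.pos
    (by rw [← hwo]; exact pow_orderOf_eq_one w)
  by_contra hqp
  have h3 : ∀ x ∈ S, χ a x = 1 := by
    intro x hx
    obtain ⟨φ, hφ0, hφ, hχ⟩ := hA x (hS hx)
    have h1 : ∀ m : ℕ, φ (∑ i ∈ Finset.range m, rep cs h (w ^ i) a) = φ a ^ m := by
      intro m
      induction m with
      | zero => rw [Finset.sum_range_zero, hφ0, pow_zero]
      | succ m ih =>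
        rw [Finset.sum_range_succ, hφ, ih, ← hχ _ (ha.act _),
          (mem_PPs.1 ((PPs cs h χ S).pow_mem hwP m)).1 a ha x hx, hχ a ha, pow_succ]
    have h2 : χ a x ^ q = 1 := by rw [hχ a ha, ← h1 q, hsum, hφ0]
    obtain ⟨j, hj⟩ := hxl x hx a ha
    have hcop : Nat.Coprime (l ^ j) q := Nat.Coprime.pow_left _ ((Nat.coprime_primes hl hq).2 (Ne.symm hqp))
    have h4 : orderOf (χ a x) ∣ l ^ j := orderOf_dvd_of_pow_eq_one hj
    have h5 : orderOf (χ a x) ∣ q := orderOf_dvd_of_pow_eq_one h2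
    have h6 := Nat.dvd_gcd h4 h5
    rw [hcop, Nat.dvd_one] at h6
    exact orderOf_eq_one_iff.1 h6
  have hmem : ∀ i : ℕ, rep cs h (w ^ i) a ∈ Sxs cs h χ S := fun i =>
    ⟨ha.act _, fun x hx => by rw [(mem_PPs.1 ((PPs cs h χ S).pow_mem hwP i)).1 a ha x hx, h3 x hx]⟩
  have hzero : ht (∑ i ∈ Finset.range q, rep cs h (w ^ i) a) = 0 := by
    rw [hsum]; unfold ht; simp
  have hsumht : ∀ s : Finset ℕ, ht (∑ i ∈ s, rep cs h (w ^ i) a) = ∑ i ∈ s, ht (rep cs h (w ^ i) a) := fun s => by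
    have := map_sum Nodes.Slope.htHom (fun i => rep cs h (w ^ i) a) s
    exact this
  rw [hsumht] at hzero
  rcases ha.pos_or_neg with h4 | h4
  · have hpos : ∀ i : ℕ, 0 < ht (rep cs h (w ^ i) a) := fun i =>
      RGD.ht_pos (ha.act _) ((mem_PPs.1 ((PPs cs h χ S).pow_mem hwP i)).2 a ⟨ha, h3⟩ h4)
    have h6 : 0 < ∑ i ∈ Finset.range q, ht (rep cs h (w ^ i) a) :=
      Finset.sum_pos (fun i _ => hpos i) ⟨0, Finset.mem_range.2 hq.pos⟩
    omega
  · have hna : -a ∈ Sxs cs h χ S := by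
      refine ⟨ha.neg, fun x hx => ?_⟩
      obtain ⟨φ, hφ0, hφ, hχ⟩ := hA x (hS hx)
      have h5 := hφ a (-a)
      rw [add_neg_cancel, hφ0, ← hχ a ha, h3 x hx, one_mul, ← hχ _ ha.neg] at h5
      exact h5.symm
    have hneg : ∀ i : ℕ, ht (rep cs h (w ^ i) a) < 0 := by
      intro i
      have h5 := RGD.ht_pos (ha.neg.act (w ^ i)) ((mem_PPs.1 ((PPs cs h χ S).pow_mem hwP i)).2 (-a) hna
        (neg_nonneg.2 h4))
      have h6 : ht (rep cs h (w ^ i) (-a)) = - ht (rep cs h (w ^ i) a) := by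
        rw [map_neg]; unfold ht; simp
      omega
    have h6 : ∑ i ∈ Finset.range q, ht (rep cs h (w ^ i) a) < 0 :=
      Finset.sum_neg (fun i _ => hneg i) ⟨0, Finset.mem_range.2 hq.pos⟩
    omega

variable (R : RGD cs h p T n X) (C : Coords cs h T n X xx χ)

section Elt

variable {S : Set Y} (hS : S ⊆ T)

include C hS

theorem chi_neg (hA : ChAdd cs h T χ) {a : I → ℤ} (ha : a ∈ Sxs cs h χ S) : -a ∈ Sxs cs h χ S := by
  refine ⟨ha.1.neg, fun x hx => ?_⟩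
  obtain ⟨φ, h0, hadd, hφ⟩ := hA x (hS hx)
  have h1 := hadd a (-a)
  rw [add_neg_cancel, h0, ← hφ a ha.1, ha.2 x hx, one_mul, ← hφ _ ha.1.neg] at h1
  exact h1.symm

/-- The root groups of `Sxs` centralise `S`. -/
theorem X_le_centralizer {a : I → ℤ} (ha : a ∈ Sxs cs h χ S) : X a ≤ Subgroup.centralizer S := by
  intro u hu
  rw [Subgroup.mem_centralizer_iff]
  intro x hx
  exact (Subgroup.mem_centralizer_singleton_iff.1
    (TorCent.X_le_centralizer C (hS hx) (a := a) ⟨ha.1, ha.2 x hx⟩ hu)).symm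

theorem MMs_le_centralizer : MMs cs h X χ S ≤ Subgroup.centralizer S :=
  RGD.Sup_le fun _ ha => X_le_centralizer C hS ha

theorem mem_Sxs_of_centralizer {a : I → ℤ} (ha : IsRoot cs h a) {u : Y} (hu : u ∈ X a) (h1 : u ≠ 1)
    (hc : u ∈ Subgroup.centralizer S) : a ∈ Sxs cs h χ S :=
  ⟨ha, fun x hx => (TorCent.mem_Sx_of_centralizer C (hS hx) ha hu h1
    (Subgroup.mem_centralizer_singleton_iff.2 (Subgroup.mem_centralizer_iff.1 hc x hx).symm)).2⟩

theorem Sup_centralizer_le (S' : Set (I → ℤ)) (hS' : ∀ a ∈ S', IsRoot cs h a) :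
    RGD.Sup (fun a => X a ⊓ Subgroup.centralizer S) S' ≤ MMs cs h X χ S := by
  refine RGD.Sup_le fun a ha => ?_
  rintro u ⟨hu, hc⟩
  by_cases h1 : u = 1
  · rw [h1]; exact one_mem _
  · exact RGD.le_Sup (mem_Sxs_of_centralizer C hS (hS' a ha) hu h1 hc) hu

theorem chi_of_centralizer {w : W} {k : Y} (hk : Rp cs R.nsys w k) (hc : k ∈ Subgroup.centralizer S) {a : I → ℤ}
    (ha : IsRoot cs h a) {x : Y} (hx : x ∈ S) : χ (rep cs h w a) x = χ a x :=
  TorCent.chi_of_centralizer R C (hS hx) hk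
    (Subgroup.mem_centralizer_singleton_iff.2 (Subgroup.mem_centralizer_iff.1 hc x hx).symm) ha

theorem cj_MMs {w : W} {k : Y} (hk : Rp cs R.nsys w k) (hc : k ∈ Subgroup.centralizer S) :
    cj k (MMs cs h X χ S) = MMs cs h X χ S := by
  unfold MMs
  rw [KFacts.RgdPar.cj_Sup_eq R hk (fun a ha => ha.1)]
  congr 1
  ext a
  constructor
  · rintro ⟨h1, h2⟩
    have h3 : IsRoot cs h a := by
      have := h1.act w
      rwa [rep_apply_inv] at this
    refine ⟨h3, fun x hx => ?_⟩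
    have h2' := h2 x hx
    rw [← chi_of_centralizer R C hS hk hc (h3.act w⁻¹) hx, rep_apply_inv] at h2'
    exact h2'
  · rintro ⟨h1, h2⟩
    refine ⟨h1.act w⁻¹, fun x hx => ?_⟩
    rw [← chi_of_centralizer R C hS hk hc (h1.act w⁻¹) hx, rep_apply_inv]
    exact h2 x hx

/-- **The form of the elements of the centraliser.** -/
theorem exists_form [Finite W] (hTc : ∀ s ∈ T, ∀ t ∈ T, s * t = t * s) (hA : ChAdd cs h T χ) {g : Y}
    (hg : g ∈ GG cs h T X) (hc : g ∈ Subgroup.centralizer S) :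
    ∃ w ∈ PPs cs h χ S, ∃ k ∈ Subgroup.centralizer S, Rp cs R.nsys w k ∧ k⁻¹ * g ∈ MMs cs h X χ S ⊔ T := by
  have hTx : T ≤ Subgroup.centralizer S := fun t ht => by
    rw [Subgroup.mem_centralizer_iff]; exact fun x hx => hTc x (hS hx) t ht
  obtain ⟨u, hu, w, k, hk, hkc, v, hv, rfl⟩ := mem_centralizer R (S := S) hS hg hc
  have hu' := Sup_centralizer_le C hS _ (fun a ha => ha.1) hu
  have hv' := Sup_centralizer_le C hS _ (fun a ha => ha.1) hv
  let V : Subgroup W :=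
    { carrier := {v | ∃ m ∈ MMs cs h X χ S ⊔ T, Rp cs R.nsys v m}
      one_mem' := ⟨1, one_mem _, rp_one⟩
      mul_mem' := by
        rintro a b ⟨m, hm, hm'⟩ ⟨m', hm1, hm2⟩
        exact ⟨m * m', mul_mem hm hm1, hm'.mul hm2⟩
      inv_mem' := by
        rintro a ⟨m, hm, hm'⟩
        exact ⟨m⁻¹, inv_mem hm, hm'.inv⟩ }
  have hV : ∀ a ∈ Sxs cs h χ S, ∃ w i, a = rep cs h w (sr i) ∧ rfl' cs w i ∈ V := by
    intro a ha
    obtain ⟨⟨w, i, hw⟩, h2⟩ := id ha
    refine ⟨w, i, hw, ?_⟩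
    obtain ⟨m, hm, hm'⟩ := exists_rfl R w i
    refine ⟨m, ?_, hm'⟩
    rw [← hw] at hm
    exact (sup_le le_sup_right (sup_le (le_trans (RGD.le_Sup ha) le_sup_left)
      (le_trans (RGD.le_Sup (chi_neg C hS hA ha)) le_sup_left)) :
      T ⊔ (X a ⊔ X (-a)) ≤ MMs cs h X χ S ⊔ T) hm
  obtain ⟨v₁, ⟨m, hm, hm'⟩, hv₁⟩ := exists_adjust (cs := cs) (h := h) (Sxs cs h χ S) V hV w
  have hmc : m ∈ Subgroup.centralizer S := (sup_le (MMs_le_centralizer C hS) hTx : _ ≤ _) hm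
  have hkm : Rp cs R.nsys (w * v₁) (k * m) := hk.mul hm'
  have hkmc : k * m ∈ Subgroup.centralizer S := mul_mem hkc hmc
  refine ⟨w * v₁, ⟨fun a ha x hx => chi_of_centralizer R C hS hkm hkmc ha hx, hv₁⟩, k * m, hkmc, hkm, ?_⟩
  have h1 : (k * m)⁻¹ * (u * k * v) = ((k * m)⁻¹ * u * (k * m)) * (m⁻¹ * v) := by group
  rw [h1]
  refine mul_mem (Subgroup.mem_sup_left ?_) (mul_mem (inv_mem hm) (Subgroup.mem_sup_left hv'))
  rw [← mem_cj, cj_MMs R C hS hkm hkmc]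
  exact hu'

include R in
/-- **Modulo `MMs T` the centraliser is a `q`-group.** -/
theorem exists_pow_mem [Finite W] (hTc : ∀ s ∈ T, ∀ t ∈ T, s * t = t * s) (hA : ChAdd cs h T χ) {l : ℕ}
    (hl : l.Prime) (hxl : ∀ x ∈ S, ∀ a, IsRoot cs h a → ∃ j : ℕ, χ a x ^ l ^ j = 1) {g : Y} (hg : g ∈ GG cs h T X)
    (hc : g ∈ Subgroup.centralizer S) : ∃ m : ℕ, g ^ l ^ m ∈ MMs cs h X χ S ⊔ T := by
  obtain ⟨w, hw, k, hkc, hk, hm⟩ := exists_form R C hS hTc hA hg hc
  obtain ⟨m, hm1⟩ := isPGroup_PPs hA hS hl hxl ⟨w, hw⟩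
  have hw1 : w ^ l ^ m = 1 := congrArg Subtype.val hm1
  have hkn : k ∈ Subgroup.normalizer ((MMs cs h X χ S ⊔ T : Subgroup Y) : Set Y) :=
    mem_normalizer_iff_cj.2 (by rw [cj_sup, cj_MMs R C hS hk hkc, cj_T R hk])
  have h1 : ∀ j : ℕ, (k ^ j)⁻¹ * g ^ j ∈ MMs cs h X χ S ⊔ T := by
    intro j
    induction j with
    | zero => rw [pow_zero, pow_zero, inv_one, one_mul]; exact one_mem _
    | succ j ih =>
      have h2 : (k ^ (j + 1))⁻¹ * g ^ (j + 1) = k⁻¹ * ((k ^ j)⁻¹ * g ^ j) * k * (k⁻¹ * g) := by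
        rw [pow_succ, pow_succ]; group
      rw [h2]
      refine mul_mem ?_ hm
      have h3 := (Subgroup.mem_normalizer_iff.1 (inv_mem hkn) ((k ^ j)⁻¹ * g ^ j)).1 ih
      rwa [inv_inv] at h3
  have h2 : ∀ j : ℕ, Rp cs R.nsys (w ^ j) (k ^ j) := by
    intro j
    induction j with
    | zero => rw [pow_zero, pow_zero]; exact rp_one
    | succ j ih => rw [pow_succ, pow_succ]; exact ih.mul hk
  refine ⟨m, ?_⟩
  have h3 := h2 (l ^ m)
  rw [hw1] at h3
  have h4 : g ^ l ^ m = k ^ l ^ m * ((k ^ l ^ m)⁻¹ * g ^ l ^ m) := by group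
  rw [h4]
  exact mul_mem (Subgroup.mem_sup_right h3.mem_of_one) (h1 _)

end Elt

end SetC

/-! ### the exceptional groups -/

universe u v

variable {D : ChevalleyDatum} {l : ℕ} {M : CoxeterMatrix (Fin l)} (hp : IsType D l M) {k : Type u} [Field k]

theorem ch_pow_fin {K : Type u} [Field K] [Finite K] (p : ℕ) [Fact p.Prime] [CharP K p] {a : Fin l → ℤ}
    (ha : IsRoot M.toCoxeterSystem hp.isCartan a) {x : ↥(D.group K)} (hx : x ∈ TT D K) (m : ℕ) :
    ch hp a (x ^ m) = ch hp a x ^ m := by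
  have C := coords (K := K) hp M.toCoxeterSystem p
  induction m with
  | zero =>
    have h1 := (C.coord a ha).chi_mul (one_mem (TT D K)) (one_mem _)
    rw [mul_one] at h1
    rw [pow_zero, pow_zero]
    exact (mul_eq_left₀ ((C.coord a ha).chi_ne_zero (one_mem _))).1 h1.symm
  | succ m ih => rw [pow_succ, pow_succ, (C.coord a ha).chi_mul (pow_mem hx m) hx, ih]

theorem pow_mem_set_fin {K : Type u} [Field K] [Finite K] (p : ℕ) [Fact p.Prime] [CharP K p]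
    {S : Set ↥(D.group K)} (hS : S ⊆ TT D K) {q : ℕ} (hq : q.Prime) (hSq : ∀ x ∈ S, ∃ j : ℕ, x ^ q ^ j = 1)
    {g : ↥(D.group K)} (hg : ∀ x ∈ S, g * x = x * g) :
    ∃ m : ℕ, g ^ q ^ m ∈ SetC.MMs M.toCoxeterSystem hp.isCartan (XX D l K) (ch hp) S ⊔ TT D K := by
  have := finite_W hp M.toCoxeterSystem
  have R := rgd (K := K) hp M.toCoxeterSystem p
  have C := coords (K := K) hp M.toCoxeterSystem p
  refine SetC.exists_pow_mem R C hS (TT_comm hp) (chAdd hp M.toCoxeterSystem p) hq (fun x hx a ha => ?_) ?_ ?_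
  · obtain ⟨j, hj⟩ := hSq x hx
    refine ⟨j, ?_⟩
    rw [← ch_pow_fin hp p ha (hS hx), hj, ← pow_zero x, ch_pow_fin hp p ha (hS hx), pow_zero]
  · rw [GG_top hp M.toCoxeterSystem]
    exact Subgroup.mem_top g
  · rw [Subgroup.mem_centralizer_iff]
    exact fun x hx => (hg x hx).symm

/-- a level of all the elements of a finite subset of the torus -/
theorem exists_TT_set (hk : LocFin k) {S : Set ↥(D.group k)} (hS : S.Finite) (hST : S ⊆ TT D k) :
    ∃ E : Lev k, ∀ E' : Lev k, E ≤ E' → ∀ t ∈ S, ∃ t' ∈ TT D ↥E'.1, emb hp.inList E'.1.subtype t' = t := by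
  induction S, hS using Set.Finite.induction_on with
  | empty =>
    obtain ⟨E⟩ := nonempty_lev hk
    exact ⟨E, fun _ _ t ht => absurd ht (Set.notMem_empty t)⟩
  | @insert a S _ _ ih =>
    obtain ⟨E, hE⟩ := ih (fun t ht => hST (Set.mem_insert_of_mem _ ht))
    obtain ⟨E', hE'⟩ := exists_TT hp hk (hST (Set.mem_insert _ _))
    obtain ⟨E'', h1, h2⟩ := dir_lev hk E E'
    refine ⟨E'', fun E₃ h3 t ht => ?_⟩
    rcases Set.mem_insert_iff.1 ht with rfl | ht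
    · exact hE' E₃ (le_trans h2 h3)
    · exact hE E₃ (le_trans h1 h3) t ht

theorem pow_mem_set_finite (hk : LocFin k) (p : ℕ) [Fact p.Prime] [CharP k p]
    {S : Set ↥(D.group k)} (hSf : S.Finite) (hS : S ⊆ TT D k) {q : ℕ} (hq : q.Prime)
    (hSq : ∀ x ∈ S, ∃ j : ℕ, x ^ q ^ j = 1) {g : ↥(D.group k)} (hg : ∀ x ∈ S, g * x = x * g) :
    ∃ m : ℕ, g ^ q ^ m ∈ SetC.MMs M.toCoxeterSystem hp.isCartan (XX D l k) (ch hp) S ⊔ TT D k := by
  obtain ⟨E1, h1⟩ := exists_TT_set hp hk hSf hS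
  obtain ⟨E2, h2⟩ := exists_level hp hk g
  obtain ⟨E, h3, h4⟩ := dir_lev hk E1 E2
  obtain ⟨g', rfl⟩ := h2 E h4
  have := charP_lev p E.1
  set f := emb hp.inList E.1.subtype with hf
  have hinj : Function.Injective f := emb_injective hp.inList _
  -- the elements of the level
  let S' : Set ↥(D.group ↥E.1) := {t | t ∈ TT D ↥E.1 ∧ f t ∈ S}
  obtain ⟨m, hm⟩ := pow_mem_set_fin (K := ↥E.1) hp p (S := S') (fun t ht => ht.1) hq (fun t ht => by
    obtain ⟨j, hj⟩ := hSq _ ht.2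
    refine ⟨j, hinj ?_⟩
    rw [map_pow, map_one]
    exact hj) (g := g') (fun t ht => by
    apply hinj
    rw [map_mul, map_mul]
    exact hg _ ht.2)
  refine ⟨m, ?_⟩
  have h5 : (SetC.MMs M.toCoxeterSystem hp.isCartan (XX D l ↥E.1) (ch hp) S' ⊔ TT D ↥E.1) ≤
      (SetC.MMs M.toCoxeterSystem hp.isCartan (XX D l k) (ch hp) S ⊔ TT D k).comap f := by
    refine sup_le (RGD.Sup_le fun a ha => ?_) ?_
    · obtain ⟨s, hs, rfl⟩ := (isRoot_iff hp M.toCoxeterSystem a).1 ha.1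
      intro y hy
      refine Subgroup.mem_sup_left (RGD.le_Sup (S := SetC.Sxs M.toCoxeterSystem hp.isCartan (ch hp) S) ?_
        (emb_X hp _ M.toCoxeterSystem ha.1 ⟨y, hy, rfl⟩))
      refine ⟨ha.1, fun x hx => ?_⟩
      obtain ⟨t', ht', rfl⟩ := h1 E h3 x hx
      rw [emb_ch hp _ hs ht', ha.2 t' ⟨ht', hx⟩, map_one]
    · intro y hy
      exact Subgroup.mem_sup_right (emb_T hp _ ⟨y, hy, rfl⟩)
  have h6 := h5 hm
  rw [Subgroup.mem_comap, map_pow] at h6
  exact h6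

/-- **`g` commutes with the toral elements of `S`, of `q`-power order: some `g ^ q ^ m` lies in
`⟨X_a : χ_a = 1 on S⟩ T`.** -/
theorem pow_mem_set (hk : LocFin k) (p : ℕ) [Fact p.Prime] [CharP k p]
    {S : Set ↥(D.group k)} (hS : S ⊆ TT D k) {q : ℕ} (hq : q.Prime)
    (hSq : ∀ x ∈ S, ∃ j : ℕ, x ^ q ^ j = 1) {g : ↥(D.group k)} (hg : ∀ x ∈ S, g * x = x * g) :
    ∃ m : ℕ, g ^ q ^ m ∈ SetC.MMs M.toCoxeterSystem hp.isCartan (XX D l k) (ch hp) S ⊔ TT D k := by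
  classical
  have := finite_W hp M.toCoxeterSystem
  have hfin := RGD.finite_roots (cs := M.toCoxeterSystem) (h := hp.isCartan)
  -- a finite subset with the same roots
  have h1 : ∀ a : Fin l → ℤ, ∃ x : ↥(D.group k), (∃ y ∈ S, ch hp a y ≠ 1) → x ∈ S ∧ ch hp a x ≠ 1 := by
    intro a
    by_cases h : ∃ y ∈ S, ch hp a y ≠ 1
    · obtain ⟨y, hy, hy'⟩ := h
      exact ⟨y, fun _ => ⟨hy, hy'⟩⟩
    · exact ⟨1, fun h' => absurd h' h⟩
  choose F hF using h1
  set S' : Set ↥(D.group k) := S ∩ (F '' {a | IsRoot M.toCoxeterSystem hp.isCartan a}) with hS'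
  obtain ⟨m, hm⟩ := pow_mem_set_finite hp hk p (S := S') ((hfin.image F).subset Set.inter_subset_right)
    (fun x hx => hS hx.1) hq (fun x hx => hSq x hx.1) (g := g) (fun x hx => hg x hx.1)
  refine ⟨m, ?_⟩
  have h2 : SetC.Sxs M.toCoxeterSystem hp.isCartan (ch hp) S' ⊆
      SetC.Sxs (F := k) M.toCoxeterSystem hp.isCartan (ch hp) S := by
    rintro a ⟨ha, h3⟩
    refine ⟨ha, ?_⟩
    by_contra hcon
    push Not at hcon
    obtain ⟨h4, h5⟩ := hF a hcon
    exact h5 (h3 _ ⟨h4, a, ha, rfl⟩)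
  have h3 : SetC.MMs M.toCoxeterSystem hp.isCartan (XX D l k) (ch hp) S' ≤
      SetC.MMs M.toCoxeterSystem hp.isCartan (XX D l k) (ch hp) S :=
    RGD.Sup_le fun a ha => RGD.le_Sup (h2 ha)
  exact (sup_le_sup_right h3 _ : _ ≤ _) hm

end Cfsg.Agent.H167.EX
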