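import Cfsg.Agent.ThreePrime.SzRel
import Cfsg.Agent.ThreePrime.SzDataExists
import Cfsg.Agent.H70.SzOut
import Cfsg.Agent.H504.SzOut

/-!
# Elements of order 4 in the Suzuki groups (helper167, S4312, exceptional groups)

* `exists_five` : an element of order 4 of a Suzuki group normalises a subgroup of order 5;
* `inner_of_four` : an automorphism `α`, `α ^ 4 = 1`, of a Suzuki group is inner.
-/

set_option autoImplicit false
set_option linter.unusedSectionVars false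

namespace Cfsg.Agent.H167.EX.SzFour

open Cfsg Cfsg.Agent.ThreePrime Cfsg.Agent.LieRecognition
open Matrix

variable {F : Type*} [Field F] {θ : F →+* F} {e : ℕ}

theorem relG (H : SzMatrix.Good F θ e) : SzMatrix.W F * H.U 0 1 * SzMatrix.W F = H.U 1 1 * SzMatrix.W F * H.U 1 0 := by
  have h2 := H.two
  have h3 : (1 : F) + 1 = 0 := by linear_combination h2
  apply Units.ext
  show SzMatrix.J F * SzMatrix.Umat θ 0 1 * SzMatrix.J F = SzMatrix.Umat θ 1 1 * SzMatrix.J F * SzMatrix.Umat θ 1 0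
  have h4 : SzMatrix.Umat θ 0 1 = !![1, 0, 1, 1; 0, 1, 0, 1; 0, 0, 1, 0; 0, 0, 0, 1] := by
    rw [SzMatrix.Umat_def]; simp
  have h5 : SzMatrix.Umat θ 1 1 = !![1, 1, 1, 1; 0, 1, 1, 0; 0, 0, 1, 1; 0, 0, 0, 1] := by
    rw [SzMatrix.Umat_def]; simp [h3]
  have h6 : SzMatrix.Umat θ 1 0 = !![1, 1, 0, 1; 0, 1, 1, 1; 0, 0, 1, 1; 0, 0, 0, 1] := by
    rw [SzMatrix.Umat_def]; simp
  rw [h4, h5, h6]
  ext i j
  fin_cases i <;> fin_cases j <;> simp [SzMatrix.J, Matrix.mul_apply, Fin.sum_univ_four, h3]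

section Rel

variable {J : Type*} [Group J] {F : Type*} [Field F] (R : SzRel.Rel J F)

include R in
theorem basic (hrel : R.w * R.u 0 1 * R.w = R.u 1 1 * R.w * R.u 1 0) :
    ∃ v : J, v ≠ 1 ∧ v ^ 5 = 1 ∧ R.u 1 1 * v * (R.u 1 1)⁻¹ = v ^ 2 ∧ R.u 1 0 * v * (R.u 1 0)⁻¹ = v ^ 3 ∧
      R.u 0 1 * v * (R.u 0 1)⁻¹ = v⁻¹ := by
  set t := R.u 1 0 with ht
  set z := R.u 0 1 with hz
  have htt : t * t = z := by rw [ht, R.u_mul_self, map_one, mul_one, hz]
  have hti : t⁻¹ = R.u 1 1 := by rw [ht, R.u_inv, map_one, mul_one, zero_add]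
  have hzz : z * z = 1 := by
    rw [hz, R.u_mul_self, map_zero, mul_zero, R.u_zero]
  have hww := R.w_mul_w
  rw [← hti] at hrel ⊢
  set w := R.w with hw
  have htz : t⁻¹ * z = z * t⁻¹ := by rw [← htt]; group
  set v := z * w with hv
  have h1 : t⁻¹ * v * t = v ^ 2 := by
    calc t⁻¹ * v * t = t⁻¹ * z * w * t := by rw [hv]; group
      _ = z * (t⁻¹ * w * t) := by rw [htz]; group
      _ = z * (w * z * w) := by rw [hrel]
      _ = v ^ 2 := by rw [hv, pow_two]; group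
  have h2 : v ^ 5 = 1 := by
    have h3 : t⁻¹ * (t⁻¹ * v * t) * t = v ^ 4 := by
      rw [h1]
      calc t⁻¹ * v ^ 2 * t = (t⁻¹ * v * t) ^ 2 := by rw [pow_two, pow_two]; group
        _ = v ^ 4 := by rw [h1, ← pow_mul]
    have h4 : t⁻¹ * (t⁻¹ * v * t) * t = w * z := by
      calc t⁻¹ * (t⁻¹ * v * t) * t = (t * t)⁻¹ * z * w * (t * t) := by rw [hv]; group
        _ = w * z := by rw [htt]; group
    have h5 : v * (w * z) = 1 := by
      calc v * (w * z) = z * (w * w) * z := by rw [hv]; group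
        _ = 1 := by rw [hww, mul_one, hzz]
    rw [← h4, h3] at h5
    rw [pow_succ']
    exact h5
  refine ⟨v, ?_, h2, ?_, ?_, ?_⟩
  · intro h
    have h3 : w = z := by
      have h4 : w = z * v := by rw [hv, ← mul_assoc, hzz, one_mul]
      rw [h4, h, mul_one]
    refine R.w_ne 0 1 1 ?_
    rw [R.d_one, mul_one]
    exact h3
  · rw [inv_inv]
    exact h1
  · have h3 : v ^ 3 = t * (t⁻¹ * v ^ 3 * t) * t⁻¹ := by group
    have h4 : t⁻¹ * v ^ 3 * t = v := by
      calc t⁻¹ * v ^ 3 * t = (t⁻¹ * v * t) ^ 3 := by rw [pow_succ, pow_two, pow_succ, pow_two]; group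
        _ = v ^ 5 * v := by rw [h1, ← pow_mul, ← pow_succ]
        _ = v := by rw [h2, one_mul]
    rw [h3, h4]
  · have h3 : z⁻¹ = z := inv_eq_of_mul_eq_one_right hzz
    have h4 : w⁻¹ = w := inv_eq_of_mul_eq_one_right hww
    calc z * v * z⁻¹ = z * z * w * z⁻¹ := by rw [hv]; group
      _ = w⁻¹ * z⁻¹ := by rw [hzz, one_mul, h4]
      _ = v⁻¹ := by rw [hv, _root_.mul_inv_rev]

include R in
theorem exists_trace [Finite F] (b : F) (h1 : ∀ x : F, x + R.θ x ≠ 1) : ∃ x : F, b + x + R.θ x = 0 ∨ b + x + R.θ x = 1 := by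
  classical
  let φ : F →+ F :=
    { toFun := fun x => x + R.θ x
      map_zero' := by rw [map_zero, add_zero]
      map_add' := fun x y => by rw [map_add]; ring }
  have hker : Nat.card φ.ker = 2 := by
    have h3 : (φ.ker : Set F) = {0, 1} := by
      ext x
      rw [SetLike.mem_coe, AddMonoidHom.mem_ker]
      constructor
      · intro h
        have h4 : R.θ x = x := by
          have h5 : x + R.θ x = 0 := h
          linear_combination h5 - x * R.two
        rcases R.fix_theta h4 with h5 | h5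
        · exact Or.inl h5
        · exact Or.inr h5
      · rintro (rfl | h)
        · exact map_zero φ
        · rw [Set.mem_singleton_iff] at h
          subst h
          show (1 : F) + R.θ 1 = 0
          rw [map_one]
          exact R.add_self 1
    have h4 : Nat.card φ.ker = Set.ncard ({0, 1} : Set F) := by
      rw [← h3]
      rfl
    rw [h4, Set.ncard_pair zero_ne_one]
  have hidx : φ.range.index = 2 := by
    have h4 : Nat.card φ.range * Nat.card φ.ker = Nat.card F := by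
      rw [mul_comm]
      have h5 := AddSubgroup.card_eq_card_quotient_mul_card_addSubgroup φ.ker
      rw [h5, mul_comm]
      congr 1
      exact (Nat.card_congr (QuotientAddGroup.quotientKerEquivRange φ).toEquiv).symm
    have h5 := φ.range.index_mul_card
    have h6 : 0 < Nat.card φ.range := Nat.card_pos
    rw [hker] at h4
    have h7 : φ.range.index * Nat.card φ.range = 2 * Nat.card φ.range := by rw [h5, ← h4, mul_comm]
    exact Nat.eq_of_mul_eq_mul_right h6 h7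
  have h8 := AddSubgroup.add_mem_iff_of_index_two hidx (a := b) (b := 1)
  have h9 : (1 : F) ∉ φ.range := by
    rintro ⟨x, hx⟩
    exact h1 x hx
  by_cases hb : b ∈ φ.range
  · obtain ⟨x, hx⟩ := hb
    refine ⟨x, Or.inl ?_⟩
    have h5 : x + R.θ x = b := hx
    linear_combination h5 + b * R.two
  · obtain ⟨x, hx⟩ := h8.2 (by tauto)
    refine ⟨x, Or.inr ?_⟩
    have h5 : x + R.θ x = b + 1 := hx
    linear_combination h5 + b * R.two

include R in
theorem not_one (x : F) : x + R.θ x ≠ 1 := by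
  intro h
  have h1 : R.θ x = 1 + x := by linear_combination h - x * R.two
  have h2 := R.sq x
  rw [h1, map_add, map_one, h1] at h2
  have h3 : x * (x - 1) = 0 := by linear_combination -h2 + R.two
  rcases mul_eq_zero.1 h3 with h4 | h4
  · rw [h4, map_zero, add_zero] at h
    exact zero_ne_one h
  · have h5 : x = 1 := sub_eq_zero.1 h4
    rw [h5, map_one] at h
    have h6 : (1 : F) = 0 := by linear_combination -h + R.two
    exact one_ne_zero h6

include R in
/-- **An element of order 4 normalises a subgroup of order 5.** -/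
theorem five_of_rel [Finite J] [Fintype F] {m : ℕ} (hm : 1 ≤ m) (hF : Fintype.card F = 2 ^ (2 * m + 1))
    (hrel : R.w * R.u 0 1 * R.w = R.u 1 1 * R.w * R.u 1 0) {y : J} (hy4 : y ^ 4 = 1) (hy2 : y ^ 2 ≠ 1) :
    ∃ v : J, v ≠ 1 ∧ v ^ 5 = 1 ∧ ∃ j : ℕ, y * v * y⁻¹ = v ^ j ∧ 5 ∣ j ^ 2 + 1 := by
  have : Fact (Nat.Prime 2) := ⟨Nat.prime_two⟩
  have conj : ∀ (g x : J), (∃ v : J, v ≠ 1 ∧ v ^ 5 = 1 ∧ ∃ j : ℕ,
      (g * x * g⁻¹) * v * (g * x * g⁻¹)⁻¹ = v ^ j ∧ 5 ∣ j ^ 2 + 1) →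
      ∃ v : J, v ≠ 1 ∧ v ^ 5 = 1 ∧ ∃ j : ℕ, x * v * x⁻¹ = v ^ j ∧ 5 ∣ j ^ 2 + 1 := by
    rintro g x ⟨v, h1, h2, j, h3, hj⟩
    refine ⟨g⁻¹ * v * g, ?_, ?_, j, ?_, hj⟩
    · intro h
      apply h1
      have : v = g * (g⁻¹ * v * g) * g⁻¹ := by group
      rw [this, h]; group
    · have h4 : (g⁻¹ * v * g) ^ 5 = g⁻¹ * v ^ 5 * g := by
        have := conj_pow (i := 5) (a := g⁻¹) (b := v)
        rw [inv_inv] at this
        exact this
      rw [h4, h2]; group
    · have h4 : (g⁻¹ * v * g) ^ j = g⁻¹ * v ^ j * g := by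
        have := conj_pow (i := j) (a := g⁻¹) (b := v)
        rw [inv_inv] at this
        exact this
      rw [h4, ← h3]; group
  obtain ⟨P, hP⟩ := R.exists_sylow_eq hm hF
  have h1 : IsPGroup 2 (Subgroup.zpowers y) := by
    rintro ⟨x, k, rfl⟩
    refine ⟨2, ?_⟩
    apply Subtype.ext
    show (y ^ k) ^ 2 ^ 2 = 1
    rw [show 2 ^ 2 = 4 by norm_num, ← zpow_natCast, zpow_comm, zpow_natCast, hy4, _root_.one_zpow]
  obtain ⟨Q, hQ⟩ := h1.exists_le_sylow
  obtain ⟨g, hg⟩ := MulAction.exists_smul_eq J Q P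
  have hgT : g * y * g⁻¹ ∈ R.T := by
    rw [← hP, ← hg]
    exact Subgroup.smul_mem_pointwise_smul _ (MulAut.conj g) _ (hQ (Subgroup.mem_zpowers y))
  obtain ⟨a, b, hab⟩ := hgT
  have ha : a ≠ 0 := by
    intro ha
    apply hy2
    have h3 := (R.u_sq_iff a b).2 ha
    rw [← hab] at h3
    have h4 : y ^ 2 = g⁻¹ * (g * y * g⁻¹ * (g * y * g⁻¹)) * g := by rw [pow_two]; group
    rw [h4, h3]; group
  refine conj g y ?_
  rw [hab]
  obtain ⟨k, hk⟩ := R.exists_sq_div (Units.mk0 a ha)⁻¹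
  refine conj (R.d k) _ ?_
  have h2 : R.d k * R.u a b * (R.d k)⁻¹ = R.u 1 (b * R.θ k) := by
    rw [R.conj_d, mul_assoc, hk]
    congr 1
    rw [Units.val_inv_eq_inv_val, Units.val_mk0, mul_inv_cancel₀ ha]
  rw [h2]
  set b' := b * R.θ k with hb'
  obtain ⟨x, hx⟩ := exists_trace R b' (not_one R)
  refine conj (R.u x 0) _ ?_
  rw [R.conj_u, map_one, one_mul, mul_one]
  obtain ⟨v, hv1, hv5, hv2, hv3, -⟩ := basic R hrel
  rcases hx with hx | hx
  · rw [hx]
    exact ⟨v, hv1, hv5, 3, hv3, by norm_num⟩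
  · rw [hx]
    exact ⟨v, hv1, hv5, 2, hv2, by norm_num⟩

end Rel

/-- **An element of order 4 of a Suzuki group normalises a subgroup of order 5.** -/
theorem exists_five {J : Type*} [Group J] [Finite J] (h : Cfsg.Lie.IsoSuzuki J) {y : J} (hy4 : y ^ 4 = 1)
    (hy2 : y ^ 2 ≠ 1) : ∃ v : J, v ≠ 1 ∧ v ^ 5 = 1 ∧ ∃ j : ℕ, y * v * y⁻¹ = v ^ j ∧ 5 ∣ j ^ 2 + 1 := by
  obtain ⟨F, iF, iF', m, hm, hc, ⟨f⟩⟩ := h
  let H := SzMatrix.good hc
  have hrel : (SzRel.ofGood H).w * (SzRel.ofGood H).u 0 1 * (SzRel.ofGood H).w =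
      (SzRel.ofGood H).u 1 1 * (SzRel.ofGood H).w * (SzRel.ofGood H).u 1 0 := Subtype.ext (relG H)
  have : Finite ↥(Cfsg.Lie.Sz F (2 ^ (m + 1))) := Finite.of_equiv J f.toEquiv
  obtain ⟨v, h1, h2, j, h3, hj⟩ := five_of_rel (SzRel.ofGood H) hm hc hrel (y := f y) (by rw [← map_pow, hy4, map_one])
    (fun h => hy2 (f.injective (by rw [map_pow, h, map_one])))
  refine ⟨f.symm v, fun h => h1 ?_, ?_, j, ?_, hj⟩
  · rw [← f.apply_symm_apply v, h, map_one]
  · rw [← map_pow, h2, map_one]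
  · apply f.injective
    rw [map_mul, map_mul, map_inv, map_pow, MulEquiv.apply_symm_apply, h3]

/-- **An involution of a Suzuki group inverts an element of order 5.** -/
theorem exists_inv {J : Type*} [Group J] [Finite J] (h : Cfsg.Lie.IsoSuzuki J) {z : J} (hz : z ≠ 1)
    (hz2 : z * z = 1) : ∃ v : J, v ≠ 1 ∧ v ^ 5 = 1 ∧ z * v * z⁻¹ = v⁻¹ := by
  obtain ⟨F, iF, iF', m, hm, hc, ⟨f⟩⟩ := id h
  let H := SzMatrix.good hc
  have hrel : (SzRel.ofGood H).w * (SzRel.ofGood H).u 0 1 * (SzRel.ofGood H).w =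
      (SzRel.ofGood H).u 1 1 * (SzRel.ofGood H).w * (SzRel.ofGood H).u 1 0 := Subtype.ext (relG H)
  obtain ⟨v, h1, h2, -, -, h3⟩ := basic (SzRel.ofGood H) hrel
  set z0 := f.symm ((SzRel.ofGood H).u 0 1) with hz0
  have h4 : z0 * z0 = 1 := by
    rw [hz0, ← map_mul, (SzRel.ofGood H).u_mul_self, map_zero, mul_zero, (SzRel.ofGood H).u_zero, map_one]
  have h5 : z0 ≠ 1 := by
    intro h6
    have h7 : (SzRel.ofGood H).u 0 1 = 1 := by
      rw [← f.apply_symm_apply ((SzRel.ofGood H).u 0 1), ← hz0, h6, map_one]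
    exact (SzRel.ofGood H).u_ne_one one_ne_zero h7
  obtain ⟨g, hg⟩ := isConj_iff.1 (Cfsg.Agent.H504.SzOut.isConj_of_isoSuzuki h h5 h4 hz hz2)
  have h6 : z0 * f.symm v * z0⁻¹ = (f.symm v)⁻¹ := by
    rw [hz0, ← map_mul, ← map_inv, ← map_mul, h3, map_inv]
  refine ⟨g * f.symm v * g⁻¹, fun h7 => h1 ?_, ?_, ?_⟩
  · have h8 : f.symm v = 1 := by
      have : f.symm v = g⁻¹ * (g * f.symm v * g⁻¹) * g := by group
      rw [this, h7]; group
    rw [← f.apply_symm_apply v, h8, map_one]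
  · rw [conj_pow, ← map_pow, h2, map_one, mul_one, mul_inv_cancel]
  · rw [← hg]
    calc g * z0 * g⁻¹ * (g * f.symm v * g⁻¹) * (g * z0 * g⁻¹)⁻¹ = g * (z0 * f.symm v * z0⁻¹) * g⁻¹ := by group
      _ = (g * f.symm v * g⁻¹)⁻¹ := by rw [h6]; group

/-- a Suzuki group has an element of order 5 -/
theorem exists_ord {J : Type*} [Group J] (h : Cfsg.Lie.IsoSuzuki J) : ∃ v : J, v ≠ 1 ∧ v ^ 5 = 1 := by
  obtain ⟨F, iF, iF', m, hm, hc, ⟨f⟩⟩ := id h
  let H := SzMatrix.good hc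
  have hrel : (SzRel.ofGood H).w * (SzRel.ofGood H).u 0 1 * (SzRel.ofGood H).w =
      (SzRel.ofGood H).u 1 1 * (SzRel.ofGood H).w * (SzRel.ofGood H).u 1 0 := Subtype.ext (relG H)
  obtain ⟨v, h1, h2, -⟩ := basic (SzRel.ofGood H) hrel
  refine ⟨f.symm v, fun h => h1 ?_, ?_⟩
  · rw [← f.apply_symm_apply v, h, map_one]
  · rw [← map_pow, h2, map_one]

/-- **An automorphism of a Suzuki group of order dividing 4 is inner.** -/
theorem inner_of_four {J : Type*} [Group J] (h : Cfsg.Lie.IsoSuzuki J) {α : MulAut J} (hα : α ^ 4 = 1) :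
    ∃ g : J, α = MulAut.conj g := by
  obtain ⟨F, iF, iF', m, hm, hc, ⟨f⟩⟩ := h
  let β : MulAut ↥(Cfsg.Lie.Sz F (2 ^ (m + 1))) := (f.symm.trans α).trans f
  have hb : ∀ (n : ℕ) (x : ↥(Cfsg.Lie.Sz F (2 ^ (m + 1)))), (β ^ n) x = f ((α ^ n) (f.symm x)) := by
    intro n
    induction n with
    | zero => intro x; rw [pow_zero, pow_zero]; exact (f.apply_symm_apply x).symm
    | succ n ih =>
      intro x
      rw [pow_succ α, pow_succ β, MulAut.mul_apply, MulAut.mul_apply, ih]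
      show f ((α ^ n) (f.symm (f (α (f.symm x))))) = _
      rw [f.symm_apply_apply]
  have hβ : β ^ 4 = 1 := by
    ext1 x
    rw [hb, hα, MulAut.one_apply, MulAut.one_apply, f.apply_symm_apply]
  have h1 : (QuotientGroup.mk β : Out ↥(Cfsg.Lie.Sz F (2 ^ (m + 1)))) = 1 := by
    have h2 : (QuotientGroup.mk β : Out ↥(Cfsg.Lie.Sz F (2 ^ (m + 1)))) ^ 4 = 1 := by
      rw [← QuotientGroup.mk_pow, hβ, QuotientGroup.mk_one]
    have h3 := Cfsg.Agent.H70.SzOut.card_out hm hc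
    have h4 : Finite (Out ↥(Cfsg.Lie.Sz F (2 ^ (m + 1)))) := Nat.finite_of_card_ne_zero (by rw [h3]; omega)
    have h5 := pow_card_eq_one' (x := (QuotientGroup.mk β : Out ↥(Cfsg.Lie.Sz F (2 ^ (m + 1)))))
    rw [h3] at h5
    have h6 := orderOf_dvd_of_pow_eq_one h2
    have h7 := orderOf_dvd_of_pow_eq_one h5
    have h8 : Nat.Coprime 4 (2 * m + 1) := by
      rw [show 4 = 2 ^ 2 by norm_num]
      refine Nat.Coprime.pow_left 2 (Nat.coprime_two_left.2 ⟨m, rfl⟩)
    have h9 := Nat.dvd_gcd h6 h7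
    rw [h8] at h9
    exact orderOf_eq_one_iff.1 (Nat.dvd_one.1 h9)
  rw [QuotientGroup.eq_one_iff] at h1
  obtain ⟨g, hg⟩ := h1
  refine ⟨f.symm g, ?_⟩
  ext1 x
  have h2 : (MulAut.conj g) (f x) = β (f x) := by rw [hg]
  have h3 : β (f x) = f (α x) := by
    show f (α (f.symm (f x))) = _
    rw [f.symm_apply_apply]
  rw [h3, MulAut.conj_apply] at h2
  rw [MulAut.conj_apply]
  apply f.injective
  rw [← h2, map_mul, map_mul, map_inv, f.apply_symm_apply]

end Cfsg.Agent.H167.EX.SzFour
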