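import Cfsg.Agent.H316.U6Model
import Cfsg.Agent.H892.ElReg
import Cfsg.Agent.H944.TorAnyChev
import Cfsg.Agent.H167.EX.Rot

/-!
# The rank of a semisimple element on the adjoint module (helper167, S4312, exceptional groups)

* `nine_le` : `t ∈ TT D k`, `t ^ N = 1`, `N` prime to `6`, `t ≠ 1`: at least 9 characters of `t` are nontrivial.
-/

set_option autoImplicit false
set_option linter.unusedSectionVars false

namespace Cfsg.Agent.H167.EX

open CoxeterSystem Cfsg Cfsg.Lie Cfsg.Lie.ChevalleyDatum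
open Cfsg.Agent.ChevalleyStructure Cfsg.Agent.ChevalleyStructure.Elts Cfsg.Agent.ChevalleyStructure.CoxeterGeom
  Cfsg.Agent.ChevalleyStructure.CoxeterGeomTypes Cfsg.Agent.ChevalleyStructure.NPerm
open Cfsg.Agent.Tits.Roots Cfsg.Agent.Tits.Core Cfsg.Agent.Nodes Cfsg.Agent.Nodes.Reps Cfsg.Agent.Nodes.BNOf
  Cfsg.Agent.Nodes.RGDChev Cfsg.Agent.Nodes.Bruhat Cfsg.Agent.Nodes.NormalForm
open Cfsg.Agent.KFacts.RgdField Cfsg.Agent.KFacts.RgdChevCoord
open Cfsg.Agent.BpExc Cfsg.Agent.BpExc.TorCent Cfsg.Agent.BpExc.TorChev Cfsg.Agent.BpExc.Tow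
  Cfsg.Agent.BpExc.TowChev Cfsg.Agent.BpExc.Fr Cfsg.Agent.BpExc.Pair Cfsg.Agent.BpExc.LangFr Cfsg.Agent.GpExc.Field
open Cfsg.Agent.H469.Exc

universe u v

variable {D : ChevalleyDatum} {l : ℕ} {M : CoxeterMatrix (Fin l)} (hp : IsType D l M) {k : Type u} [Field k]

/-! ### reflections -/

include hp in
theorem cartan_reflect (i : Fin l) {r : ℕ} (hr : r < D.nroots) :
    D.cartan i (D.reflectRoot i r) = - D.cartan i r := by
  have h1 := rep_vec hp M.toCoxeterSystem i hr
  rw [rep_simple_eq, pairing_vec hp i hr] at h1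
  have h2 := pairing_vec hp i (reflectRoot_lt hp.inList (lt_rank hp i) hr)
  rw [← h1, sub_eq_add_neg, ← neg_smul, pairing_add, pairing_smul, pairing_vec hp i hr] at h2
  have h3 : pairing (cartanOf D l) i (sr i) = 2 := by
    rw [sr, pairing_single, mul_one]
    exact hp.isCartan.diag i
  rw [h3] at h2
  rw [← h2]
  ring

include hp in
theorem reflect_reflect (i : Fin l) {r : ℕ} (hr : r < D.nroots) :
    D.reflectRoot i (D.reflectRoot i r) = r := by
  have h0 := reflectRoot_lt hp.inList (lt_rank hp i) hr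
  have h1 := rep_vec hp M.toCoxeterSystem i h0
  rw [rep_simple_eq, pairing_vec hp i h0, cartan_reflect hp i hr, ← rep_vec hp M.toCoxeterSystem i hr,
    rep_simple_eq, pairing_vec hp i hr, neg_smul, sub_neg_eq_add, sub_add_cancel] at h1
  exact (vec_inj hp hr (reflectRoot_lt hp.inList (lt_rank hp i) h0) h1).symm

/-- at least 9 roots with negative pairing with each simple root -/
def cnt (D : ChevalleyDatum) (l : ℕ) : Bool :=
  (List.range l).all fun i => decide (9 ≤ ((Finset.range D.nroots).filter fun s => D.cartan i s < 0).card) &&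
    decide (∀ s < D.nroots, -3 ≤ D.cartan i s)

theorem cnt_D4 : cnt chevD4 4 = true := by decide +kernel

theorem cnt_F4 : cnt chevF4 4 = true := by decide +kernel

theorem cnt_E6 : cnt chevE6 6 = true := by decide +kernel

theorem cnt_E7 : cnt chevE7 7 = true := by decide +kernel

/-- the condition of `cnt` at one node -/
def cntAt (D : ChevalleyDatum) (i : ℕ) : Bool :=
  decide (9 ≤ ((Finset.range D.nroots).filter fun s => D.cartan i s < 0).card) &&
    decide (∀ s < D.nroots, -3 ≤ D.cartan i s)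

theorem cnt_E8_0 : cntAt chevE8 0 = true := by decide +kernel

theorem cnt_E8_1 : cntAt chevE8 1 = true := by decide +kernel

theorem cnt_E8_2 : cntAt chevE8 2 = true := by decide +kernel

theorem cnt_E8_3 : cntAt chevE8 3 = true := by decide +kernel

theorem cnt_E8_4 : cntAt chevE8 4 = true := by decide +kernel

theorem cnt_E8_5 : cntAt chevE8 5 = true := by decide +kernel

theorem cnt_E8_6 : cntAt chevE8 6 = true := by decide +kernel

theorem cnt_E8_7 : cntAt chevE8 7 = true := by decide +kernel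

theorem cnt_E8 : cnt chevE8 8 = true := by
  have h : ((List.range 8).all (cntAt chevE8)) = true := by
    rw [show List.range 8 = [0, 1, 2, 3, 4, 5, 6, 7] from rfl]
    simp only [List.all_cons, List.all_nil, cnt_E8_0, cnt_E8_1, cnt_E8_2, cnt_E8_3, cnt_E8_4, cnt_E8_5, cnt_E8_6,
      cnt_E8_7, Bool.and_true]
  exact h

theorem cnt_spec (h : cnt D l = true) (i : Fin l) :
    9 ≤ ((Finset.range D.nroots).filter fun s => D.cartan i s < 0).card ∧ ∀ s < D.nroots, -3 ≤ D.cartan i s := by
  have h1 := (List.all_eq_true.1 h) i (List.mem_range.2 i.2)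
  rw [Bool.and_eq_true, decide_eq_true_iff, decide_eq_true_iff] at h1
  exact h1

/-! ### characters of torus elements -/

theorem ch_one (p : ℕ) [Fact p.Prime] [CharP k p] (hk : LocFin k) {s : ℕ} (hs : s < D.nroots) :
    ch hp (vec D l s) (1 : ↥(D.group k)) = 1 := by
  have C := coordsL (k := k) hp M.toCoxeterSystem hk p
  have ha := isRoot_vec hp M.toCoxeterSystem hs
  have h1 := (C.coord _ ha).chi_mul (one_mem (TT D k)) (one_mem _)
  rw [mul_one] at h1
  exact (mul_eq_left₀ ((C.coord _ ha).chi_ne_zero (one_mem _))).1 h1.symm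

theorem ch_mul (p : ℕ) [Fact p.Prime] [CharP k p] (hk : LocFin k) {s : ℕ} (hs : s < D.nroots) {t u : ↥(D.group k)}
    (ht : t ∈ TT D k) (hu : u ∈ TT D k) :
    ch hp (vec D l s) (t * u) = ch hp (vec D l s) t * ch hp (vec D l s) u :=
  ((coordsL (k := k) hp M.toCoxeterSystem hk p).coord _ (isRoot_vec hp M.toCoxeterSystem hs)).chi_mul ht hu

theorem ch_pow (p : ℕ) [Fact p.Prime] [CharP k p] (hk : LocFin k) {s : ℕ} (hs : s < D.nroots) {t : ↥(D.group k)}
    (ht : t ∈ TT D k) (n : ℕ) : ch hp (vec D l s) (t ^ n) = ch hp (vec D l s) t ^ n := by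
  induction n with
  | zero => rw [pow_zero, pow_zero, ch_one hp p hk hs]
  | succ n ih => rw [pow_succ, pow_succ, ch_mul hp p hk hs (pow_mem ht n) ht, ih]

/-- a torus element with trivial characters is trivial -/
theorem eq_one_of_ch (p : ℕ) [Fact p.Prime] [CharP k p] (hk : LocFin k) {t : ↥(D.group k)} (ht : t ∈ TT D k)
    (h : ∀ s < D.nroots, ch hp (vec D l s) t = 1) : t = 1 := by
  apply Subtype.ext
  apply Units.ext
  rw [H892.El.coe_TT hp (r := p) hk ht, Subgroup.coe_one, Units.val_one, ← Matrix.diagonal_one]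
  congr 1
  funext i
  rcases i with i | i
  · rfl
  · exact h i i.2

theorem phi_one {φ : (Fin l → ℤ) → k} (h0 : φ 0 = 1) (hadd : ∀ x y, φ (x + y) = φ x * φ y)
    (hi : ∀ i, φ (sr i) = 1) (v : Fin l → ℤ) : φ v = 1 := by
  let S : AddSubgroup (Fin l → ℤ) :=
    { carrier := {v | φ v = 1}
      zero_mem' := h0
      add_mem' := by
        intro a b ha hb
        show φ (a + b) = 1
        rw [hadd, (show φ a = 1 from ha), (show φ b = 1 from hb), one_mul]
      neg_mem' := by
        intro a ha
        show φ (-a) = 1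
        have h1 := hadd a (-a)
        rw [add_neg_cancel, h0, (show φ a = 1 from ha), one_mul] at h1
        exact h1.symm }
  have h1 : v ∈ S := by
    rw [← Finset.univ_sum_single v]
    refine sum_mem fun i _ => ?_
    have h2 : (Pi.single i (v i) : Fin l → ℤ) = v i • sr i := by
      rw [sr, ← Pi.single_smul, smul_eq_mul, mul_one]
    rw [h2]
    exact zsmul_mem (show sr i ∈ S from hi i) _
  exact h1

theorem phi_smul {φ : (Fin l → ℤ) → k} (h0 : φ 0 = 1) (hadd : ∀ x y, φ (x + y) = φ x * φ y)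
    (v : Fin l → ℤ) (n : ℕ) : φ ((n : ℤ) • v) = φ v ^ n := by
  induction n with
  | zero => simp [h0]
  | succ n ih =>
    rw [Nat.cast_succ, add_smul, one_smul, hadd, ih, pow_succ]

open Classical in
/-- **At least nine nontrivial characters.** -/
theorem nine_le (p : ℕ) [Fact p.Prime] [CharP k p] (hk : LocFin k) (hc : cnt D l = true) {t : ↥(D.group k)}
    (ht : t ∈ TT D k) {N : ℕ} (hN : t ^ N = 1) (h6 : N.Coprime 6) (hne : t ≠ 1) :
    9 ≤ ((Finset.range D.nroots).filter fun s => ¬ ch hp (vec D l s) t = 1).card := by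
  obtain ⟨φ, h0, hadd, hφ⟩ := chAddL (k := k) hp M.toCoxeterSystem hk p t ht
  have hφs : ∀ s < D.nroots, ch hp (vec D l s) t = φ (vec D l s) := fun s hs =>
    hφ _ (isRoot_vec hp M.toCoxeterSystem hs)
  have hex : ∃ i : Fin l, φ (sr i) ≠ 1 := by
    by_contra hcon
    push Not at hcon
    refine hne (eq_one_of_ch hp p hk ht fun s hs => ?_)
    rw [hφs s hs]
    exact phi_one h0 hadd hcon _
  obtain ⟨i, hi⟩ := hex
  have hiN : φ (sr i) ^ N = 1 := by
    have hsi : D.simple i < D.nroots := simple_lt hp.inList (lt_rank hp i)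
    rw [← vec_simple hp i, ← hφs _ hsi, ← ch_pow hp p hk hsi ht, hN, ch_one hp p hk hsi]
  obtain ⟨h9, h3⟩ := cnt_spec hc i
  refine h9.trans ?_
  refine Finset.card_le_card_of_injOn (fun s => if φ (vec D l s) = 1 then D.reflectRoot i s else s) ?_ ?_
  · intro s hs
    rw [Finset.mem_coe, Finset.mem_filter, Finset.mem_range] at hs
    rw [Finset.mem_coe, Finset.mem_filter, Finset.mem_range]
    by_cases h1 : φ (vec D l s) = 1
    · have hlt := reflectRoot_lt hp.inList (lt_rank hp i) hs.1
      simp only [if_pos h1]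
      refine ⟨hlt, ?_⟩
      rw [hφs _ hlt]
      intro h2
      apply hi
      rw [← rep_vec hp M.toCoxeterSystem i hs.1, rep_simple_eq, pairing_vec hp i hs.1, sub_eq_add_neg, ← neg_smul,
        hadd, h1, one_mul] at h2
      obtain ⟨n, hn⟩ := Int.eq_ofNat_of_zero_le (show 0 ≤ -D.cartan i s by have := hs.2; omega)
      rw [hn, phi_smul h0 hadd] at h2
      have hn1 : n ∣ 6 := by
        have := h3 s hs.1
        have := hs.2
        have h4 : n = 1 ∨ n = 2 ∨ n = 3 := by omega
        rcases h4 with rfl | rfl | rfl <;> decide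
      have h5 : orderOf (φ (sr i)) ∣ 1 := by
        have h6' : Nat.Coprime N n := Nat.Coprime.coprime_dvd_right hn1 h6
        rw [← h6']
        exact Nat.dvd_gcd (orderOf_dvd_of_pow_eq_one hiN) (orderOf_dvd_of_pow_eq_one h2)
      exact orderOf_eq_one_iff.1 (Nat.dvd_one.1 h5)
    · simp only [if_neg h1]
      exact ⟨hs.1, by rw [hφs _ hs.1]; exact h1⟩
  · intro s hs s' hs' he
    rw [Finset.mem_coe, Finset.mem_filter, Finset.mem_range] at hs hs'
    have hcs := cartan_reflect hp i hs.1
    have hcs' := cartan_reflect hp i hs'.1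
    simp only at he
    split_ifs at he with h1 h2 h2
    · have h4 := congrArg (D.reflectRoot i) he
      rwa [reflect_reflect hp i hs.1, reflect_reflect hp i hs'.1] at h4
    · rw [he] at hcs
      have := hs.2
      have := hs'.2
      omega
    · rw [← he] at hcs'
      have := hs.2
      have := hs'.2
      omega
    · exact he

end Cfsg.Agent.H167.EX
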